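import Mathlib
import Cfsg.Agent.Lib.Stein.Laced
import Cfsg.Agent.Lib.UFP.NU

/-!
# Standard components of type `A` in characteristic two: definitions
-/

set_option autoImplicit false

namespace CfsgLib.SLA

open CfsgLib.RGD CfsgLib.Stein Subgroup
open scoped commutatorElement

universe u

variable {ι κ : Type} [Fintype κ] [DecidableEq κ]

/-- the set `T` generates all roots under sums and negatives -/
def Gen (Φ : RootSys ι κ) (T : Set ι) : Prop :=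
  ∀ T' : Set ι, T ⊆ T' → (∀ r ∈ T', Φ.neg r ∈ T') →
    (∀ a ∈ T', ∀ b ∈ T', ∀ k, RAdd Φ a b k → k ∈ T') → ∀ r, r ∈ T'

/-- an upper ideal of positive roots -/
def Idl (Φ : RootSys ι κ) (T : Set ι) : Prop :=
  (∀ r ∈ T, Φ.Pos r) ∧ ∀ r ∈ T, ∀ a, Φ.Pos a → ∀ k, RAdd Φ r a k → k ∈ T

/-- the number of positive roots -/
noncomputable def NP (Φ : RootSys ι κ) : ℕ := {r | Φ.Pos r}.ncard

/-- Root data of type `A`: the root `r` is `ε (lo r) - ε (hi r)` with indices `0, ..., m - 1`. -/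
structure ER (Φ : RootSys ι κ) where
  m : ℕ
  lo : ι → ℕ
  hi : ι → ℕ
  e : ℕ → ℕ → ι
  idx : κ → ℕ
  i₀ : κ
  i₁ : κ
  θ : ι
  β : ι
  β' : ι
  γ : Equiv.Perm ι
  three : 3 ≤ m
  lac : Laced Φ 2
  lo_lt : ∀ r, lo r < m
  hi_lt : ∀ r, hi r < m
  ne : ∀ r, lo r ≠ hi r
  ext : ∀ r s, lo r = lo s → hi r = hi s → r = s
  lo_e : ∀ i j, i < m → j < m → i ≠ j → lo (e i j) = i
  hi_e : ∀ i j, i < m → j < m → i ≠ j → hi (e i j) = j
  ip_eq : ∀ r s, ip Φ r s = (if lo r = lo s then 1 else 0) + (if hi r = hi s then 1 else 0) -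
    (if lo r = hi s then 1 else 0) - if hi r = lo s then 1 else 0
  lo_neg : ∀ r, lo (Φ.neg r) = hi r
  hi_neg : ∀ r, hi (Φ.neg r) = lo r
  ht_eq : ∀ r, Φ.ht r = (hi r : ℤ) - lo r
  radd_iff : ∀ a b k, RAdd Φ a b k ↔ (hi a = lo b ∧ lo k = lo a ∧ hi k = hi b) ∨
    (hi b = lo a ∧ lo k = lo b ∧ hi k = hi a)
  lo_simple : ∀ i, lo (Φ.simple i) = idx i
  hi_simple : ∀ i, hi (Φ.simple i) = idx i + 1
  idx_surj : ∀ j, j + 1 < m → ∃ i, idx i = j
  rt_eq : ∀ r i, Φ.rt r i = (if lo r ≤ idx i then 1 else 0) - if hi r ≤ idx i then 1 else 0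
  idx₀ : idx i₀ = 0
  idx₁ : idx i₁ + 2 = m
  lo_θ : lo θ = 0
  hi_θ : hi θ + 1 = m
  lo_β : lo β = 1
  hi_β : hi β + 1 = m
  lo_β' : lo β' = 0
  hi_β' : hi β' + 2 = m
  lo_γ : ∀ r, lo (γ r) + hi r + 1 = m
  hi_γ : ∀ r, hi (γ r) + lo r + 1 = m
  perm : ∀ π : Equiv.Perm ℕ, (∀ i, π i < m ↔ i < m) →
    ∃ w ∈ Φ.W, ∀ r, lo (w r) = π (lo r) ∧ hi (w r) = π (hi r)
  np_eq : 2 * NP Φ = m * (m - 1)

variable {Φ : RootSys ι κ}

/-- the first fundamental root -/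
def ER.α (E : ER Φ) : ι := Φ.simple E.i₀

/-- the last fundamental root -/
def ER.α' (E : ER Φ) : ι := Φ.simple E.i₁

/-- the mirror image of the coordinates -/
def ER.flip (E : ER Φ) : ER Φ where
  m := E.m
  lo r := E.m - 1 - E.hi r
  hi r := E.m - 1 - E.lo r
  e i j := E.e (E.m - 1 - j) (E.m - 1 - i)
  idx i := E.m - 2 - E.idx i
  i₀ := E.i₁
  i₁ := E.i₀
  θ := E.θ
  β := E.β'
  β' := E.β
  γ := E.γ
  three := E.three
  lac := E.lac
  lo_lt r := by have := E.three; omega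
  hi_lt r := by have := E.three; omega
  ne r := by have := E.ne r; have := E.lo_lt r; have := E.hi_lt r; omega
  ext r s h1 h2 := by
    have := E.lo_lt r; have := E.hi_lt r; have := E.lo_lt s; have := E.hi_lt s
    exact E.ext r s (by omega) (by omega)
  lo_e i j h1 h2 h3 := by rw [E.hi_e _ _ (by omega) (by omega) (by omega)]; omega
  hi_e i j h1 h2 h3 := by rw [E.lo_e _ _ (by omega) (by omega) (by omega)]; omega
  ip_eq r s := by
    have := E.lo_lt r; have := E.hi_lt r; have := E.lo_lt s; have := E.hi_lt s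
    rw [E.ip_eq]; split_ifs <;> omega
  lo_neg r := by rw [E.hi_neg]
  hi_neg r := by rw [E.lo_neg]
  ht_eq r := by have := E.lo_lt r; have := E.hi_lt r; rw [E.ht_eq]; omega
  radd_iff a b k := by
    have := E.lo_lt a; have := E.hi_lt a; have := E.lo_lt b; have := E.hi_lt b
    have := E.lo_lt k; have := E.hi_lt k
    rw [E.radd_iff]; omega
  lo_simple i := by rw [E.hi_simple]; omega
  hi_simple i := by have := E.hi_lt (Φ.simple i); rw [E.hi_simple] at this; rw [E.lo_simple]; omega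
  idx_surj j h := by
    obtain ⟨i, hi⟩ := E.idx_surj (E.m - 2 - j) (by omega)
    exact ⟨i, by omega⟩
  rt_eq r i := by
    have := E.lo_lt r; have := E.hi_lt r; have := E.hi_lt (Φ.simple i); rw [E.hi_simple] at this
    rw [E.rt_eq]; split_ifs <;> omega
  idx₀ := by have := E.idx₁; omega
  idx₁ := by have := E.idx₀; have := E.three; omega
  lo_θ := by have := E.hi_θ; omega
  hi_θ := by have := E.lo_θ; have := E.three; omega
  lo_β := by have := E.hi_β'; omega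
  hi_β := by have := E.lo_β'; have := E.three; omega
  lo_β' := by have := E.hi_β; omega
  hi_β' := by have := E.lo_β; have := E.three; omega
  lo_γ r := by have := E.hi_γ r; omega
  hi_γ r := by have := E.lo_γ r; omega
  perm π h := by
    let ρ : Equiv.Perm ℕ := Function.Involutive.toPerm (fun i => if i < E.m then E.m - 1 - i else i)
      fun i => by dsimp only; split_ifs <;> omega
    have hρ : ∀ i, i < E.m → ρ i = E.m - 1 - i := fun i hi => if_pos hi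
    have hρ' : ∀ i, ρ i < E.m ↔ i < E.m := fun i => by
      show (if i < E.m then E.m - 1 - i else i) < E.m ↔ _
      split_ifs <;> omega
    obtain ⟨w, hw, e⟩ := E.perm (ρ * π * ρ) fun i => by
      simp only [Equiv.Perm.mul_apply, hρ', h]
    refine ⟨w, hw, fun r => ?_⟩
    have h1 := E.lo_lt r
    have h2 := E.hi_lt r
    have h3 := (h (E.m - 1 - E.lo r)).2 (by omega)
    have h4 := (h (E.m - 1 - E.hi r)).2 (by omega)
    rw [(e r).1, (e r).2, Equiv.Perm.mul_apply, Equiv.Perm.mul_apply, Equiv.Perm.mul_apply,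
      Equiv.Perm.mul_apply, hρ _ h1, hρ _ h2, hρ _ h3, hρ _ h4]
    omega
  np_eq := E.np_eq

/-- the roots of the standard involution of rank `l` -/
def ER.jl (E : ER Φ) (l : ℕ) : List ι := (List.range l).map fun i => E.e i (E.m - l + i)

/-! ### Certificates for the classes of involutions -/

/-- `x_a` commutes with all `x_b`, `b ∈ B` -/
def CmB (Φ : RootSys ι κ) (B : List ι) (a : ι) : Prop := ∀ b ∈ B, 0 ≤ ip Φ a b

/-- single root generators of `Γ` -/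
def TB (Φ : RootSys ι κ) (B : List ι) (a : ι) : Prop := Φ.Pos a ∧ CmB Φ B a

/-- `x_a(c) x_a'(c)` commutes with `∏_{b ∈ B} x_b(1)` -/
def PB0 (Φ : RootSys ι κ) (B : List ι) (a a' : ι) : Prop :=
  0 ≤ ip Φ a a' ∧ ∃ b ∈ B, ∃ b' ∈ B, ∃ k, RAdd Φ a b k ∧ RAdd Φ a' b' k ∧ b ≠ b' ∧
    (∀ c ∈ B, c ≠ b → 0 ≤ ip Φ a c) ∧ ∀ c ∈ B, c ≠ b' → 0 ≤ ip Φ a' c

/-- `h_d(c) h_d'(c)` fixes the root elements of `B` and scales `x_a`, `x_a'` by the same power -/
def TorB (Φ : RootSys ι κ) (B : List ι) (a a' : ι) : Prop :=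
  ∃ d d', (∀ b ∈ B, ip Φ d b + ip Φ d' b = 0) ∧ ip Φ d a + ip Φ d' a = ip Φ d a' + ip Φ d' a' ∧
    ip Φ d a + ip Φ d' a ∈ ({1, -1, 2, -2, 4} : Set ℤ)

/-- pair generators `x_a(c) x_a'(c)` of `Γ` -/
def PB (Φ : RootSys ι κ) (B : List ι) (a a' : ι) : Prop :=
  Φ.Pos a ∧ Φ.Pos a' ∧ PB0 Φ B a a' ∧ TorB Φ B a a'

/-- the grade `(r, ∑ B)` -/
def grB (Φ : RootSys ι κ) (B : List ι) (r : ι) : ℤ := (B.map fun b => ip Φ r b).sum

/-- The double centraliser certificate for the involution `∏_{b ∈ B} x_b(1)`. -/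
structure DCert (E : ER Φ) (B : List ι) : Prop where
  nd : B.Nodup
  ort : ∀ b ∈ B, ∀ b' ∈ B, b ≠ b' → ip Φ b b' = 0
  nθ : E.θ ∉ B
  dom : ∀ i, 0 ≤ grB Φ B (Φ.simple i)
  ab : ∀ r s, 2 ≤ grB Φ B r → 2 ≤ grB Φ B s → 0 ≤ ip Φ r s
  gθ : 2 ≤ grB Φ B E.θ
  idl : Idl Φ {a | TB Φ B a}
  gen : Gen Φ {a | TB Φ B a}
  tor : ∀ a, TB Φ B a → a ∈ B ∨ TorB Φ B a a
  el : ∀ r, Φ.Pos r → grB Φ B r < 2 → ∃ a, TB Φ B a ∧ ip Φ r a = -1
  sv : ∀ r, 2 ≤ grB Φ B r → r ∈ B ∨ r = E.θ ∨ ∃ a a' k, PB Φ B a a' ∧ RAdd Φ r a k ∧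
    ∀ s, 2 ≤ grB Φ B s → ¬ RAdd Φ s a' k ∧ ¬ RAdd Φ s a' r
  eq : ∀ b ∈ B, ∀ b' ∈ B, b ≠ b' → ∃ a a' k, PB Φ B a a' ∧ RAdd Φ b a k ∧ RAdd Φ b' a' k ∧
    ∀ s, RAdd Φ s a' b → s ∉ B ∧ s ≠ E.θ
  eta : ∃ b ∈ B, ∃ η, RAdd Φ η b E.θ ∧ ∀ c ∈ B, c ≠ b → 0 ≤ ip Φ η c
  del : ∃ δ δ', PB0 Φ B δ δ' ∧ grB Φ B δ = 0 ∧ grB Φ B δ' = 0 ∧ ip Φ δ E.θ = -1 ∧
    ip Φ δ' E.θ ≤ 0 ∧ δ ≠ δ'
  pr : ∃ a a', PB Φ B a a'
  lb : NP Φ + 1 ≤ 2 * {a | TB Φ B a}.ncard

/-! ### Groups -/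

variable {F : Type} [Field F] {G : Type u} [Group G]

/-- the Steinberg relations in characteristic two, simply laced case -/
structure Rel (Φ : RootSys ι κ) (y : ι → F → G) : Prop where
  add : ∀ r u v, y r (u + v) = y r u * y r v
  cm : ∀ a b r, RAdd Φ a b r → ∀ u v, y a u * y b v * (y a u)⁻¹ * (y b v)⁻¹ = y r (u * v)
  com : ∀ a b, 0 ≤ ip Φ a b → ∀ u v, y a u * y b v = y b v * y a u

/-- the normaliser of `L` -/
abbrev NL (S : StSys Φ F G) : Subgroup G := normalizer (S.grp : Set G)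

/-- the centraliser of `L` -/
abbrev CL (S : StSys Φ F G) : Subgroup G := centralizer (S.grp : Set G)

/-- `Y_r = O^{2'}(C_L(X_r))` -/
def Y (S : StSys Φ F G) (r : ι) : Subgroup G := S.UU {s | 0 ≤ ip Φ s r}

/-- `Q_r = O_2(Y_r)` -/
def Q (S : StSys Φ F G) (r : ι) : Subgroup G := S.UU {s | 1 ≤ ip Φ s r}

/-- the root subgroups commuting with `X_a` and `X_b` -/
def Y2 (S : StSys Φ F G) (a b : ι) : Subgroup G := S.UU {s | 0 ≤ ip Φ s a ∧ 0 ≤ ip Φ s b}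

/-- the transvections with a common centre -/
def AA (E : ER Φ) (S : StSys Φ F G) : Subgroup G := S.UU {s | E.lo s = 0}

/-- the second centre of `U` -/
def W2 (E : ER Φ) (S : StSys Φ F G) : Subgroup G := S.UU {E.θ, E.β, E.β'}

/-- perfect and generated by involutions -/
def Pf (M : Subgroup G) : Prop := M ≤ ⁅M, M⁆ ∧ M ≤ closure {g | g ∈ M ∧ g * g = 1}

/-- the centraliser of `s` in `L` -/
abbrev CS (S : StSys Φ F G) (s : G) : Subgroup G := S.grp ⊓ centralizer {s}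

/-- the join of the perfect subgroups of `C_L(s)` which are generated by involutions -/
def PfC (S : StSys Φ F G) (s : G) : Subgroup G := sSup {M | Pf M ∧ M ≤ CS S s}

/-- `g` acts on the root elements by `π`, the scalars `d` and the field automorphism `σ` -/
def StdD (S : StSys Φ F G) (g : G) (π : Equiv.Perm ι) (d : ι → F) (σ : F ≃+* F) : Prop :=
  (∀ r, d r * d (Φ.neg r) = 1) ∧ ∀ r c, g * S.x r c * g⁻¹ = S.x (π r) (d r * σ c)

/-- a standard element of type `(π, σ)` -/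
def Std (S : StSys Φ F G) (g : G) (π : Equiv.Perm ι) (σ : F ≃+* F) : Prop := ∃ d, StdD S g π d σ

/-- `g` induces an automorphism of type `(π, σ)` -/
def Typ (S : StSys Φ F G) (g : G) (π : Equiv.Perm ι) (σ : F ≃+* F) : Prop :=
  ∃ l ∈ S.grp, Std S (l * g) π σ

/-- `g` permutes the root elements exactly -/
def Exa (S : StSys Φ F G) (g : G) (w : Equiv.Perm ι) : Prop :=
  ∀ r c, g * S.x r c * g⁻¹ = S.x (w r) c

/-- the twisted generators for `(π, d, σ)` -/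
def twG (S : StSys Φ F G) (π : Equiv.Perm ι) (d : ι → F) (σ : F ≃+* F) (Ψ : Set ι) : Subgroup G :=
  closure {g | ∃ r ∈ Ψ, ∃ c, (π r = r ∧ d r * σ c = c ∧ g = S.x r c) ∨
    (π r ≠ r ∧ g = S.x r c * S.x (π r) (d r * σ c))}

/-- The facts about the Chevalley group which are taken from the matrix model. -/
structure Amb (E : ER Φ) (S : StSys Φ F G) : Prop where
  nd : S.Nondeg
  rel : Rel Φ S.x
  r3 : R3 S
  aut : ∀ g ∈ NL S, ∃ π σ, (π = 1 ∨ π = E.γ) ∧ Typ S g π σ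
  simp : ∀ K ≤ S.grp, S.grp ≤ normalizer (K : Set G) → K ≤ CL S ∨ K = S.grp
  linf : ∀ T, Idl Φ T → ∀ r, Φ.Pos r → ∀ w ∈ S.U,
    w * S.x r 1 * w⁻¹ * (S.x r 1)⁻¹ ∈ S.UU T → ∀ a, w * S.x r a * w⁻¹ * (S.x r a)⁻¹ ∈ S.UU T
  big : E.m ≤ 4 → 4 ≤ Nat.card F

theorem Amb.flip {E : ER Φ} {S : StSys Φ F G} (A : Amb E S) : Amb E.flip S :=
  ⟨A.nd, A.rel, A.r3, A.aut, A.simp, A.linf, A.big⟩

/-- every non-trivial family with the Steinberg relations is an `Amb` system -/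
def Kit (E : ER Φ) : Prop :=
  ∀ (K : Type) [Field K] [Finite K] [CharP K 2] (G : Type u) [Group G] [Finite G]
    (y : ι → K → G), (E.m ≤ 4 → 4 ≤ Nat.card K) → Rel Φ y → (∃ r c, y r c ≠ 1) →
    ∃ S : StSys Φ K G, S.x = y ∧ Amb E S

/-- the conjugate system -/
def cj (S : StSys Φ F G) (g : G) : StSys Φ F G where
  x r c := g * S.x r c * g⁻¹
  x_add r t u := by rw [S.x_add]; group
  comm r s h1 h2 t u := by
    have := mem_map_of_mem (MulAut.conj g).toMonoidHom (S.comm r s h1 h2 t u)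
    rw [MonoidHom.map_closure] at this
    have e : (g * S.x s u * g⁻¹)⁻¹ * (g * S.x r t * g⁻¹)⁻¹ * (g * S.x s u * g⁻¹) *
        (g * S.x r t * g⁻¹) = (MulAut.conj g).toMonoidHom
          ((S.x s u)⁻¹ * (S.x r t)⁻¹ * S.x s u * S.x r t) := by
      simp [mul_assoc]
    rw [e]
    refine closure_mono ?_ this
    rintro _ ⟨_, ⟨k, c, h, rfl⟩, rfl⟩
    exact ⟨k, c, h, rfl⟩
  nconj i c hc := by
    obtain ⟨l, h1, h2⟩ := S.nconj i c hc
    refine ⟨l, h1, fun s t => ?_⟩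
    rw [← h2]
    simp only [nOf]
    group

/-- `t` is an involution centralising the standard subgroup `L = S.grp` -/
structure Sit (E : ER Φ) (S : StSys Φ F G) (t : G) : Prop where
  amb : Amb E S
  t2 : t * t = 1
  t1 : t ≠ 1
  tC : t ∈ CL S
  CN : centralizer {t} ≤ NL S
  cyc : ∀ P ≤ CL S, IsPGroup 2 P → IsCyclic P

/-- the Sylow subgroup of `C(L)` has order two -/
def Two (S : StSys Φ F G) : Prop := ∀ P ≤ CL S, IsPGroup 2 P → Nat.card P ≤ 2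

/-- `g` centralises the elements of odd order of `C(L) ∩ C(t)` -/
def CO (S : StSys Φ F G) (t g : G) : Prop :=
  ∀ o ∈ CL S, o * t = t * o → Odd (orderOf o) → g * o = o * g

/-- `p` interchanges `t` and `t z`, `z = x_θ(1)`, and normalises `Y` and `Q` -/
structure Sw (E : ER Φ) (S : StSys Φ F G) (t p : G) : Prop where
  pt : p * t * p⁻¹ = t * S.x E.θ 1
  pz : p * S.x E.θ 1 * p⁻¹ = S.x E.θ 1
  nU : p ∈ normalizer (S.U : Set G)
  nY : p ∈ normalizer (Y S E.θ : Set G)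
  nQ : p ∈ normalizer (Q S E.θ : Set G)
  nO : ∀ l ∈ S.grp, CO S t (p * l * p⁻¹)

/-- `p` moves `t` inside `t Z` and is trivial on `Q / Z` and `Z` -/
structure Tv (E : ER Φ) (S : StSys Φ F G) (t p : G) : Prop where
  pt : ∃ c, c ≠ 0 ∧ p * t * p⁻¹ = t * S.x E.θ c
  pz : p ∈ centralizer (S.X E.θ : Set G)
  nY : p ∈ normalizer (Y S E.θ : Set G)
  nQ : ∀ v ∈ Q S E.θ, p * v * p⁻¹ * v⁻¹ ∈ S.X E.θ
  co : CO S t p

/-- the hat of the root group `X_r` -/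
def IsHat (S : StSys Φ F G) (t : G) (r : ι) (b : G) : Prop :=
  b * b = 1 ∧ b ∈ centralizer (Y S r : Set G) ∧ (∃ c, b * t * b⁻¹ = t * S.x r c) ∧
    ∀ c, b ≠ t * S.x r c

/-- the hats form subgroups `Z r` of order `q²` -/
structure Hats (E : ER Φ) (S : StSys Φ F G) (t : G) (Z : ι → Subgroup G) : Prop
    extends Sit E S t where
  two : Two S
  mem : ∀ r b, b ∈ Z r ↔ IsHat S t r b
  surj : ∀ r c, ∃ b ∈ Z r, b * t * b⁻¹ = t * S.x r c
  ker : ∀ r, ∀ b ∈ Z r, b * t = t * b → b ∈ S.X r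
  co : ∀ r, ∀ b ∈ Z r, CO S t b
  cx : ∀ a b r, RAdd Φ a b r → ∀ g ∈ Z a, ∀ u, g * S.x b u * g⁻¹ * (S.x b u)⁻¹ ∈ Z r

/-- the commutator relations between hats -/
structure Hats2 (E : ER Φ) (S : StSys Φ F G) (t : G) (Z : ι → Subgroup G) : Prop
    extends Hats E S t Z where
  com : ∀ a b, 0 ≤ ip Φ a b → ∀ g ∈ Z a, ∀ h ∈ Z b, g * h = h * g
  cz : ∀ a b r, RAdd Φ a b r → ∀ g ∈ Z a, ∀ h ∈ Z b, g * h * g⁻¹ * h⁻¹ ∈ Z r

/-- field case: the hats are the root groups of a system `T` over a quadratic extension -/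
structure DblF (E : ER Φ) (S : StSys Φ F G) (t : G) (Z : ι → Subgroup G) {K : Type} [Field K]
    (T : StSys Φ K G) (f : F →+* K) (τ : K ≃+* K) : Prop extends Hats2 E S t Z where
  ambT : Amb E T
  card : Nat.card K = Nat.card F ^ 2
  ext : ∀ r c, T.x r (f c) = S.x r c
  tT : ∀ r v, t * T.x r v * t⁻¹ = T.x r (τ v)
  fix : ∀ v, τ v = v ↔ ∃ c, v = f c
  ZT : ∀ r, Z r = T.X r

/-- product case: the hats are products of the root groups of two commuting systems -/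
structure DblP (E : ER Φ) (S : StSys Φ F G) (t : G) (Z : ι → Subgroup G)
    (S₁ S₂ : StSys Φ F G) : Prop extends Hats2 E S t Z where
  amb₁ : Amb E S₁
  amb₂ : Amb E S₂
  c12 : ∀ r s c d, S₁.x r c * S₂.x s d = S₂.x s d * S₁.x r c
  ext : ∀ r c, S.x r c = S₁.x r c * S₂.x r c
  t12 : ∀ r c, t * S₁.x r c * t⁻¹ = S₂.x r c
  ZT : ∀ r, Z r = S₁.X r ⊔ S₂.X r

/-- the global hypotheses: `G = Gs ⟨t⟩` with `Gs` simple and self-centralising -/
structure Glob (Gs : Subgroup G) (t : G) : Prop where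
  nrm : Gs.Normal
  simple : IsSimpleGroup Gs
  perf : Gs ≤ ⁅Gs, Gs⁆
  gen : ∀ g, g ∈ Gs ∨ g * t ∈ Gs
  cen : centralizer (Gs : Set G) = ⊥

end CfsgLib.SLA
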