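import Mathlib
import Cfsg.Agent.Lib.SLA.Defs

/-!
# The normaliser of `L`
-/

set_option autoImplicit false
set_option linter.unusedSectionVars false

namespace CfsgLib.SLA

open CfsgLib.RGD CfsgLib.Stein Subgroup
open scoped commutatorElement Pointwise

universe u

variable {F : Type} [Field F] [Finite F] [CharP F 2]

theorem finite_aut : Finite (F ≃+* F) :=
  Finite.of_injective (fun σ : F ≃+* F => (σ : F → F)) DFunLike.coe_injective

theorem isCyclic_aut : IsCyclic (F ≃+* F) := by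
  have := finite_aut (F := F)
  exact isCyclic_of_surjective (FixedPoints.toAlgAutMulEquiv (F ≃+* F) F).symm
    (MulEquiv.surjective _)

theorem card_eq_fixed_pow (H : Subgroup (F ≃+* F)) :
    Nat.card F = Nat.card (FixedPoints.subfield H F) ^ Nat.card H := by
  have := finite_aut (F := F)
  have := Fintype.ofFinite H
  rw [Nat.card_eq_fintype_card (α := H), ← FixedPoints.finrank_eq_card H F]
  exact Module.natCard_eq_pow_finrank

theorem mem_of_fix_fixed (H : Subgroup (F ≃+* F)) {σ : F ≃+* F}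
    (h : ∀ x ∈ FixedPoints.subfield H F, σ x = x) : σ ∈ H := by
  have := finite_aut (F := F)
  obtain ⟨τ, hτ⟩ := FixedPoints.toAlgAut_surjective H F
    { σ with commutes' := fun x => h x x.2 }
  have : (τ : F ≃+* F) = σ := RingEquiv.ext fun x => congrArg (fun f => f x) hτ
  exact this ▸ τ.2

theorem card_aut : Nat.card F = 2 ^ Nat.card (F ≃+* F) := by
  rw [card_eq_fixed_pow ⊤, card_top]
  congr 1
  refine Nat.card_eq_two_iff.2 ⟨0, 1, zero_ne_one, Set.eq_univ_of_forall fun x => ?_⟩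
  have h : x.1 ^ 2 = x.1 := x.2 ⟨frobeniusEquiv F 2, mem_top _⟩
  refine or_iff_not_imp_left.2 fun e => Subtype.ext (mul_left_cancel₀ (a := x.1) (fun k => e (Subtype.ext k)) ?_)
  exact (pow_two _).symm.trans (h.trans (mul_one _).symm)

theorem aut_mul_comm (σ τ : F ≃+* F) : σ * τ = τ * σ := by
  obtain ⟨g, hg⟩ := (isCyclic_aut (F := F)).exists_generator
  obtain ⟨i, rfl⟩ := hg σ
  obtain ⟨j, rfl⟩ := hg τ
  exact zpow_mul_comm g i j

theorem aut_eq_of_sq {σ τ : F ≃+* F} (h1 : σ * σ = 1) (h2 : τ * τ = 1) (h3 : σ ≠ 1) (h4 : τ ≠ 1) :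
    σ = τ := by
  classical
  have := finite_aut (F := F)
  have := Fintype.ofFinite (F ≃+* F)
  have := isCyclic_aut (F := F)
  by_contra hne
  have e := IsCyclic.card_pow_eq_one_le (α := F ≃+* F) (n := 2) two_pos
  refine absurd e (not_le.2 (Finset.two_lt_card_iff.2 ⟨1, σ, τ, by simp, ?_, ?_, h3.symm, h4.symm, hne⟩))
  · simpa [pow_two] using h1
  · simpa [pow_two] using h2

/-- an automorphism of order two -/
theorem aut_two {σ : F ≃+* F} (h1 : σ * σ = 1) (h2 : σ ≠ 1) : ∃ q₀ : ℕ, 2 ≤ q₀ ∧ Even q₀ ∧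
    Nat.card F = q₀ ^ 2 ∧ (∀ c, σ c = c ^ q₀) ∧ Nat.card {c // σ c = c} = q₀ ∧
    (∀ τ : F ≃+* F, (∀ c, σ c = c → τ c = c) → τ = 1 ∨ τ = σ) ∧
    ∀ d, d * σ d = 1 → (∃ c, c ≠ 0 ∧ d * σ c = c) ∧
      ∀ c, d * σ c = c → ∃ a, c = a + d * σ a := by
  have ss : ∀ c, σ (σ c) = c := fun c => DFunLike.congr_fun h1 c
  have o : orderOf σ = 2 := orderOf_eq_prime ((pow_two σ).trans h1) h2
  have mz : ∀ τ ∈ zpowers σ, τ = 1 ∨ τ = σ := fun τ h => by
    obtain ⟨n, rfl⟩ := ((isOfFinOrder_iff_pow_eq_one.2 ⟨2, two_pos, o ▸ pow_orderOf_eq_one σ⟩).mem_powers_iff_mem_zpowers).2 h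
    change σ ^ n = 1 ∨ σ ^ n = σ
    rw [← pow_mod_orderOf, o]
    rcases Nat.mod_two_eq_zero_or_one n with e | e <;> simp [e]
  have mf : ∀ c, c ∈ FixedPoints.subfield (zpowers σ) F ↔ σ c = c := fun c =>
    ⟨fun h => h ⟨σ, mem_zpowers σ⟩, fun h τ => by
      rcases mz τ.1 τ.2 with e | e <;> change τ.1 c = c <;> rw [e]
      exacts [rfl, h]⟩
  have gal : ∀ τ : F ≃+* F, (∀ c, σ c = c → τ c = c) → τ = 1 ∨ τ = σ := fun τ h =>
    mz τ (mem_of_fix_fixed _ fun x hx => h x ((mf x).1 hx))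
  have hc := card_eq_fixed_pow (zpowers σ)
  rw [Nat.card_zpowers, o] at hc
  have h90 : ∀ d, ∃ a, a + d * σ a ≠ 0 := fun d => by
    by_contra! h
    have e := h 1
    rw [map_one, mul_one] at e
    exact h2 (RingEquiv.ext fun a => by
      change σ a = a
      linear_combination e * σ a - h a)
  generalize hK : FixedPoints.subfield (zpowers σ) F = K at mf hc
  have := Fintype.ofFinite K
  refine ⟨Nat.card K, Finite.one_lt_card, ?_, hc, ?_, Nat.card_congr (Equiv.subtypeEquivRight fun c =>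
    (mf c).symm), gal, fun d hd => ⟨?_, fun c e => ?_⟩⟩
  · rw [Nat.card_eq_fintype_card, Nat.even_iff]
    exact FiniteField.even_card_of_char_two (ringChar.eq K 2)
  · have k := gal (FiniteField.frobeniusAlgEquivOfAlgebraic K F).toRingEquiv fun c e =>
      (FiniteField.frobeniusAlgEquivOfAlgebraic K F).commutes ⟨c, (mf c).2 e⟩
    rcases k with k | k
    · have k1 := FiniteField.orderOf_frobeniusAlgEquivOfAlgebraic K F
      rw [show FiniteField.frobeniusAlgEquivOfAlgebraic K F = 1 from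
        AlgEquiv.ext fun c => DFunLike.congr_fun k c, orderOf_one] at k1
      rw [Module.natCard_eq_pow_finrank (K := K) (V := F), ← k1] at hc
      exact absurd (Nat.pow_right_injective Finite.one_lt_card hc) (by decide)
    · intro c
      rw [← k, Nat.card_eq_fintype_card]
      rfl
  · obtain ⟨a, ha⟩ := h90 d
    exact ⟨_, ha, by rw [map_add, map_mul, ss]; linear_combination a * hd⟩
  · obtain ⟨a, ha⟩ := h90 1
    rw [one_mul] at ha
    refine ⟨c * a / (a + σ a), ?_⟩
    rw [map_div₀, map_mul, map_add, ss, add_comm (σ a), ← mul_div_assoc, ← mul_assoc, e, ← add_div,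
      ← mul_add, mul_div_cancel_right₀ _ ha]

end CfsgLib.SLA
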