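import Mathlib
import Cfsg.Agent.Lib.SLA.Defs

/-!
# Root combinatorics from `ER`
-/

set_option autoImplicit false
set_option linter.unusedSectionVars false

namespace CfsgLib.SLA

open CfsgLib.RGD CfsgLib.Stein

variable {ι κ : Type} [Fintype κ] [DecidableEq κ] [Finite ι] {Φ : RootSys ι κ}

theorem radd_ht {a b k : ι} (h : RAdd Φ a b k) : Φ.ht k = Φ.ht a + Φ.ht b := by
  simp only [RootSys.ht, h _, Finset.sum_add_distrib]

theorem radd_pos {a b k : ι} (h : RAdd Φ a b k) (ha : Φ.Pos a) (hb : Φ.Pos b) : Φ.Pos k := fun j =>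
  h j ▸ add_nonneg (ha j) (hb j)

theorem radd_neg {a b k : ι} (h : RAdd Φ a b k) : RAdd Φ (Φ.neg a) (Φ.neg b) (Φ.neg k) := fun j => by
  rw [Φ.rt_neg, Φ.rt_neg, Φ.rt_neg, h j, neg_add]

theorem pos_iff_ht {r : ι} : Φ.Pos r ↔ 0 < Φ.ht r := by
  refine ⟨Φ.ht_pos, fun h => (Φ.pos_or_neg r).resolve_right fun h' => ?_⟩
  have := Φ.ht_pos (Φ.pos_neg_iff.2 h')
  rw [Φ.ht_neg] at this
  omega

theorem ht_ne_zero (r : ι) : Φ.ht r ≠ 0 := fun h => by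
  rcases Φ.pos_or_neg r with h' | h'
  · exact (Φ.ht_pos h').ne' h
  · exact (Φ.ht_pos (Φ.pos_neg_iff.2 h')).ne' (by rw [Φ.ht_neg, h, neg_zero])

theorem ip_sum (r s : ι) : ip Φ r s = ∑ i, Φ.rt r i * ip Φ (Φ.simple i) s := by
  simp only [ip_eq_sum r s, ip_simple]

namespace ER

variable (E : ER Φ)
include E

theorem ip_self (r : ι) : ip Φ r r = 2 := E.lac.norm r

theorem ip_cases (r s : ι) : (s = r ∧ ip Φ r s = 2) ∨ ip Φ r s = 1 ∨ ip Φ r s = 0 ∨ ip Φ r s = -1 ∨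
    (s = Φ.neg r ∧ ip Φ r s = -2) := by
  by_cases h1 : s = r
  · exact .inl ⟨h1, h1 ▸ E.ip_self _⟩
  by_cases h2 : s = Φ.neg r
  · exact .inr (.inr (.inr (.inr ⟨h2, by rw [h2, ip_neg_right, E.ip_self]⟩)))
  have := E.lac.tri r s h1 h2
  omega

theorem eq_of_ip {r s : ι} (h : 2 ≤ ip Φ r s) : s = r := by
  rcases E.ip_cases r s with k | k | k | k | k
  exacts [k.1, by omega, by omega, by omega, by omega]

theorem eq_neg_of_ip {r s : ι} (h : ip Φ r s ≤ -2) : s = Φ.neg r := by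
  rcases E.ip_cases r s with k | k | k | k | k
  exacts [by omega, by omega, by omega, by omega, k.1]

theorem radd_ip {a b r : ι} (h : RAdd Φ a b r) : ip Φ a b = -1 ∧ ip Φ a r = 1 ∧ ip Φ b r = 1 := by
  have := E.lac.ip_radd h
  omega

theorem exists_add {a b : ι} (h : ip Φ a b = -1) : ∃ r, RAdd Φ a b r := E.lac.exists_radd_of_neg (by omega)

theorem exists_sub {a r : ι} (h : ip Φ a r = 1) : ∃ b, RAdd Φ a b r := Stein.exists_radd (by
  rw [E.ip_self, h]; rfl)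

theorem isSum_iff {a b k : ι} (h : b ≠ Φ.neg a) : Φ.IsSum a b k ↔ RAdd Φ a b k := by
  refine ⟨fun k1 => ?_, RAdd.isSum⟩
  by_cases k2 : 0 ≤ ip Φ a b
  · exact absurd k1 (not_isSum_of_ip (M := 3) (fun k => by rw [E.ip_self]; decide) k2
      (by rw [E.ip_self, E.ip_self]; omega) k)
  · refine radd_of_isSum (N := 2) (fun k => by rw [E.ip_self]; decide) (E.ip_self a) (E.ip_self b) ?_ k1
    have := mt (E.eq_neg_of_ip (r := a) (s := b)) h
    omega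

theorem closed_of {T : Set ι} (hp : ∀ r ∈ T, Φ.Pos r)
    (h : ∀ a ∈ T, ∀ b ∈ T, ∀ k, RAdd Φ a b k → k ∈ T) : Φ.Closed T := fun a ha b hb k hk =>
  h a ha b hb k ((E.isSum_iff (Φ.ne_neg_of_pos (hp a ha) (hp b hb))).1 hk)

theorem wt_eq (i : κ) (r : ι) : Φ.wt i r = ip Φ (Φ.simple i) r := by
  have := (ip_simple_self i).symm.trans (E.ip_self (Φ.simple i))
  rw [ip_simple, show Φ.d i = 1 by omega, one_mul]

theorem rf_add {d a k : ι} (h : RAdd Φ a d k) : rf Φ d a = k ∧ rf Φ d k = a := by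
  obtain ⟨h1, -, h3⟩ := E.radd_ip h
  exact ⟨rf_eq (k := -1) (by rw [E.ip_self, ip_comm, h1]) fun j => by rw [h j]; ring,
    rf_eq (k := 1) (by rw [E.ip_self, h3]) fun j => by rw [h j]; ring⟩

theorem rf_orth {d a : ι} (h : ip Φ d a = 0) : rf Φ d a = a := rf_eq (k := 0) (by
  rw [h]; simp) fun j => by simp

theorem rf_self (d : ι) : rf Φ d d = Φ.neg d ∧ rf Φ d (Φ.neg d) = d :=   ⟨rf_eq (k := 2) (mul_comm _ _) fun j => by rw [Φ.rt_neg]; ring,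
    rf_eq (k := -2) (by rw [ip_neg_right]; ring) fun j => by rw [Φ.rt_neg]; ring⟩

theorem rf_simple (i : κ) : rf Φ (Φ.simple i) = Φ.s i := Equiv.ext fun r =>
  rf_eq (k := Φ.wt i r) (by rw [E.ip_self, E.wt_eq]) fun j => by
    rw [Φ.rt_s, Φ.rt_simple]; split_ifs <;> simp

theorem eq_iff {r s : ι} : r = s ↔ E.lo r = E.lo s ∧ E.hi r = E.hi s :=
  ⟨fun h => h ▸ ⟨rfl, rfl⟩, fun h => E.ext r s h.1 h.2⟩

theorem bd (r : ι) : E.lo r < E.m ∧ E.hi r < E.m ∧ E.lo r ≠ E.hi r := ⟨E.lo_lt r, E.hi_lt r, E.ne r⟩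

theorem exists_e {i j : ℕ} (h1 : i < E.m) (h2 : j < E.m) (h3 : i ≠ j) : ∃ r, E.lo r = i ∧ E.hi r = j :=
  ⟨E.e i j, E.lo_e i j h1 h2 h3, E.hi_e i j h1 h2 h3⟩

theorem pos_iff {r : ι} : Φ.Pos r ↔ E.lo r < E.hi r := by rw [pos_iff_ht, E.ht_eq]; omega

theorem ip_one_iff {r s : ι} : ip Φ r s = 1 ↔
    (E.lo r = E.lo s ∧ E.hi r ≠ E.hi s) ∨ (E.lo r ≠ E.lo s ∧ E.hi r = E.hi s) := by
  have := E.ne r; have := E.ne s
  rw [E.ip_eq]; split_ifs <;> omega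

theorem ip_neg_one_iff {r s : ι} : ip Φ r s = -1 ↔
    (E.lo r = E.hi s ∧ E.hi r ≠ E.lo s) ∨ (E.lo r ≠ E.hi s ∧ E.hi r = E.lo s) := by
  have := E.ne r; have := E.ne s
  rw [E.ip_eq]; split_ifs <;> omega

theorem ip_zero_iff {r s : ι} : ip Φ r s = 0 ↔
    E.lo r ≠ E.lo s ∧ E.hi r ≠ E.hi s ∧ E.lo r ≠ E.hi s ∧ E.hi r ≠ E.lo s := by
  have := E.ne r; have := E.ne s
  rw [E.ip_eq]; split_ifs <;> omega

theorem nonneg_iff {r s : ι} : 0 ≤ ip Φ r s ↔ E.lo r ≠ E.hi s ∧ E.hi r ≠ E.lo s := by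
  have := E.ne r; have := E.ne s
  rw [E.ip_eq]; split_ifs <;> omega

theorem one_le_iff {r s : ι} : 1 ≤ ip Φ r s ↔ E.lo r = E.lo s ∨ E.hi r = E.hi s := by
  have := E.ne r; have := E.ne s
  rw [E.ip_eq]; split_ifs <;> omega

theorem lo_α : E.lo E.α = 0 := (E.lo_simple _).trans E.idx₀

theorem hi_α : E.hi E.α = 1 := by rw [α, E.hi_simple, E.idx₀]

theorem lo_α' : E.lo E.α' + 2 = E.m := by rw [α', E.lo_simple, E.idx₁]

theorem hi_α' : E.hi E.α' + 1 = E.m := by rw [α', E.hi_simple, add_assoc, E.idx₁]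

/-- all coordinates of the distinguished roots, for `omega` -/
theorem co : 3 ≤ E.m ∧ E.lo E.θ = 0 ∧ E.hi E.θ + 1 = E.m ∧ E.lo E.α = 0 ∧ E.hi E.α = 1 ∧
    E.lo E.α' + 2 = E.m ∧ E.hi E.α' + 1 = E.m ∧ E.lo E.β = 1 ∧ E.hi E.β + 1 = E.m ∧
    E.lo E.β' = 0 ∧ E.hi E.β' + 2 = E.m :=
  ⟨E.three, E.lo_θ, E.hi_θ, E.lo_α, E.hi_α, E.lo_α', E.hi_α', E.lo_β, E.hi_β, E.lo_β', E.hi_β'⟩

theorem exists_simple {r : ι} (h : E.hi r = E.lo r + 1) : ∃ i, r = Φ.simple i := by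
  obtain ⟨i, hi⟩ := E.idx_surj (E.lo r) (h ▸ E.hi_lt r)
  exact ⟨i, E.ext _ _ (by rw [E.lo_simple, hi]) (by rw [E.hi_simple, hi, h])⟩

theorem idx_inj {i j : κ} (h : E.idx i = E.idx j) : i = j := Φ.simple_injective
  (E.ext _ _ (by rw [E.lo_simple, E.lo_simple, h]) (by rw [E.hi_simple, E.hi_simple, h]))

theorem idx_lt (i : κ) : E.idx i + 1 < E.m := E.hi_simple i ▸ E.hi_lt _

theorem i₀_ne : E.i₀ ≠ E.i₁ := fun h => by
  have := E.idx₀; have := E.idx₁; have := E.three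
  rw [h] at *
  omega

theorem hβ : RAdd Φ E.α E.β E.θ := by have := E.co; rw [E.radd_iff]; omega

theorem hβ' : RAdd Φ E.α' E.β' E.θ := by have := E.co; rw [E.radd_iff]; omega

theorem top (i : κ) : ip Φ (Φ.simple i) E.θ = if i = E.i₀ ∨ i = E.i₁ then 1 else 0 := by
  have := E.co; have := E.idx₀; have := E.idx₁; have := E.idx_lt i
  split_ifs with h
  · rw [E.ip_one_iff, E.lo_simple, E.hi_simple]
    rcases h with rfl | rfl <;> omega
  · have h0 : E.idx i ≠ E.idx E.i₀ := fun k => h (.inl (E.idx_inj k))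
    have h1 : E.idx i ≠ E.idx E.i₁ := fun k => h (.inr (E.idx_inj k))
    rw [E.ip_zero_iff, E.lo_simple, E.hi_simple]
    omega

theorem pos_θ : Φ.Pos E.θ := by have := E.co; rw [E.pos_iff]; omega

theorem pos_β : Φ.Pos E.β := by have := E.co; rw [E.pos_iff]; omega

theorem pos_β' : Φ.Pos E.β' := E.flip.pos_β

theorem ip_αθ : ip Φ E.α E.θ = 1 := (E.radd_ip E.hβ).2.1

theorem ip_βθ : ip Φ E.β E.θ = 1 := (E.radd_ip E.hβ).2.2

theorem ip_αβ : ip Φ E.α E.β = -1 := (E.radd_ip E.hβ).1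

theorem ip_α'θ : ip Φ E.α' E.θ = 1 := E.flip.ip_αθ

theorem ip_β'θ : ip Φ E.β' E.θ = 1 := E.flip.ip_βθ

theorem ip_α'β' : ip Φ E.α' E.β' = -1 := E.flip.ip_αβ

omit [Finite ι] in
/-- functions of the indices give additive weights -/
theorem wt_add (f : ℕ → ℤ) (a b k : ι) (h : RAdd Φ a b k) :
    f (E.hi k) - f (E.lo k) = f (E.hi a) - f (E.lo a) + (f (E.hi b) - f (E.lo b)) := by
  rcases (E.radd_iff _ _ _).1 h with ⟨e1, e2, e3⟩ | ⟨e1, e2, e3⟩ <;> rw [e1, e2, e3] <;> ring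

theorem nonneg_θ {r : ι} (h : Φ.Pos r) : 0 ≤ ip Φ r E.θ := by
  have := E.co; have := E.bd r
  rw [E.pos_iff] at h; rw [E.nonneg_iff]; omega

theorem pos_of_θ {r : ι} (h : 1 ≤ ip Φ r E.θ) : Φ.Pos r := by
  have := E.co; have := E.bd r
  rw [E.one_le_iff] at h; rw [E.pos_iff]; omega

theorem ht_lt_s {r : ι} {i : κ} (h : ip Φ r (Φ.simple i) < 0) : Φ.ht r < Φ.ht (Φ.s i r) := by
  rw [Φ.ht_s, E.wt_eq, ip_comm]; omega

theorem ht_lt_θ {r : ι} (h : r ≠ E.θ) : Φ.ht r < Φ.ht E.θ := by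
  have := E.co; have := E.bd r
  rw [Ne, E.eq_iff] at h; rw [E.ht_eq, E.ht_eq]; omega

theorem ht_θ : Φ.ht E.θ = Φ.ht E.β + 1 := by rw [radd_ht E.hβ, α, Φ.ht_simple, add_comm]

theorem eq_neg_one {r s : ι} (hr : Φ.Pos r) (hs : Φ.Pos s) (h : ip Φ r s < 0) : ip Φ r s = -1 := by
  have := mt (E.eq_neg_of_ip (r := r) (s := s)) (Φ.ne_neg_of_pos hr hs)
  omega

theorem nonneg_β {r : ι} (h : Φ.Pos r) (h' : r ≠ E.α) : 0 ≤ ip Φ r E.β := by
  have := E.co; have := E.bd r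
  rw [E.pos_iff] at h; rw [Ne, E.eq_iff] at h'; rw [E.nonneg_iff]; omega

theorem ht_lt_β {r : ι} (h : r ≠ E.θ) (h' : r ≠ E.β) (h'' : r ≠ E.β') : Φ.ht r < Φ.ht E.β := by
  have := E.co; have := E.bd r
  rw [Ne, E.eq_iff] at h h' h''; rw [E.ht_eq, E.ht_eq]; omega

/-- a positive root other than `θ` can be raised by a fundamental root -/
theorem up_pos {r : ι} (h : Φ.Pos r) (h' : r ≠ E.θ) : ∃ i k, RAdd Φ r (Φ.simple i) k := by
  have := E.co; have := E.bd r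
  rw [E.pos_iff] at h; rw [Ne, E.eq_iff] at h'
  by_cases c : E.hi r + 1 < E.m
  · obtain ⟨i, hi⟩ := E.idx_surj _ c
    obtain ⟨k, hk⟩ := E.exists_e (i := E.lo r) (j := E.hi r + 1) (by omega) c (by omega)
    exact ⟨i, k, by rw [E.radd_iff, E.lo_simple, E.hi_simple]; omega⟩
  · obtain ⟨i, hi⟩ := E.idx_surj (E.lo r - 1) (by omega)
    obtain ⟨k, hk⟩ := E.exists_e (i := E.lo r - 1) (j := E.hi r) (by omega) (by omega) (by omega)
    exact ⟨i, k, by rw [E.radd_iff, E.lo_simple, E.hi_simple]; omega⟩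

theorem up (r : ι) (h : r ≠ E.θ) : ∃ i, ip Φ r (Φ.simple i) < 0 := by
  by_cases k : Φ.Pos r
  · obtain ⟨i, m, hm⟩ := E.up_pos k h
    exact ⟨i, by rw [(E.radd_ip hm).1]; decide⟩
  · have := E.bd r
    rw [E.pos_iff] at k
    obtain ⟨i, hi⟩ := E.idx_surj (E.hi r) (by omega)
    exact ⟨i, not_le.1 (by rw [E.nonneg_iff, E.lo_simple, E.hi_simple]; omega)⟩

/-- a root of `V` other than `β`, `β'` can be raised inside `V` -/
theorem up_V {r : ι} (h : ip Φ r E.θ = 1) (h' : r ≠ E.β) (h'' : r ≠ E.β') :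
    ∃ i k, i ≠ E.i₀ ∧ i ≠ E.i₁ ∧ RAdd Φ r (Φ.simple i) k := by
  have := E.co; have := E.bd r; have := E.idx₀; have := E.idx₁
  rw [E.ip_one_iff] at h; rw [Ne, E.eq_iff] at h' h''
  by_cases c : E.lo r = 0
  · obtain ⟨i, hi⟩ := E.idx_surj (E.hi r) (by omega)
    obtain ⟨k, hk⟩ := E.exists_e (i := E.lo r) (j := E.hi r + 1) (by omega) (by omega) (by omega)
    exact ⟨i, k, by rintro rfl; omega, by rintro rfl; omega,
      by rw [E.radd_iff, E.lo_simple, E.hi_simple]; omega⟩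
  · obtain ⟨i, hi⟩ := E.idx_surj (E.lo r - 1) (by omega)
    obtain ⟨k, hk⟩ := E.exists_e (i := E.lo r - 1) (j := E.hi r) (by omega) (by omega) (by omega)
    exact ⟨i, k, by rintro rfl; omega, by rintro rfl; omega,
      by rw [E.radd_iff, E.lo_simple, E.hi_simple]; omega⟩

/-- a root orthogonal to `θ` moves some root of `V` -/
theorem elQ (r : ι) (h : ip Φ r E.θ = 0) : ∃ a, ip Φ a E.θ = 1 ∧ ip Φ r a = -1 := by
  have := E.co; have := E.bd r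
  rw [E.ip_zero_iff] at h
  obtain ⟨a, ha⟩ := E.exists_e (i := 0) (j := E.lo r) (by omega) (by omega) (by omega)
  exact ⟨a, by rw [E.ip_one_iff]; omega, by rw [E.ip_neg_one_iff]; omega⟩

/-- a positive root which is not fundamental is a sum -/
theorem down_pos {r : ι} (h : Φ.Pos r) (h' : ∀ i, r ≠ Φ.simple i) :
    ∃ i a, Φ.Pos a ∧ RAdd Φ a (Φ.simple i) r := by
  obtain ⟨i, -, hi⟩ := Φ.descent' h
  rw [E.wt_eq] at hi
  have := mt (E.eq_of_ip (r := Φ.simple i) (s := r)) (h' i)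
  obtain ⟨b, hb⟩ := E.exists_sub (a := Φ.simple i) (r := r) (by omega)
  refine ⟨i, b, pos_iff_ht.2 ?_, hb.symm⟩
  have k1 := radd_ht hb
  have k2 := Φ.ht_pos h
  have k3 := ht_ne_zero (Φ := Φ) b
  rw [Φ.ht_simple] at k1
  omega

theorem pos_ind {P : ι → Prop} (h1 : ∀ i, P (Φ.simple i))
    (h2 : ∀ i a k, Φ.Pos a → RAdd Φ a (Φ.simple i) k → P a → P k) {r : ι} (h : Φ.Pos r) : P r := by
  induction hn : (Φ.ht r).toNat using Nat.strong_induction_on generalizing r with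
  | _ n ih =>
    by_cases k : ∃ i, r = Φ.simple i
    · obtain ⟨i, rfl⟩ := k
      exact h1 i
    · obtain ⟨i, a, ha, hk⟩ := E.down_pos h (not_exists.1 k)
      refine h2 i a r ha hk (ih _ ?_ ha rfl)
      have k1 := radd_ht hk
      have k2 := Φ.ht_pos ha
      rw [Φ.ht_simple] at k1
      omega

theorem exists_radd (r : ι) : ∃ a b, RAdd Φ a b r := by
  obtain ⟨a, ha⟩ := E.lac.adj r
  exact ⟨a, E.exists_sub (by omega)⟩

theorem γ_co (r : ι) : E.lo (E.γ r) + E.hi r + 1 = E.m ∧ E.hi (E.γ r) + E.lo r + 1 = E.m :=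
  ⟨E.lo_γ r, E.hi_γ r⟩

theorem γ2 (r : ι) : E.γ (E.γ r) = r := by
  have := E.γ_co r; have := E.γ_co (E.γ r)
  rw [E.eq_iff]; omega

theorem γn (r : ι) : E.γ (Φ.neg r) = Φ.neg (E.γ r) := by
  have := E.γ_co r; have := E.γ_co (Φ.neg r)
  rw [E.lo_neg, E.hi_neg] at this
  rw [E.eq_iff, E.lo_neg, E.hi_neg]; omega

theorem γa (a b k : ι) (h : RAdd Φ a b k) : RAdd Φ (E.γ a) (E.γ b) (E.γ k) := by
  have := E.γ_co a; have := E.γ_co b; have := E.γ_co k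
  rw [E.radd_iff] at h ⊢; omega

theorem γip (r s : ι) : ip Φ (E.γ r) (E.γ s) = ip Φ r s := by
  have := E.γ_co r; have := E.γ_co s
  rw [E.ip_eq, E.ip_eq]; split_ifs <;> omega

theorem γs (i : κ) : ∃ j, E.γ (Φ.simple i) = Φ.simple j := by
  have := E.γ_co (Φ.simple i)
  rw [E.lo_simple, E.hi_simple] at this
  exact E.exists_simple (by omega)

theorem γ_mul : E.γ * E.γ = 1 := Equiv.ext E.γ2

theorem γ_ht (r : ι) : Φ.ht (E.γ r) = Φ.ht r := by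
  have := E.γ_co r
  rw [E.ht_eq, E.ht_eq]; omega

theorem γ_pos (r : ι) : Φ.Pos (E.γ r) ↔ Φ.Pos r := by rw [pos_iff_ht, pos_iff_ht, E.γ_ht]

theorem γ_θ : E.γ E.θ = E.θ := by
  by_contra h
  exact (E.ht_lt_θ h).ne (E.γ_ht _)

theorem γ_α : E.γ E.α = E.α' := by
  have := E.co; have := E.γ_co E.α
  rw [E.eq_iff]; omega

theorem γ_β : E.γ E.β = E.β' := by
  have := E.co; have := E.γ_co E.β
  rw [E.eq_iff]; omega

theorem γ_α' : E.γ E.α' = E.α := E.flip.γ_α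

theorem γ_β' : E.γ E.β' = E.β := E.flip.γ_β

theorem γ_ne_one : E.γ ≠ 1 := fun h => by
  have := E.co; have k := E.γ_α
  rw [h, Equiv.Perm.one_apply, E.eq_iff] at k
  omega

theorem γ_fix_iff {r : ι} : E.γ r = r ↔ E.lo r + E.hi r + 1 = E.m := by
  have := E.γ_co r
  rw [E.eq_iff]; omega

/-- a root which is moved by `γ` is orthogonal to its image unless it involves the middle index -/
theorem γ_orth {r : ι} (h : E.γ r ≠ r) (h1 : 2 * E.lo r + 1 ≠ E.m) (h2 : 2 * E.hi r + 1 ≠ E.m) :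
    ip Φ r (E.γ r) = 0 := by
  have := E.γ_co r
  rw [Ne, E.γ_fix_iff] at h
  rw [E.ip_zero_iff]; omega

/-- the roots through the middle index -/
theorem γ_mid {r : ι} (h : 2 * E.lo r + 1 = E.m ∨ 2 * E.hi r + 1 = E.m) : ip Φ r (E.γ r) = -1 := by
  have := E.γ_co r; have := E.bd r
  rw [E.ip_neg_one_iff]; omega

/-- the permutations `1` and `γ` -/
structure Gp (π : Equiv.Perm ι) : Prop where
  sq : ∀ r, π (π r) = r
  neg : ∀ r, π (Φ.neg r) = Φ.neg (π r)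
  add : ∀ a b k, RAdd Φ a b k → RAdd Φ (π a) (π b) (π k)
  ip : ∀ r s, ip Φ (π r) (π s) = ip Φ r s
  ht : ∀ r, Φ.ht (π r) = Φ.ht r
  pos : ∀ r, Φ.Pos (π r) ↔ Φ.Pos r
  θ : π E.θ = E.θ
  simple : ∀ i, ∃ j, π (Φ.simple i) = Φ.simple j

theorem gp {π : Equiv.Perm ι} (h : π = 1 ∨ π = E.γ) : E.Gp π := by
  rcases h with rfl | rfl
  · exact ⟨fun _ => rfl, fun _ => rfl, fun _ _ _ h => h, fun _ _ => rfl, fun _ => rfl, fun _ => Iff.rfl,
      rfl, fun i => ⟨i, rfl⟩⟩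
  · exact ⟨E.γ2, E.γn, E.γa, E.γip, E.γ_ht, E.γ_pos, E.γ_θ, E.γs⟩

end ER

end CfsgLib.SLA
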