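import Mathlib
import Cfsg.Agent.Lib.SLA.RtA

/-!
# Root combinatorics from `ER`
-/

set_option autoImplicit false
set_option linter.unusedSectionVars false

namespace CfsgLib.SLA

open CfsgLib.RGD CfsgLib.Stein

variable {ι κ : Type} [Fintype κ] [DecidableEq κ] [Finite ι] {Φ : RootSys ι κ}

namespace ER

variable (E : ER Φ)
include E

theorem exists_dom (J : Set κ) (r : ι) : ∃ w ∈ Φ.WJ J, ∀ i ∈ J, 0 ≤ ip Φ (w r) (Φ.simple i) := by
  obtain ⟨⟨w, hw⟩, h⟩ := Finite.exists_max fun w : Φ.WJ J => Φ.ht (w.1 r)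
  refine ⟨w, hw, fun i hi => not_lt.1 fun k => ?_⟩
  exact (E.ht_lt_s k).not_ge (h ⟨Φ.s i * w, mul_mem (Φ.s_mem_WJ hi) hw⟩)

/-- a partial injection of the indices is induced by an element of `W` -/
theorem exists_w {α : Type} [Finite α] (f g : α → ℕ) (hf : ∀ a, f a < E.m) (hg : ∀ a, g a < E.m)
    (h : ∀ a b, f a = f b ↔ g a = g b) : ∃ w ∈ Φ.W, ∃ π : Equiv.Perm ℕ, (∀ a, π (f a) = g a) ∧
      (∀ i, π i < E.m ↔ i < E.m) ∧ ∀ r, E.lo (w r) = π (E.lo r) ∧ E.hi (w r) = π (E.hi r) := by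
  obtain ⟨σ, hσ⟩ := Equiv.Perm.exists_extending_pair (β := {i // i < E.m}) (α := Set.range f)
    (f := fun x => ⟨x.1, x.2.choose_spec ▸ hf _⟩) (g := fun x => ⟨g x.2.choose, hg _⟩)
    (fun x y e => Subtype.ext (Subtype.mk.inj e)) fun x y e => Subtype.ext (by
      rw [← x.2.choose_spec, ← y.2.choose_spec]
      exact (h _ _).2 (congrArg Subtype.val e))
  have k : ∀ i, Equiv.Perm.ofSubtype σ i < E.m ↔ i < E.m := fun i =>
    (Equiv.Perm.ofSubtype_apply_mem_iff_mem σ i)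
  obtain ⟨w, hw, e⟩ := E.perm _ k
  refine ⟨w, hw, _, fun a => ?_, k, e⟩
  rw [Equiv.Perm.ofSubtype_apply_of_mem σ (hf a)]
  have := congrArg Subtype.val (hσ ⟨f a, a, rfl⟩)
  exact this.trans ((h _ _).1 (Exists.choose_spec (p := fun x => f x = f a) _))

/-- `W` is transitive on ordered pairs of roots with a given pattern of indices -/
theorem ptrans' {r s r' s' : ι} (h1 : E.lo r = E.lo s ↔ E.lo r' = E.lo s')
    (h2 : E.hi r = E.hi s ↔ E.hi r' = E.hi s') (h3 : E.lo r = E.hi s ↔ E.lo r' = E.hi s')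
    (h4 : E.hi r = E.lo s ↔ E.hi r' = E.lo s') : ∃ w ∈ Φ.W, w r = r' ∧ w s = s' := by
  have := E.bd r; have := E.bd s; have := E.bd r'; have := E.bd s'
  obtain ⟨w, hw, π, e, -, k⟩ := E.exists_w ![E.lo r, E.hi r, E.lo s, E.hi s]
    ![E.lo r', E.hi r', E.lo s', E.hi s'] (fun a => by fin_cases a <;> simp <;> omega)
    (fun a => by fin_cases a <;> simp <;> omega)
    fun a b => by fin_cases a <;> fin_cases b <;> simp <;> omega
  exact ⟨w, hw, E.ext _ _ ((k r).1.trans (e 0)) ((k r).2.trans (e 1)),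
    E.ext _ _ ((k s).1.trans (e 2)) ((k s).2.trans (e 3))⟩

theorem exists_θ (r : ι) : ∃ w ∈ Φ.W, w E.θ = r := by
  have := E.ne r; have := E.ne E.θ
  obtain ⟨w, hw, e, -⟩ := E.ptrans' (r := E.θ) (s := E.θ) (r' := r) (s' := r) (by omega) (by omega)
    (by omega) (by omega)
  exact ⟨w, hw, e⟩

/-- orthogonal pairs are conjugate -/
theorem ptrans0 {r s r' s' : ι} (h : ip Φ r s = 0) (h' : ip Φ r' s' = 0) :
    ∃ w ∈ Φ.W, w r = r' ∧ w s = s' := by
  rw [E.ip_zero_iff] at h h'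
  exact E.ptrans' (by omega) (by omega) (by omega) (by omega)

/-- two orbits of collinear pairs -/
theorem ptrans1 {r s : ι} (h : ip Φ r s = 1) :
    ∃ w ∈ Φ.W, w E.θ = r ∧ (w E.β = s ∨ w E.β' = s) := by
  have := E.co; have := E.ne r; have := E.ne s
  rcases E.ip_one_iff.1 h with k | k
  · obtain ⟨w, hw, e1, e2⟩ := E.ptrans' (r := E.θ) (s := E.β') (r' := r) (s' := s) (by omega) (by omega)
      (by omega) (by omega)
    exact ⟨w, hw, e1, .inr e2⟩
  · obtain ⟨w, hw, e1, e2⟩ := E.ptrans' (r := E.θ) (s := E.β) (r' := r) (s' := s) (by omega) (by omega)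
      (by omega) (by omega)
    exact ⟨w, hw, e1, .inl e2⟩

/-- two orbits of ordered pairs whose sum is a root -/
theorem ptransR {a b k : ι} (h : RAdd Φ a b k) :
    ∃ w ∈ Φ.W, w E.θ = k ∧ ((w E.α = a ∧ w E.β = b) ∨ (w E.α = b ∧ w E.β = a)) := by
  have := E.co; have := E.ne a; have := E.ne b; have := E.ne k
  have key : ∀ {a b}, RAdd Φ a b k → E.hi a = E.lo b → E.lo a ≠ E.hi b →
      ∃ w ∈ Φ.W, w E.θ = k ∧ w E.α = a ∧ w E.β = b := fun {a b} h h1 h2 => by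
    have := E.ne a; have := E.ne b
    obtain ⟨w, hw, e1, e2⟩ := E.ptrans' (r := E.α) (s := E.β) (r' := a) (s' := b) (by omega) (by omega)
      (by omega) (by omega)
    have := E.hβ.apply hw
    rw [e1, e2] at this
    exact ⟨w, hw, Φ.rt_inj _ _ (funext fun j => (this j).trans (h j).symm), e1, e2⟩
  rcases (E.radd_iff _ _ _).1 h with c | c
  · obtain ⟨w, hw, e⟩ := key h c.1 (by omega)
    exact ⟨w, hw, e.1, .inl e.2⟩
  · obtain ⟨w, hw, e⟩ := key h.symm c.1 (by omega)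
    exact ⟨w, hw, e.1, .inr e.2⟩

theorem ort (h : 4 ≤ E.m) : ip Φ E.β' E.β = 0 := by have := E.co; rw [E.ip_zero_iff]; omega

theorem eps' {a b : ι} (h : ip Φ a b = 0) : ∃ e, ip Φ e a = 1 ∧ ip Φ e b = 1 := by
  have := E.bd a; have := E.bd b
  rw [E.ip_zero_iff] at h
  obtain ⟨e, he⟩ := E.exists_e (i := E.lo a) (j := E.hi b) (by omega) (by omega) (by omega)
  exact ⟨e, by rw [E.ip_one_iff]; omega, by rw [E.ip_one_iff]; omega⟩

/-- an index outside a short list -/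
theorem exists_idx (l : List ℕ) (h : l.length < E.m) : ∃ i, i < E.m ∧ i ∉ l := by
  by_contra k
  push Not at k
  have := (Finset.card_le_card (s := Finset.range E.m) (t := l.toFinset) fun i hi =>
    List.mem_toFinset.2 (k i (Finset.mem_range.1 hi))).trans (List.toFinset_card_le l)
  rw [Finset.card_range] at this
  omega

theorem ex2' (h4 : 4 ≤ E.m) {a r : ι} (h : ip Φ a r = 1) : ∃ e, ip Φ e a = 1 ∧ ip Φ e r = 1 := by
  have := E.bd a; have := E.bd r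
  rcases E.ip_one_iff.1 h with k | k
  · obtain ⟨i, h1, h2⟩ := E.exists_idx [E.lo a, E.hi a, E.hi r] (by simp; omega)
    simp only [List.mem_cons, List.not_mem_nil, or_false, not_or] at h2
    obtain ⟨e, he⟩ := E.exists_e (i := E.lo a) (j := i) (by omega) (by omega) (by omega)
    exact ⟨e, by rw [E.ip_one_iff]; omega, by rw [E.ip_one_iff]; omega⟩
  · obtain ⟨i, h1, h2⟩ := E.exists_idx [E.lo a, E.hi a, E.lo r] (by simp; omega)
    simp only [List.mem_cons, List.not_mem_nil, or_false, not_or] at h2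
    obtain ⟨e, he⟩ := E.exists_e (i := i) (j := E.hi a) (by omega) (by omega) (by omega)
    exact ⟨e, by rw [E.ip_one_iff]; omega, by rw [E.ip_one_iff]; omega⟩

theorem up2 (r : ι) (h : Φ.Pos r) (h1 : r ≠ E.θ) (h2 : r ≠ E.β) :
    ∃ e, Φ.Pos e ∧ e ≠ E.α ∧ ip Φ r e = -1 := by
  have := E.co; have := E.bd r
  rw [E.pos_iff] at h; rw [Ne, E.eq_iff] at h1 h2
  by_cases c : E.hi r + 1 < E.m
  · obtain ⟨e, he⟩ := E.exists_e (i := E.hi r) (j := E.m - 1) (by omega) (by omega) (by omega)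
    exact ⟨e, by rw [E.pos_iff]; omega, by rw [Ne, E.eq_iff]; omega, by rw [E.ip_neg_one_iff]; omega⟩
  · obtain ⟨e, he⟩ := E.exists_e (i := 0) (j := E.lo r) (by omega) (by omega) (by omega)
    exact ⟨e, by rw [E.pos_iff]; omega, by rw [Ne, E.eq_iff]; omega, by rw [E.ip_neg_one_iff]; omega⟩

theorem pos1 {r : ι} (h : Φ.Pos r) : ∃ r', Φ.Pos r' ∧ ip Φ r r' = 1 := by
  by_cases k : r = E.θ
  · exact ⟨E.β, E.pos_β, by rw [k, ip_comm, E.ip_βθ]⟩
  · obtain ⟨i, m, hm⟩ := E.up_pos h k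
    exact ⟨m, radd_pos hm h (Φ.pos_simple i), (E.radd_ip hm).2.1⟩

theorem gen_simple : Gen Φ (Set.range Φ.simple) := fun T h1 h2 h3 r => by
  have k : ∀ {r}, Φ.Pos r → r ∈ T := E.pos_ind (fun i => h1 ⟨i, rfl⟩)
    fun i a k _ hk ha => h3 a ha _ (h1 ⟨i, rfl⟩) k hk
  exact (Φ.pos_or_neg r).elim k fun h => Φ.neg_neg r ▸ h2 _ (k (Φ.pos_neg_iff.2 h))

theorem idl_pos : Idl Φ {r | Φ.Pos r} := ⟨fun _ h => h, fun _ h _ ha _ hk => radd_pos hk h ha⟩

theorem idl_Q : Idl Φ {r | 1 ≤ ip Φ r E.θ} := ⟨fun _ h => E.pos_of_θ h, fun r h a ha k hk => by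
  have := E.nonneg_θ ha
  rw [Set.mem_ofPred_eq] at h ⊢
  rw [hk.ip_left]
  omega⟩

theorem gen_Q : Gen Φ {r | 1 ≤ ip Φ r E.θ} := fun T h1 h2 h3 r => by
  obtain c | c | c : 1 ≤ ip Φ r E.θ ∨ ip Φ r E.θ = 0 ∨ 1 ≤ -ip Φ r E.θ := by omega
  · exact h1 c
  · obtain ⟨a, k1, k2⟩ := E.elQ r c
    obtain ⟨k, hk⟩ := E.exists_add k2
    exact h3 k (h1 (by rw [Set.mem_ofPred_eq, hk.ip_left, c, k1]; decide)) _ (h2 a (h1 k1.ge)) r hk.sub
  · exact Φ.neg_neg r ▸ h2 _ (h1 (by rwa [Set.mem_ofPred_eq, ip_neg_left]))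

theorem idl_diff (i : κ) : Idl Φ ({r | Φ.Pos r} \ {Φ.simple i}) :=   ⟨fun _ h => h.1, fun _ h _ ha _ hk =>
    ⟨radd_pos hk h.1 ha, hk.isSum.ne_simple h.1 ha i⟩⟩

theorem gen_diff (i : κ) : Gen Φ ({r | Φ.Pos r} \ {Φ.simple i}) := fun T h1 h2 h3 => by
  refine E.gen_simple T ?_ h2 h3
  have k : ∀ j, j ≠ i → Φ.simple j ∈ T := fun j hj =>
    h1 ⟨Φ.pos_simple j, fun e => hj (Φ.simple_injective e)⟩
  rintro _ ⟨j, rfl⟩
  by_cases e : j = i
  · subst e
    obtain ⟨l, m, hm⟩ := E.up_pos (Φ.pos_simple j)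
      (E.hβ.isSum.ne_simple (Φ.pos_simple E.i₀) E.pos_β j).symm
    refine h3 m (h1 ⟨radd_pos hm (Φ.pos_simple j) (Φ.pos_simple l),
      hm.isSum.ne_simple (Φ.pos_simple j) (Φ.pos_simple l) j⟩) _ (h2 _ (k l ?_)) _ hm.sub
    rintro rfl
    exact Φ.not_isSum_self _ _ hm.isSum
  · exact k j e

theorem orth_iff (h : 4 ≤ E.m) {r : ι} : 1 ≤ ip Φ r E.β' + ip Φ r E.β ↔
    (E.lo r ≤ 1 ∧ 2 ≤ E.hi r) ∨ (E.lo r + 2 < E.m ∧ E.m ≤ E.hi r + 2) := by
  have := E.co; have := E.bd r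
  rw [E.ip_eq, E.ip_eq]; split_ifs <;> omega

theorem idl_orth (h : 4 ≤ E.m) : Idl Φ {r | 1 ≤ ip Φ r E.β' + ip Φ r E.β} := by
  refine ⟨fun r hr => ?_, fun r hr a ha k hk => ?_⟩
  · rw [Set.mem_ofPred_eq, E.orth_iff h] at hr
    rw [E.pos_iff]; omega
  · have := E.bd k
    rw [Set.mem_ofPred_eq, E.orth_iff h] at hr ⊢
    rw [E.pos_iff] at ha; rw [E.radd_iff] at hk
    omega

theorem ogen (h : 4 ≤ E.m) : Gen Φ {r | 1 ≤ ip Φ r E.β' + ip Φ r E.β} := fun T h1 h2 h3 => by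
  have := E.co
  have k : ∀ r, (E.lo r ≤ 1 ∧ 2 ≤ E.hi r) ∨ (E.lo r + 2 < E.m ∧ E.m ≤ E.hi r + 2) → r ∈ T :=
    fun r hr => h1 ((E.orth_iff h).2 hr)
  refine E.gen_Q T (fun r hr => ?_) h2 h3
  have := E.bd r
  rw [Set.mem_ofPred_eq, E.one_le_iff] at hr
  by_cases c : r = E.α
  · exact h3 _ (k E.θ (by omega)) _ (h2 _ (k E.β (by omega))) _ (c ▸ E.hβ.sub)
  by_cases c' : r = E.α'
  · exact h3 _ (k E.θ (by omega)) _ (h2 _ (k E.β' (by omega))) _ (c' ▸ E.hβ'.sub)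
  rw [E.eq_iff] at c c'
  exact k r (by omega)

theorem oel (h : 4 ≤ E.m) (r : ι) (hr : Φ.Pos r) (h2 : ip Φ r E.β' + ip Φ r E.β < 2) :
    ∃ e, 1 ≤ ip Φ e E.β' + ip Φ e E.β ∧ ip Φ r e = -1 := by
  have := E.co; have := E.bd r
  have k : ¬ (E.lo r ≤ 1 ∧ E.m ≤ E.hi r + 2) := by
    rw [E.ip_eq, E.ip_eq] at h2; split_ifs at h2 <;> omega
  rw [E.pos_iff] at hr
  by_cases c : E.hi r + 2 < E.m
  · obtain ⟨e, he⟩ := E.exists_e (i := E.hi r) (j := E.m - 1) (by omega) (by omega) (by omega)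
    exact ⟨e, by rw [E.orth_iff h]; omega, by rw [E.ip_neg_one_iff]; omega⟩
  · obtain ⟨e, he⟩ := E.exists_e (i := 0) (j := E.lo r) (by omega) (by omega) (by omega)
    exact ⟨e, by rw [E.orth_iff h]; omega, by rw [E.ip_neg_one_iff]; omega⟩

theorem idl_ht (m : ℤ) : Idl Φ {r | Φ.Pos r ∧ m ≤ Φ.ht r} :=   ⟨fun _ h => h.1, fun _ h _ ha _ hk =>
    ⟨radd_pos hk h.1 ha, radd_ht hk ▸ h.2.trans (le_add_of_nonneg_right (Φ.ht_pos ha).le)⟩⟩

theorem closed_of_idl {T : Set ι} (h : Idl Φ T) : Φ.Closed T :=   E.closed_of h.1 fun a ha b hb k hk => h.2 a ha b (h.1 b hb) k hk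

/-- the roots orthogonal to `θ` -/
theorem orth_θ_iff (r : ι) : ip Φ r E.θ = 0 ↔ Φ.InSub {i | i ≠ E.i₀ ∧ i ≠ E.i₁} r := by
  have := E.co; have := E.bd r; have := E.idx₀; have := E.idx₁
  rw [E.ip_zero_iff]
  refine ⟨fun h j hj => ?_, fun h => ?_⟩
  · rw [E.rt_eq]
    by_cases c : j = E.i₀
    · subst c; split_ifs <;> omega
    · obtain rfl : j = E.i₁ := by_contra fun k => hj ⟨c, k⟩
      split_ifs <;> omega
  · have h0 := h E.i₀ fun k => k.1 rfl
    have h1 := h E.i₁ fun k => k.2 rfl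
    rw [E.rt_eq] at h0 h1
    split_ifs at h0 h1 <;> omega

theorem idl_AA : Idl Φ {r | E.lo r = 0} := by
  refine ⟨fun r hr => ?_, fun r hr a ha k hk => ?_⟩
  · have := E.bd r
    rw [Set.mem_ofPred_eq] at hr
    rw [E.pos_iff]; omega
  · rw [Set.mem_ofPred_eq] at hr ⊢
    rw [E.pos_iff] at ha; rw [E.radd_iff] at hk
    omega

theorem gen_AA : Gen Φ {r | E.lo r = 0} := fun T h1 h2 h3 r => by
  have := E.bd r
  by_cases c : E.lo r = 0
  · exact h1 c
  by_cases c' : E.hi r = 0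
  · exact Φ.neg_neg r ▸ h2 _ (h1 (show E.lo _ = 0 by rwa [E.lo_neg]))
  obtain ⟨a, ha⟩ := E.exists_e (i := 0) (j := E.lo r) (by omega) (by omega) (by omega)
  obtain ⟨b, hb⟩ := E.exists_e (i := 0) (j := E.hi r) (by omega) (by omega) (by omega)
  exact h3 _ (h2 _ (h1 ha.1)) _ (h1 hb.1) r (by rw [E.radd_iff, E.lo_neg, E.hi_neg]; omega)

theorem np : 3 ≤ NP Φ := by
  have h1 := E.np_eq
  have h2 := Nat.mul_le_mul E.three (show 2 ≤ E.m - 1 by have := E.three; omega)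
  omega

/-- the symmetries of the diagram are involutions -/
theorem sym (π : Equiv.Perm κ) (h : ∀ i j, Φ.A (π i) (π j) = Φ.A i j) : π * π = 1 := by
  have adj : ∀ i j, E.idx j = E.idx i + 1 → E.idx (π j) = E.idx (π i) + 1 ∨ E.idx (π j) + 1 = E.idx (π i) :=
    fun i j e => by
      have k := h i j
      rw [← Φ.wt_simple, ← Φ.wt_simple, E.wt_eq, E.wt_eq,
        show ip Φ (Φ.simple i) (Φ.simple j) = -1 by
          rw [E.ip_neg_one_iff, E.lo_simple, E.lo_simple, E.hi_simple, E.hi_simple]; omega,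
        E.ip_neg_one_iff, E.lo_simple, E.lo_simple, E.hi_simple, E.hi_simple] at k
      omega
  obtain ⟨j1, h1⟩ := E.idx_surj 1 (by have := E.three; omega)
  have h0 := E.idx₀
  have key : ∀ s : ℤ, (E.idx (π j1) : ℤ) = E.idx (π E.i₀) + s → (s = 1 ∨ s = -1) →
      ∀ n i, E.idx i = n → (E.idx (π i) : ℤ) = E.idx (π E.i₀) + s * n := fun s hs hs' n => by
    induction n using Nat.strong_induction_on with
    | _ n ih =>
      intro i hi
      match n with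
      | 0 => rw [E.idx_inj (hi.trans h0.symm)]; simp
      | 1 => rw [E.idx_inj (hi.trans h1.symm)]; simpa using hs
      | n + 2 =>
        have := E.idx_lt i
        obtain ⟨a, ha⟩ := E.idx_surj n (by omega)
        obtain ⟨b, hb⟩ := E.idx_surj (n + 1) (by omega)
        have k1 := ih n (by omega) a ha
        have k2 := ih (n + 1) (by omega) b hb
        have k3 := adj b i (by omega)
        have k4 : E.idx (π i) ≠ E.idx (π a) := fun e => by
          rw [π.injective (E.idx_inj e)] at hi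
          omega
        rcases hs' with rfl | rfl <;> push_cast at * <;> omega
  have b0 := E.idx_lt (π E.i₀)
  have b1 := E.idx_lt (π E.i₁)
  have b2 := E.idx₁
  ext i
  refine E.idx_inj ?_
  have := E.idx_lt i
  rcases adj E.i₀ j1 (by omega) with c | c
  · have k := key 1 (by omega) (.inl rfl)
    have k1 := k _ E.i₁ rfl
    have k2 := k _ i rfl
    have k3 := k _ (π i) rfl
    simp only [Equiv.Perm.mul_apply, Equiv.Perm.one_apply]
    omega
  · have k := key (-1) (by omega) (.inr rfl)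
    have k1 := k _ E.i₁ rfl
    have k2 := k _ i rfl
    have k3 := k _ (π i) rfl
    simp only [Equiv.Perm.mul_apply, Equiv.Perm.one_apply]
    omega

theorem γ_not_mem_W (h : E.γ ∈ Φ.W) : E.γ = 1 :=   Φ.eq_one_of_pos_simple h fun i => (E.γ_pos _).2 (Φ.pos_simple i)

end ER

end CfsgLib.SLA
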