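import Mathlib
import Cfsg.Agent.Lib.SLA.Bas

/-!
# Coordinates in `U`
-/

set_option autoImplicit false
set_option linter.unusedSectionVars false
set_option linter.unusedVariables false

namespace CfsgLib.SLA

open CfsgLib.RGD CfsgLib.Stein Subgroup
open scoped commutatorElement Pointwise

universe u

variable {ι κ : Type} [Fintype κ] [DecidableEq κ] [Finite ι] {Φ : RootSys ι κ} {E : ER Φ}
  {F : Type} [Field F] [Finite F] [CharP F 2] {G : Type u} [Group G] [Finite G]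
  {S : StSys Φ F G}

/-- a fixed list of the positive roots -/
noncomputable def posL (Φ : RootSys ι κ) : List ι := (StSys.exists_list {r | Φ.Pos r}).choose

open Classical in
/-- the coefficient of `u ∈ U` at the root `r` -/
noncomputable def cf (S : StSys Φ F G) (u : G) : ι → F :=
  if h : ∃ t : ι → F, (∀ r, ¬ Φ.Pos r → t r = 0) ∧ u = S.xprod (posL Φ) t then h.choose else 0

/-- `U_T / U_T'` is an elementary abelian layer -/
structure Lay (Φ : RootSys ι κ) (T T' : Set ι) : Prop where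
  pos : ∀ r ∈ T, Φ.Pos r
  sub : T' ⊆ T
  add : ∀ a ∈ T, ∀ b ∈ T, ∀ k, RAdd Φ a b k → k ∈ T'

/-- `T` is stable under adding `a` -/
def Stab (Φ : RootSys ι κ) (a : ι) (T : Set ι) : Prop :=
  Φ.neg a ∉ T ∧ ∀ s ∈ T, ∀ k, RAdd Φ s a k → k ∈ T

theorem posL_nodup : (posL Φ).Nodup := (StSys.exists_list {r | Φ.Pos r}).choose_spec.1

theorem mem_posL {r : ι} : r ∈ posL Φ ↔ Φ.Pos r := (StSys.exists_list {r | Φ.Pos r}).choose_spec.2 r

theorem cf_of_not_pos (u : G) {r : ι} (hr : ¬ Φ.Pos r) : cf S u r = 0 := by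
  unfold cf
  split_ifs with h
  · exact h.choose_spec.1 r hr
  · rfl

theorem xprod_cf {u : G} (hu : u ∈ S.U) : S.xprod (posL Φ) (cf S u) = u := by
  have h : ∃ t : ι → F, (∀ r, ¬ Φ.Pos r → t r = 0) ∧ u = S.xprod (posL Φ) t :=
    S.exists_xprod Φ.closed_pos (fun _ h => h) posL_nodup (fun _ => mem_posL.2) hu
  rw [cf, dif_pos h]
  exact h.choose_spec.2.symm

theorem lay_wt (lam : ι → ℤ) (hp : ∀ r, Φ.Pos r → 0 < lam r) (ha : ∀ a b k, RAdd Φ a b k → lam k = lam a + lam b)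
    (m : ℤ) : Lay Φ {r | Φ.Pos r ∧ m ≤ lam r} {r | Φ.Pos r ∧ m + 1 ≤ lam r} :=
  ⟨fun _ h => h.1, fun _ h => ⟨h.1, by have := h.2; omega⟩, fun a h b h' k e => ⟨radd_pos e h.1 h'.1, by
    have := hp b h'.1
    have := h.2
    rw [ha a b k e]
    omega⟩⟩

namespace Amb

variable (A : Amb E S) {T T' : Set ι}
include A

theorem cf_xprod_posL {t : ι → F} (h : ∀ r, ¬ Φ.Pos r → t r = 0) : cf S (S.xprod (posL Φ) t) = t := funext fun r => by
  by_cases hr : Φ.Pos r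
  · exact A.nd.xprod_inj posL_nodup (fun _ => mem_posL.1) (xprod_cf (S.xprod_mem_UU (fun _ => mem_posL.1) t)) r
      (mem_posL.2 hr)
  · rw [cf_of_not_pos _ hr, h r hr]

/-- two root elements commute or satisfy the commutator formula -/
theorem x_cases {a b : ι} (h : b ≠ Φ.neg a) : 0 ≤ ip Φ a b ∨ ∃ k, RAdd Φ a b k := by
  rcases E.ip_cases a b with e | e | e | e | e
  · exact .inl (by omega)
  · exact .inl (by omega)
  · exact .inl (by omega)
  · exact .inr (E.exists_add e)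
  · exact absurd e.1 h

theorem le_norm {K : Set ι} (p : ∀ r ∈ T, Φ.Pos r) (pK : ∀ r ∈ K, Φ.Pos r)
    (h : ∀ a ∈ T, ∀ b ∈ K, ∀ k, RAdd Φ a b k → k ∈ K) : S.UU T ≤ normalizer (S.UU K : Set G) :=
  S.UU_le_normalizer fun a ha b hb => ⟨Φ.ne_neg_of_pos (p a ha) (pK b hb), fun k hk =>
    h a ha b hb k ((E.isSum_iff (Φ.ne_neg_of_pos (p a ha) (pK b hb))).1 hk)⟩

theorem comm_UU {K : Set ι} (p : ∀ a ∈ T, ∀ b ∈ T', b ≠ Φ.neg a) (h : ∀ a ∈ T, ∀ b ∈ T', ∀ k, RAdd Φ a b k → k ∈ K)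
    (h1 : S.UU T ≤ normalizer (S.UU K : Set G)) (h2 : S.UU T' ≤ normalizer (S.UU K : Set G)) {u v : G}
    (hu : u ∈ S.UU T) (hv : v ∈ S.UU T') : u * v * u⁻¹ * v⁻¹ ∈ S.UU K := by
  refine S.UU_induction (p := fun u => u * v * u⁻¹ * v⁻¹ ∈ S.UU K) (by simp) (fun a ha c g hg ih => ?_) hu
  have k : S.x a c * v * (S.x a c)⁻¹ * v⁻¹ ∈ S.UU K := by
    refine S.UU_induction (p := fun v => S.x a c * v * (S.x a c)⁻¹ * v⁻¹ ∈ S.UU K) (by simp)
      (fun b hb d g hg ih => ?_) hv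
    have k : S.x a c * S.x b d * (S.x a c)⁻¹ * (S.x b d)⁻¹ ∈ S.UU K := by
      rcases A.x_cases (p a ha b hb) with e | ⟨k, e⟩
      · rw [A.com e]; simp
      · rw [A.rel.cm a b k e]; exact S.x_mem_UU (h a ha b hb k e) _
    convert mul_mem ih (UFP.conj_mem (h2 hg) k) using 1
    group
  convert mul_mem (UFP.conj_mem (h1 hg) k) ih using 1
  group

theorem lay_closed (h : Lay Φ T T') : Φ.Closed T := E.closed_of h.pos fun a ha b hb k e => h.sub (h.add a ha b hb k e)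

theorem lay_closed' (h : Lay Φ T T') : Φ.Closed T' :=
  E.closed_of (fun r hr => h.pos r (h.sub hr)) fun a ha b hb k e => h.add a (h.sub ha) b (h.sub hb) k e

theorem lay_norm (h : Lay Φ T T') : S.UU T ≤ normalizer (S.UU T' : Set G) :=
  A.le_norm h.pos (fun r hr => h.pos r (h.sub hr)) fun a ha b hb k e => h.add a ha b (h.sub hb) k e

theorem lay_comm (h : Lay Φ T T') {u v : G} (hu : u ∈ S.UU T) (hv : v ∈ S.UU T) : u * v * u⁻¹ * v⁻¹ ∈ S.UU T' :=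
  A.comm_UU (fun a ha b hb => Φ.ne_neg_of_pos (h.pos a ha) (h.pos b hb)) h.add (A.lay_norm h) (A.lay_norm h) hu hv

theorem xprod_add (h : Lay Φ T T') {t t' : ι → F} (ht : ∀ r, r ∉ T → t r = 0) (ht' : ∀ r, r ∉ T → t' r = 0)
    (L : List ι) : (S.xprod L t * S.xprod L t')⁻¹ * S.xprod L (t + t') ∈ S.UU T' := by
  induction L with
  | nil => simp [S.xprod_nil]
  | cons r L ih =>
    have h1 : S.x r (t' r) ∈ S.UU T := by
      simpa [StSys.xprod] using S.xprod_mem_UU' (L := [r]) fun r _ => ht' r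
    convert mul_mem (UFP.conj_mem' (A.lay_norm h (S.xprod_mem_UU' (L := L) fun r _ => ht' r))
      (A.lay_comm h (inv_mem h1) (inv_mem (S.xprod_mem_UU' (L := L) fun r _ => ht r)))) ih using 1
    simp only [S.xprod_cons, Pi.add_apply, S.x_add]
    group

theorem cf_one (r : ι) : cf S 1 r = 0 := by
  rw [← S.xprod_zero (posL Φ), A.cf_xprod_posL fun _ _ => rfl]

open Classical in
theorem cf_x {r : ι} (hr : Φ.Pos r) (c : F) : cf S (S.x r c) = Pi.single r c := by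
  rw [← S.xprod_single posL_nodup (mem_posL.2 hr), A.cf_xprod_posL fun s hs => by
    simp [show s ≠ r by rintro rfl; exact hs hr]]

theorem cf_x_self {r : ι} (hr : Φ.Pos r) (c : F) : cf S (S.x r c) r = c := by
  classical
  simp [A.cf_x hr]

theorem cf_x_ne {r s : ι} (hr : Φ.Pos r) (h : s ≠ r) (c : F) : cf S (S.x r c) s = 0 := by
  classical
  simp [A.cf_x hr, h]

theorem cf_ext {u v : G} (hu : u ∈ S.U) (hv : v ∈ S.U) (h : ∀ r, Φ.Pos r → cf S u r = cf S v r) :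
    u = v := by
  rw [← xprod_cf hu, ← xprod_cf hv]
  exact S.xprod_congr fun r hr => h r (mem_posL.1 hr)

theorem cf_eq_zero (hT : Φ.Closed T) (hp : ∀ r ∈ T, Φ.Pos r) {u : G} (hu : u ∈ S.UU T) {r : ι}
    (hr : r ∉ T) : cf S u r = 0 := by
  obtain ⟨t, ht, rfl⟩ := S.exists_xprod hT hp posL_nodup (fun r hr => mem_posL.2 (hp r hr)) hu
  rw [A.cf_xprod_posL fun r h => ht r fun h' => h (hp r h'), ht r hr]

theorem mem_of_cf {u : G} (hu : u ∈ S.U) (h : ∀ r, Φ.Pos r → r ∉ T → cf S u r = 0) :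
    u ∈ S.UU T := xprod_cf hu ▸ S.xprod_mem_UU' fun r hr => h r (mem_posL.1 hr)

theorem cf_congr (h : Lay Φ T T') {u v : G} (hu : u ∈ S.UU T) (hv : v ∈ S.UU T) (e : u⁻¹ * v ∈ S.UU T') {r : ι}
    (hr : r ∉ T') : cf S u r = cf S v r := by
  have k : ∀ {u}, u ∈ S.UU T → ∀ r, r ∉ T → cf S u r = 0 := fun hu _ => A.cf_eq_zero (A.lay_closed h) h.pos hu
  have h1 := A.xprod_add h (k hu) (t' := cf S u + cf S v) (fun r hr => by simp [k hu r hr, k hv r hr]) (posL Φ)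
  rw [← add_assoc, show cf S u + cf S u = 0 from funext fun _ => CharTwo.add_self_eq_zero _, zero_add,
    xprod_cf (S.UU_le_U h.pos hu), xprod_cf (S.UU_le_U h.pos hv), mul_inv_rev, mul_assoc, mul_mem_cancel_right e,
    inv_mem_iff] at h1
  have h2 := A.cf_eq_zero (A.lay_closed' h) (fun r hr => h.pos r (h.sub hr)) h1 hr
  rw [A.cf_xprod_posL fun r hr => by simp [cf_of_not_pos _ hr]] at h2
  exact CharTwo.add_eq_zero.1 h2

theorem cf_mul (h : Lay Φ T T') {u v : G} (hu : u ∈ S.UU T) (hv : v ∈ S.UU T) {r : ι}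
    (hr : r ∉ T') : cf S (u * v) r = cf S u r + cf S v r := by
  have k : ∀ {u}, u ∈ S.UU T → ∀ r, r ∉ T → cf S u r = 0 := fun hu _ => A.cf_eq_zero (A.lay_closed h) h.pos hu
  have h1 := A.xprod_add h (k hu) (k hv) (posL Φ)
  rw [xprod_cf (S.UU_le_U h.pos hu), xprod_cf (S.UU_le_U h.pos hv)] at h1
  rw [A.cf_congr h (mul_mem hu hv) (S.xprod_mem_UU' fun r _ hr => by simp [k hu r hr, k hv r hr]) h1 hr,
    A.cf_xprod_posL fun r hr => by simp [cf_of_not_pos _ hr], Pi.add_apply]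

theorem cf_inv (h : Lay Φ T T') {u : G} (hu : u ∈ S.UU T) {r : ι} (hr : r ∉ T') :
    cf S u⁻¹ r = cf S u r := by
  rw [← CharTwo.add_eq_zero, ← A.cf_mul h (inv_mem hu) hu hr, inv_mul_cancel, A.cf_one]

theorem cf_xprod (h : Lay Φ T T') {L : List ι} (hL : L.Nodup) (hT : ∀ r ∈ L, r ∈ T) (t : ι → F)
    {r : ι} (hr : r ∉ T') : (r ∈ L → cf S (S.xprod L t) r = t r) ∧
      (r ∉ L → cf S (S.xprod L t) r = 0) := by
  induction L with
  | nil => simp [S.xprod_nil, A.cf_one]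
  | cons s L ih =>
    rw [List.nodup_cons] at hL
    rw [List.forall_mem_cons] at hT
    obtain ⟨h1, h2⟩ := ih hL.2 hT.2
    rw [S.xprod_cons, A.cf_mul h (S.x_mem_UU hT.1 _) (S.xprod_mem_UU hT.2 t) hr, List.mem_cons, not_or]
    refine ⟨fun e => ?_, fun e => by rw [A.cf_x_ne (h.pos s hT.1) e.1, h2 e.2, add_zero]⟩
    rcases e with rfl | e
    · rw [A.cf_x_self (h.pos r hT.1), h2 hL.1, add_zero]
    · rw [A.cf_x_ne (h.pos s hT.1) (by rintro rfl; exact hL.1 e), h1 e, zero_add]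

theorem mul_inv_mem (h : Lay Φ T T') {u v : G} (hu : u ∈ S.UU T) (hv : v ∈ S.UU T)
    (e : ∀ r ∈ T, r ∉ T' → cf S u r = cf S v r) : u * v⁻¹ ∈ S.UU T' := by
  refine A.mem_of_cf (S.UU_le_U h.pos (mul_mem hu (inv_mem hv))) fun r _ hr => ?_
  by_cases h1 : r ∈ T
  · rw [A.cf_mul h hu (inv_mem hv) hr, A.cf_inv h hv hr, e r h1 hr, CharTwo.add_self_eq_zero]
  · exact A.cf_eq_zero (A.lay_closed h) h.pos (mul_mem hu (inv_mem hv)) h1

theorem x_conj_mem {a : ι} (h : Stab Φ a T) (c : F) {u : G} (hu : u ∈ S.UU T) :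
    S.x a c * u * (S.x a c)⁻¹ ∈ S.UU T :=
  S.x_conj_mem_UU (fun s hs => ⟨fun e => h.1 (e ▸ hs), fun k hk =>
    h.2 s hs k ((E.isSum_iff fun e => h.1 (e ▸ hs)).1 hk).symm⟩) c hu

/-- additive functions are compared on the generators -/
theorem eq_of_add {f g : G → F} (hf : ∀ u ∈ S.UU T, ∀ v ∈ S.UU T, f (u * v) = f u + f v)
    (hg : ∀ u ∈ S.UU T, ∀ v ∈ S.UU T, g (u * v) = g u + g v) (h : ∀ r ∈ T, ∀ c, f (S.x r c) = g (S.x r c)) {u : G}
    (hu : u ∈ S.UU T) : f u = g u := by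
  have k : ∀ {f : G → F}, (∀ u ∈ S.UU T, ∀ v ∈ S.UU T, f (u * v) = f u + f v) → f 1 = 0 := fun hf => by
    simpa using hf 1 (one_mem _) 1 (one_mem _)
  exact S.UU_induction (p := fun u => f u = g u) (by rw [k hf, k hg]) (fun r hr c u hu ih => by
    rw [hf u hu _ (S.x_mem_UU hr c), hg u hu _ (S.x_mem_UU hr c), ih, h r hr]) hu

theorem cf_conj_mul (h : Lay Φ T T') {g : G} (hg : ∀ u ∈ S.UU T, g * u * g⁻¹ ∈ S.UU T) {k : ι} (hk : k ∉ T') :
    ∀ u ∈ S.UU T, ∀ v ∈ S.UU T, cf S (g * (u * v) * g⁻¹) k = cf S (g * u * g⁻¹) k + cf S (g * v * g⁻¹) k :=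
  fun u hu v hv => by rw [← conj_mul, A.cf_mul h (hg u hu) (hg v hv) hk]

/-- the action of a root element on a layer -/
theorem cf_conj_add (h : Lay Φ T T') {a : ι} (h1 : Stab Φ a T) (h2 : Stab Φ a T') (c : F) {u : G}
    (hu : u ∈ S.UU T) {s k : ι} (hs : RAdd Φ s a k) (hk : k ∉ T') :
    cf S (S.x a c * u * (S.x a c)⁻¹) k = cf S u k + c * cf S u s := by
  have hs' : s ∉ T' := fun e => hk (h2.2 s e k hs)
  refine A.eq_of_add (f := fun u => cf S (S.x a c * u * (S.x a c)⁻¹) k) (g := fun u => cf S u k + c * cf S u s)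
    (A.cf_conj_mul h (fun _ => A.x_conj_mem h1 c) hk)
    (fun u hu v hv => by rw [A.cf_mul h hu hv hk, A.cf_mul h hu hv hs']; ring) (fun r hr d => ?_) hu
  rcases A.x_cases (a := a) (b := r) (fun e => h1.1 (e ▸ hr)) with e | ⟨j, e⟩
  · rw [A.com e, mul_inv_cancel_right, A.cf_x_ne (s := s) (h.pos r hr) (by
      rintro rfl; rw [(E.radd_ip hs.symm).1] at e; omega), mul_zero, add_zero]
  · have hj := h1.2 r hr j e.symm
    rw [A.conj_x e, A.cf_mul h (S.x_mem_UU hr _) (S.x_mem_UU hj _) hk]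
    by_cases e' : s = r
    · rw [e'] at hs ⊢
      rw [hs.symm.unique' e, A.cf_x_self (h.pos j hj), A.cf_x_self (h.pos r hr)]
    · rw [A.cf_x_ne (h.pos r hr) e', A.cf_x_ne (h.pos j hj) (by rintro rfl; exact e' (hs.symm.unique e)), mul_zero]

theorem cf_conj_fix (h : Lay Φ T T') {a : ι} (h1 : Stab Φ a T) (h2 : Stab Φ a T') (c : F) {u : G}
    (hu : u ∈ S.UU T) {k : ι} (hs : ∀ s ∈ T, ¬ RAdd Φ s a k) (hk : k ∉ T') :
    cf S (S.x a c * u * (S.x a c)⁻¹) k = cf S u k := by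
  refine A.eq_of_add (f := fun u => cf S (S.x a c * u * (S.x a c)⁻¹) k) (g := fun u => cf S u k)
    (A.cf_conj_mul h (fun _ => A.x_conj_mem h1 c) hk) (fun u hu v hv => A.cf_mul h hu hv hk) (fun r hr d => ?_) hu
  rcases A.x_cases (a := a) (b := r) (fun e => h1.1 (e ▸ hr)) with e | ⟨j, e⟩
  · rw [A.com e, mul_inv_cancel_right]
  · have hj := h1.2 r hr j e.symm
    rw [A.conj_x e, A.cf_mul h (S.x_mem_UU hr _) (S.x_mem_UU hj _) hk,
      A.cf_x_ne (h.pos j hj) (by rintro rfl; exact hs r hr e.symm), add_zero]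

/-- the action of a standard element on a layer -/
theorem cf_std (h : Lay Φ T T') {g : G} {π : Equiv.Perm ι} {d : ι → F} {σ : F ≃+* F}
    (hg : StdD S g π d σ) (h1 : ∀ r, π r ∈ T ↔ r ∈ T) (h2 : ∀ r, π r ∈ T' ↔ r ∈ T') {u : G}
    (hu : u ∈ S.UU T) {r : ι} (hr : r ∉ T') : cf S (g * u * g⁻¹) (π r) = d r * σ (cf S u r) := by
  refine A.eq_of_add (f := fun u => cf S (g * u * g⁻¹) (π r)) (g := fun u => d r * σ (cf S u r))
    (A.cf_conj_mul h (fun _ => hg.conj_mem fun r => (h1 r).2) (mt (h2 r).1 hr))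
    (fun u hu v hv => by rw [A.cf_mul h hu hv hr, map_add, mul_add]) (fun s hs c => ?_) hu
  rw [hg.2]
  by_cases e : r = s
  · rw [e, A.cf_x_self (h.pos _ ((h1 s).2 hs)), A.cf_x_self (h.pos s hs)]
  · rw [A.cf_x_ne (h.pos _ ((h1 s).2 hs)) (π.injective.ne e), A.cf_x_ne (h.pos s hs) e, map_zero, mul_zero]

/-- `U` acts trivially on a layer between two ideals of consecutive weights -/
theorem comm_mem_wt (lam : ι → ℤ) (hp : ∀ r, Φ.Pos r → 0 < lam r)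
    (ha : ∀ a b k, RAdd Φ a b k → lam k = lam a + lam b) {m n : ℤ} {u v : G}
    (hu : u ∈ S.UU {r | Φ.Pos r ∧ m ≤ lam r}) (hv : v ∈ S.UU {r | Φ.Pos r ∧ n ≤ lam r}) :
    u * v * u⁻¹ * v⁻¹ ∈ S.UU {r | Φ.Pos r ∧ m + n ≤ lam r} := by
  have k : ∀ {l}, S.UU {r | Φ.Pos r ∧ l ≤ lam r} ≤ normalizer (S.UU {r | Φ.Pos r ∧ m + n ≤ lam r} : Set G) := by
    refine fun {l} => A.le_norm (fun _ h => h.1) (fun _ h => h.1) fun a h b h' k e => ⟨radd_pos e h.1 h'.1, ?_⟩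
    have := hp a h.1
    have := h'.2
    rw [ha a b k e]
    omega
  refine A.comm_UU (fun a h b h' => Φ.ne_neg_of_pos h.1 h'.1) (fun a h b h' k e => ?_) k k hu hv
  exact ⟨radd_pos e h.1 h'.1, ha a b k e ▸ add_le_add h.2 h'.2⟩

/-- the leading term of a commutator with a root element -/
theorem cf_comm (lam : ι → ℤ) (hp : ∀ r, Φ.Pos r → 0 < lam r)
    (ha : ∀ a b k, RAdd Φ a b k → lam k = lam a + lam b) {m : ℤ} {u : G}
    (hu : u ∈ S.UU {r | Φ.Pos r ∧ m ≤ lam r}) {a k : ι} (h : Φ.Pos a) (hk : lam k = m + lam a)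
    (c : F) : (∀ s, RAdd Φ s a k → cf S (u * S.x a c * u⁻¹ * (S.x a c)⁻¹) k = c * cf S u s) ∧
      ((∀ s, ¬ RAdd Φ s a k) → cf S (u * S.x a c * u⁻¹ * (S.x a c)⁻¹) k = 0) := by
  have L := lay_wt lam hp ha
  have hk' : k ∉ {r | Φ.Pos r ∧ m + lam a + 1 ≤ lam r} := fun e => by have := e.2; omega
  have add : ∀ u ∈ S.UU {r | Φ.Pos r ∧ m ≤ lam r}, ∀ v ∈ S.UU {r | Φ.Pos r ∧ m ≤ lam r},
      cf S (u * v * S.x a c * (u * v)⁻¹ * (S.x a c)⁻¹) k =
        cf S (u * S.x a c * u⁻¹ * (S.x a c)⁻¹) k + cf S (v * S.x a c * v⁻¹ * (S.x a c)⁻¹) k := fun u hu v hv => by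
    have x1 : S.x a c ∈ S.UU {r | Φ.Pos r ∧ lam a ≤ lam r} := S.x_mem_UU (by exact ⟨h, le_rfl⟩) c
    have h1 := A.comm_mem_wt lam hp ha hu x1
    have h2 := A.comm_mem_wt lam hp ha hv x1
    have h3 := A.comm_mem_wt lam hp ha (inv_mem h2) (S.UU_mono (fun r hr => by exact ⟨hr.1, hp r hr.1⟩) hu :
      u ∈ S.UU {r | Φ.Pos r ∧ 1 ≤ lam r})
    have h4 := mul_mem h2 (S.UU_mono (L _).sub h3)
    rw [add_comm, A.cf_congr (L _) h2 h4 (by rwa [inv_mul_cancel_left]) hk', ← A.cf_mul (L _) h4 h1 hk']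
    congr 1
    group
  have gen : ∀ r ∈ {r | Φ.Pos r ∧ m ≤ lam r}, ∀ d, ¬ RAdd Φ r a k →
      cf S (S.x r d * S.x a c * (S.x r d)⁻¹ * (S.x a c)⁻¹) k = 0 := fun r hr d hn => by
    rcases A.x_cases (Φ.ne_neg_of_pos hr.1 h) with e | ⟨j, e⟩
    · rw [A.com e, mul_inv_cancel_right, mul_inv_cancel, A.cf_one]
    · rw [A.rel.cm r a j e, A.cf_x_ne (radd_pos e hr.1 h) (by rintro rfl; exact hn e)]
  have key := fun g => A.eq_of_add (f := fun u => cf S (u * S.x a c * u⁻¹ * (S.x a c)⁻¹) k) (g := g) (u := u) add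
  refine ⟨fun s hs => key (fun u => c * cf S u s) (fun u hu v hv => by
    rw [A.cf_mul (L m) hu hv fun e => by have := e.2; have := ha _ _ _ hs; omega, mul_add]) (fun r hr d => ?_) hu,
    fun hs => key (fun _ => 0) (fun _ _ _ _ => by simp) (fun r hr d => gen r hr d (hs r)) hu⟩
  by_cases e : s = r
  · rw [← e, A.rel.cm s a k hs, A.cf_x_self (radd_pos hs (e ▸ hr.1) h), A.cf_x_self (e ▸ hr.1), mul_comm]
  · rw [gen r hr d fun e' => e (hs.symm.unique e'.symm), A.cf_x_ne hr.1 e, mul_zero]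

/-- **elimination**: `T` is an ideal for the weight `lam` -/
theorem elim (lam : ι → ℤ) (hp : ∀ r, Φ.Pos r → 0 < lam r)
    (ha : ∀ a b k, RAdd Φ a b k → lam k = lam a + lam b)
    (hT : ∀ r ∈ T, ∀ s, Φ.Pos s → lam r < lam s → s ∈ T) {u : G} (hu : u ∈ S.U)
    (h : ∀ r, Φ.Pos r → r ∉ T → ∃ a k, Φ.Pos a ∧ RAdd Φ r a k ∧
      cf S (u * S.x a 1 * u⁻¹ * (S.x a 1)⁻¹) k = 0) : u ∈ S.UU T := by
  refine A.mem_of_cf hu fun r => ?_
  induction hn : (lam r).toNat using Nat.strong_induction_on generalizing r with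
  | _ n ih =>
    intro hr hr'
    obtain ⟨a, k, h1, h2, h3⟩ := h r hr hr'
    have h4 : u ∈ S.UU {s | Φ.Pos s ∧ lam r ≤ lam s} := A.mem_of_cf hu fun s hs hs' => by
      have h5 : lam s < lam r := not_le.1 fun e => hs' ⟨hs, e⟩
      exact ih _ (by have := hp s hs; omega) s rfl hs fun e => hr' (hT s e r hr h5)
    rw [← h3, (A.cf_comm lam hp ha h4 h1 (ha _ _ _ h2) 1).1 r h2, one_mul]

/-- elimination for a grading `gr` -/
theorem elim_gr (gr : ι → ℤ) (hp : ∀ r, Φ.Pos r → 0 ≤ gr r)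
    (ha : ∀ a b k, RAdd Φ a b k → gr k = gr a + gr b) (m : ℤ) {u : G} (hu : u ∈ S.U)
    (h : ∀ r, Φ.Pos r → gr r < m → ∃ a k, Φ.Pos a ∧ RAdd Φ r a k ∧
      cf S (u * S.x a 1 * u⁻¹ * (S.x a 1)⁻¹) k = 0) :
    u ∈ S.UU {r | Φ.Pos r ∧ m ≤ gr r} := by
  have k : ∀ r, Φ.ht r ≤ Φ.ht E.θ := fun r => (eq_or_ne r E.θ).elim (fun e => e ▸ le_rfl) fun e => (E.ht_lt_θ e).le
  have k0 := Φ.ht_pos E.pos_θ
  refine A.elim (fun r => Φ.ht E.θ * gr r + Φ.ht r) (fun r hr => ?_) (fun a b c e => ?_) (fun r hr s hs e => ?_) hu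
    fun r hr hr' => h r hr (not_le.1 fun e => hr' ⟨hr, e⟩)
  · have := hp r hr
    have := Φ.ht_pos hr
    positivity
  · rw [ha a b c e, radd_ht e]; ring
  · refine ⟨hs, hr.2.trans (not_lt.1 fun e' => ?_)⟩
    have := Φ.ht_pos hr.1
    have := k s
    nlinarith [mul_le_mul_of_nonneg_left (Int.add_one_le_of_lt e') k0.le]

end Amb

end CfsgLib.SLA
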