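import Mathlib
import Cfsg.Agent.Lib.RGD.BorelTits
import Cfsg.Agent.Lib.SLA.Cf
import Cfsg.Agent.Lib.SLA.Aut

/-!
# Centralisers of ideals of `U`
-/

set_option autoImplicit false

namespace CfsgLib.SLA

open CfsgLib.RGD CfsgLib.Stein Subgroup
open scoped commutatorElement Pointwise

universe u

variable {ι κ : Type} [Fintype κ] [DecidableEq κ] [Finite ι] {Φ : RootSys ι κ} {E : ER Φ}
  {F : Type} [Field F] [Finite F] [CharP F 2] {G : Type u} [Group G] [Finite G]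
  {S : StSys Φ F G}

omit [Finite ι] in
theorem ca_closed (m : ℤ) {r : ι} (hr : Φ.ht r ≤ m) :
    Φ.Closed {s | Φ.Pos s ∧ m ≤ Φ.ht s ∧ s ≠ r} := by
  intro a ha b hb k hk
  have h1 := hk.ht_le ha.1 hb.1
  have h2 := Φ.ht_pos ha.1
  have h3 := hb.2.1
  refine ⟨hk.pos ha.1 hb.1, by omega, ?_⟩
  rintro rfl
  omega

omit [Finite ι] in
theorem ca_closed' (m : ℤ) : Φ.Closed {s | Φ.Pos s ∧ m ≤ Φ.ht s} := by
  intro a ha b hb k hk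
  have h1 := hk.ht_le ha.1 hb.1
  have h2 := Φ.ht_pos ha.1
  have h3 := hb.2
  exact ⟨hk.pos ha.1 hb.1, by omega⟩

theorem ca_ideal (E : ER Φ) {T : Set ι} (h1 : Idl Φ T) {a s : ι} (ha : Φ.Pos a) (hs : s ∈ T) :
    s ≠ Φ.neg a ∧ ∀ k, Φ.IsSum a s k → k ∈ T ∧ Φ.ht s < Φ.ht k := by
  have h0 := Φ.ne_neg_of_pos ha (h1.1 s hs)
  refine ⟨h0, fun k hk => ⟨h1.2 s hs a ha k ((E.isSum_iff h0).1 hk).symm, ?_⟩⟩
  have h2 := hk.ht_le ha (h1.1 s hs)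
  have h3 := Φ.ht_pos ha
  omega

/-- `U` acts trivially on the height layers of an ideal -/
theorem ca_conj (E : ER Φ) {T : Set ι} (h1 : Idl Φ T) {r : ι} (hr : r ∈ T) {c : F} {u y : G}
    (hu : u ∈ S.U) (hy : y * (S.x r c)⁻¹ ∈ S.UU {s | s ∈ T ∧ Φ.ht r < Φ.ht s}) :
    u * y * u⁻¹ * (S.x r c)⁻¹ ∈ S.UU {s | s ∈ T ∧ Φ.ht r < Φ.ht s} := by
  have k : ∀ a ∈ {a | Φ.Pos a}, ∀ s ∈ {s | s ∈ T ∧ Φ.ht r < Φ.ht s}, s ≠ Φ.neg a ∧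
      ∀ k, Φ.IsSum a s k → k ∈ {s | s ∈ T ∧ Φ.ht r < Φ.ht s} := fun a ha s hs =>
    ⟨(ca_ideal E h1 ha hs.1).1, fun k hk =>
      ⟨((ca_ideal E h1 ha hs.1).2 k hk).1, hs.2.trans ((ca_ideal E h1 ha hs.1).2 k hk).2⟩⟩
  have k1 := S.conj_mem_UU k hu hy
  have k2 := S.comm_mem_UU_of_mem (r := r) (fun s hs => ⟨Φ.ne_neg_of_pos (h1.1 r hr) hs,
    fun k hk => (ca_ideal E h1 hs hr).2 k hk.symm⟩) k (inv_mem hu) (-c)
  have := mul_mem k1 k2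
  simpa [S.x_neg, mul_assoc] using this

namespace Amb

variable (A : Amb E S) {g : G}
include A

theorem ca_step {T : Set ι} (h1 : Idl Φ T) {n δ y : G} {w π : Equiv.Perm ι} {d : ι → F}
    {σ : F ≃+* F} (hw : w ∈ Φ.W) (hn : S.Acts n w) (hδ : StdD S δ π d σ) (p : E.Gp π) {r : ι}
    (hr : r ∈ T) (hy : y * (S.x r 1)⁻¹ ∈ S.UU {s | s ∈ T ∧ Φ.ht r < Φ.ht s})
    (hy' : n * δ * y * (n * δ)⁻¹ * (S.x r 1)⁻¹ ∈ S.UU {s | s ∈ T ∧ Φ.ht r < Φ.ht s}) :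
    w (π r) ∈ T ∧ Φ.ht r ≤ Φ.ht (w (π r)) := by
  by_contra hne
  have k0 : ∀ z : G, z * (S.x r 1)⁻¹ ∈ S.UU {s | s ∈ T ∧ Φ.ht r < Φ.ht s} →
      z ∈ S.UU {s | s ∈ T ∧ Φ.ht r ≤ Φ.ht s} := fun z hz => by
    simpa using mul_mem (S.UU_mono (fun s hs => by exact ⟨hs.1, hs.2.le⟩) hz)
      (S.x_mem_UU (Ψ := {s | s ∈ T ∧ Φ.ht r ≤ Φ.ht s}) ⟨hr, le_rfl⟩ 1)
  have e : n⁻¹ * (n * δ * y * (n * δ)⁻¹) * n⁻¹⁻¹ = δ * y * δ⁻¹ := by group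
  have k1 := A.nd.mem_UU_inter (ca_closed' (Φ.ht r)) (fun _ h => h.1)
    (Ψ' := {s | s ∈ T ∧ Φ.ht r ≤ Φ.ht s}) (fun a ha b hb k hk =>
      ⟨((ca_ideal E h1 (h1.1 a ha.1) hb.1).2 k hk).1,
        hb.2.trans ((ca_ideal E h1 (h1.1 a ha.1) hb.1).2 k hk).2.le⟩)
    (fun s hs => h1.1 s hs.1) (inv_mem hw) (hn.inv hw) (k0 _ hy') (by
      rw [e]
      exact hδ.conj_mem (fun s hs => by exact ⟨(p.pos s).2 (h1.1 s hs.1), by rw [p.ht]; exact hs.2⟩)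
        (k0 _ hy))
  rw [e, inv_inv] at k1
  have k2 : δ * y * δ⁻¹ ∈ S.UU {s | Φ.Pos s ∧ Φ.ht r ≤ Φ.ht s ∧ s ≠ π r} :=
    S.UU_mono (fun s hs => by exact ⟨hs.1.1, hs.1.2, by rintro rfl; exact hne hs.2⟩) k1
  have k3 : δ * (y * (S.x r 1)⁻¹) * δ⁻¹ ∈ S.UU {s | Φ.Pos s ∧ Φ.ht r ≤ Φ.ht s ∧ s ≠ π r} :=
    hδ.conj_mem (fun s hs => by
      refine ⟨(p.pos s).2 (h1.1 s hs.1), by rw [p.ht]; exact hs.2.le, fun h => ?_⟩
      have := hs.2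
      rw [π.injective h] at this
      exact lt_irrefl _ this) hy
  have k4 := mul_mem (inv_mem k3) k2
  have e2 : (δ * (y * (S.x r 1)⁻¹) * δ⁻¹)⁻¹ * (δ * y * δ⁻¹) = δ * (S.x r 1 * y⁻¹ * y) * δ⁻¹ := by
    group
  rw [e2, inv_mul_cancel_right, hδ.2] at k4
  have := A.nd.eq_zero_of_mem_UU (ca_closed _ (p.ht r).le) (fun _ h => h.1)
    ((p.pos r).2 (h1.1 r hr)) (fun h => h.2.2 rfl) k4
  exact hδ.ne_zero r (by simpa using this)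

theorem ca_fix {T : Set ι} (h1 : Idl Φ T) {ε y : G} {ρ : Equiv.Perm ι} {d : ι → F}
    {σ : F ≃+* F} (hε : StdD S ε ρ d σ) (hρ : ∀ s ∈ T, ρ s ∈ T ∧ Φ.ht s ≤ Φ.ht (ρ s)) {r : ι}
    (hr : r ∈ T) (hy : y * (S.x r 1)⁻¹ ∈ S.UU {s | s ∈ T ∧ Φ.ht r < Φ.ht s})
    (hy' : ε * y * ε⁻¹ * (S.x r 1)⁻¹ ∈ S.UU {s | s ∈ T ∧ Φ.ht r < Φ.ht s}) :
    ρ r = r ∧ d r = 1 := by
  have k1 := mul_mem (inv_mem (hε.conj_mem (T' := {s | s ∈ T ∧ Φ.ht r < Φ.ht s})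
    (fun s hs => ⟨(hρ s hs.1).1, hs.2.trans_le (hρ s hs.1).2⟩) hy)) hy'
  have e : (ε * (y * (S.x r 1)⁻¹) * ε⁻¹)⁻¹ * (ε * y * ε⁻¹ * (S.x r 1)⁻¹) =
      ε * S.x r 1 * ε⁻¹ * (S.x r 1)⁻¹ := by group
  rw [e, hε.2] at k1
  have k2 : S.x (ρ r) (d r * σ 1) * (S.x r 1)⁻¹ ∈ S.UU {s | Φ.Pos s ∧ Φ.ht r ≤ Φ.ht s ∧ s ≠ r} :=
    S.UU_mono (fun s hs => by
      exact ⟨h1.1 s hs.1, hs.2.le, by rintro rfl; exact lt_irrefl _ hs.2⟩) k1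
  have k3 : ∀ c, S.x r c ∈ S.UU {s | Φ.Pos s ∧ Φ.ht r ≤ Φ.ht s ∧ s ≠ r} → c = 0 := fun c hc =>
    A.nd.eq_zero_of_mem_UU (ca_closed _ le_rfl) (fun _ h => h.1) (h1.1 r hr) (fun h => h.2.2 rfl) hc
  have k4 : ρ r = r := by
    by_contra hne
    have := inv_mem (mul_mem (inv_mem (S.x_mem_UU (Ψ := {s | Φ.Pos s ∧ Φ.ht r ≤ Φ.ht s ∧ s ≠ r})
      ⟨h1.1 _ (hρ r hr).1, (hρ r hr).2, hne⟩ (d r * σ 1))) k2)
    rw [inv_mul_cancel_left, inv_inv] at this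
    exact one_ne_zero (k3 1 this)
  rw [k4, ← S.x_sub] at k2
  exact ⟨k4, by simpa [sub_eq_zero] using k3 _ k2⟩

/-- **CENU1** -/
theorem cenU1 {T : Set ι} (h1 : Idl Φ T) (h2 : Gen Φ T) (hg : g ∈ NL S)
    (h : ∀ r ∈ T, g * S.x r 1 * g⁻¹ * (S.x r 1)⁻¹ ∈ S.UU {s | s ∈ T ∧ Φ.ht r < Φ.ht s}) :
    ∃ u ∈ S.U, ∃ σ, StdD S (u * g) 1 (fun _ => 1) σ := by
  obtain ⟨π, σ, hπ, l, hl, d, hδ⟩ := A.aut g hg
  have p := E.gp hπ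
  obtain ⟨u, hu, n, -, w, hw, hn, u', hu', e⟩ := A.nd.exists_bruhat (inv_mem hl)
  have hδU : l * g ∈ normalizer (S.U : Set G) := A.std_norm ⟨d, hδ⟩ fun r hr => (p.pos r).2 hr
  have hv : (l * g)⁻¹ * u' * (l * g) ∈ S.U := by
    simpa using (mem_normalizer_iff.1 (inv_mem hδU) u').1 (S.UU_le_U (fun _ h => h.1) hu')
  generalize hv' : (l * g)⁻¹ * u' * (l * g) = v at hv
  have eg : g = u * (n * (l * g)) * v := by
    rw [← hv']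
    calc g = l⁻¹ * (l * g) := by group
      _ = _ := by rw [e]; group
  obtain ⟨a, ha1, ha2⟩ := id hn
  have hε := StdD.mul (⟨ha1, ha2⟩ : StdD S n w a 1) hδ p.neg
  generalize (fun r => a (π r) * (1 : F ≃+* F) (d r)) = b at hε
  rw [one_mul] at hε
  have k1 : ∀ r ∈ T, v * S.x r 1 * v⁻¹ * (S.x r 1)⁻¹ ∈ S.UU {s | s ∈ T ∧ Φ.ht r < Φ.ht s} :=
    fun r hr => ca_conj E h1 hr hv (by simp)
  have k2 : ∀ r ∈ T, n * (l * g) * (v * S.x r 1 * v⁻¹) * (n * (l * g))⁻¹ * (S.x r 1)⁻¹ ∈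
      S.UU {s | s ∈ T ∧ Φ.ht r < Φ.ht s} := fun r hr => by
    have := ca_conj E h1 hr (inv_mem hu) (h r hr)
    generalize n * (l * g) = ε at eg
    rw [eg] at this
    simpa [mul_assoc] using this
  have k3 : ∀ r ∈ T, (w * π) r = r ∧ b r = 1 := fun r hr =>
    A.ca_fix h1 hε (fun s hs => A.ca_step h1 hw hn hδ p hs (k1 s hs) (k2 s hs)) hr (k1 r hr) (k2 r hr)
  have k4 : w * π = 1 := by
    ext r
    refine h2 {r | w (π r) = r} (fun r hr => (k3 r hr).1) (fun r hr => ?_)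
      (fun a h1 b h2 k hk => ?_) r
    · show w (π (Φ.neg r)) = Φ.neg r
      rw [p.neg, Φ.apply_neg hw, show w (π r) = r from hr]
    · have := (p.add _ _ _ hk).apply hw
      rw [show w (π a) = a from h1, show w (π b) = b from h2] at this
      exact this.unique' hk
  rw [k4] at hε
  have k5 : b = fun _ => 1 := funext (A.d_eq_one hε h2 fun r hr => (k3 r hr).2)
  rw [k5] at hε
  generalize n * (l * g) = ε at eg hε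
  refine ⟨(u * (ε * v * ε⁻¹))⁻¹, inv_mem (mul_mem hu (hε.conj_mem (fun _ h => h) hv)), σ, ?_⟩
  have e3 : (u * (ε * v * ε⁻¹))⁻¹ * g = ε := by rw [eg]; group
  rwa [e3]

/-- **CENU** -/
theorem cenU {T : Set ι} (h1 : Idl Φ T) (h2 : Gen Φ T) (hg : g ∈ NL S)
    (h : ∀ r ∈ T, ∀ c, g * S.x r c * g⁻¹ * (S.x r c)⁻¹ ∈ S.UU {s | s ∈ T ∧ Φ.ht r < Φ.ht s}) :
    ∃ u ∈ S.U, u * g ∈ CL S := by
  obtain ⟨u, hu, σ, hs⟩ := A.cenU1 h1 h2 hg fun r hr => h r hr 1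
  obtain ⟨r, hr⟩ : T.Nonempty := by
    by_contra hne
    rw [Set.not_nonempty_iff_eq_empty] at hne
    exact h2 ∅ hne.le (fun _ h => h.elim) (fun _ h => h.elim) E.θ
  have k : ∀ c, σ c = c := fun c => by
    have k1 := ca_conj E h1 hr hu (h r hr c)
    have e : u * (g * S.x r c * g⁻¹) * u⁻¹ = u * g * S.x r c * (u * g)⁻¹ := by group
    rw [e, hs.2, one_mul, Equiv.Perm.one_apply, ← S.x_sub] at k1
    exact sub_eq_zero.1 (A.nd.eq_zero_of_mem_UU (ca_closed _ le_rfl) (fun _ h => h.1) (h1.1 r hr)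
      (fun h => h.2.2 rfl) (S.UU_mono
        (fun s hs => by exact ⟨h1.1 s hs.1, hs.2.le, by rintro rfl; exact lt_irrefl _ hs.2⟩) k1))
  exact ⟨u, hu, aa_mem_CL fun r c => by rw [hs.2, one_mul, k]; rfl⟩

theorem ca_cf {u : G} {a : ι} (h : u * S.x a 1 = S.x a 1 * u) (k : ι) :
    cf S (u * S.x a 1 * u⁻¹ * (S.x a 1)⁻¹) k = 0 := by
  rw [h, mul_inv_cancel_right, mul_inv_cancel, A.cf_one]

theorem ca_cf' {z : G} (h : z ∈ S.X E.θ) {k : ι} (hk : k ≠ E.θ) : cf S z k = 0 := by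
  obtain ⟨t, rfl⟩ := S.mem_X_iff.1 h
  exact A.cf_x_ne E.pos_θ hk t

theorem ca_elimZ {u : G} (hu : u ∈ S.U) (h : ∀ r, Φ.Pos r → r ≠ E.θ → ∃ a k, Φ.Pos a ∧
    RAdd Φ r a k ∧ cf S (u * S.x a 1 * u⁻¹ * (S.x a 1)⁻¹) k = 0) : u ∈ S.X E.θ := by
  refine A.elim Φ.ht (fun _ h => Φ.ht_pos h) (fun _ _ _ h => radd_ht h) ?_ hu h
  rintro r rfl s - hs
  by_contra hne
  exact lt_asymm hs (E.ht_lt_θ hne)

theorem ca_elimW {u : G} (hu : u ∈ S.U) (h : ∀ r, Φ.Pos r → r ≠ E.θ → r ≠ E.β → ∃ a k, Φ.Pos a ∧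
    RAdd Φ r a k ∧ cf S (u * S.x a 1 * u⁻¹ * (S.x a 1)⁻¹) k = 0) : u ∈ S.UU {E.θ, E.β} := by
  obtain ⟨f, hf⟩ : ∃ f : ℕ → ℤ, ∀ i, (i + 1 = E.m ∧ f i = i + 1) ∨ (i + 1 ≠ E.m ∧ f i = i) :=
    ⟨fun i => if i + 1 = E.m then i + 1 else i, fun i => by by_cases e : i + 1 = E.m <;> simp [e]⟩
  refine A.elim (fun r => f (E.hi r) - f (E.lo r)) (fun r h => ?_) (E.wt_add f) ?_ hu
    fun r hr hT => h r hr (fun e => hT (Or.inl e)) fun e => hT (Or.inr e)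
  · have := E.bd r; have := hf (E.lo r); have := hf (E.hi r)
    rw [E.pos_iff] at h
    omega
  intro r hr s h0 hs
  have := E.co; have := E.bd s
  have := hf (E.lo r); have := hf (E.hi r); have := hf (E.lo s); have := hf (E.hi s)
  simp only [Set.mem_insert_iff, Set.mem_singleton_iff, E.eq_iff, E.pos_iff] at hr h0 ⊢
  omega

theorem ca_elimW2 {u : G} (hu : u ∈ S.U) (h : ∀ r, Φ.Pos r → r ≠ E.θ → r ≠ E.β → r ≠ E.β' → ∃ a k, Φ.Pos a ∧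
    RAdd Φ r a k ∧ cf S (u * S.x a 1 * u⁻¹ * (S.x a 1)⁻¹) k = 0) : u ∈ W2 E S := by
  rw [A.W2_eq]
  refine A.elim Φ.ht (fun _ h => Φ.ht_pos h) (fun _ _ _ h => radd_ht h) (fun r hr s h0 hs => by exact ⟨h0, hr.2.trans hs.le⟩)
    hu fun r hr hT => h r hr ?_ ?_ ?_
  · rintro rfl
    exact hT ⟨hr, A.ht_β_lt.le⟩
  · rintro rfl
    exact hT ⟨hr, le_rfl⟩
  · rintro rfl
    exact hT ⟨hr, by have := E.co; rw [E.ht_eq, E.ht_eq]; omega⟩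

theorem mem_Z_of_simple {u : G} (hu : u ∈ S.U)
    (h : ∀ i, u * S.x (Φ.simple i) 1 = S.x (Φ.simple i) 1 * u) : u ∈ S.X E.θ :=   A.ca_elimZ hu fun r hr hθ => by
    obtain ⟨i, k, hk⟩ := E.up_pos hr hθ
    exact ⟨_, k, Φ.pos_simple i, hk, A.ca_cf (h i) k⟩

theorem mem_Z_of_Q {u : G} (hu : u ∈ S.U)
    (h : ∀ r, 1 ≤ ip Φ r E.θ → u * S.x r 1 = S.x r 1 * u) : u ∈ S.X E.θ :=   A.ca_elimZ hu fun r hr hθ => by
    have h0 := E.nonneg_θ hr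
    rcases E.ip_cases r E.θ with h1 | h1 | h1 | h1 | h1
    · exact absurd h1.1.symm hθ
    · obtain ⟨b, hb⟩ := E.exists_sub h1
      have h2 := (E.radd_ip hb).2.2.ge
      exact ⟨b, _, E.pos_of_θ h2, hb, A.ca_cf (h b h2) _⟩
    · obtain ⟨a, h2, h3⟩ := E.elQ r h1
      obtain ⟨k, hk⟩ := E.exists_add h3
      exact ⟨a, k, E.pos_of_θ h2.ge, hk, A.ca_cf (h a h2.ge) _⟩
    · omega
    · omega

theorem mem_W_of_R {u : G} (hu : u ∈ S.U)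
    (h : ∀ r, Φ.Pos r → r ≠ E.α → u * S.x r 1 = S.x r 1 * u) : u ∈ S.UU {E.θ, E.β} :=   A.ca_elimW hu fun r hr h1 h2 => by
    obtain ⟨a, h3, h4, h5⟩ := E.up2 r hr h1 h2
    obtain ⟨k, hk⟩ := E.exists_add h5
    exact ⟨a, k, h3, hk, A.ca_cf (h a h3 h4) _⟩

/-- `Z₂(U)` -/
theorem mem_W_of_comm {u : G} (hu : u ∈ S.U)
    (h : ∀ i, u * S.x (Φ.simple i) 1 * u⁻¹ * (S.x (Φ.simple i) 1)⁻¹ ∈ S.X E.θ) :
    u ∈ W2 E S := A.ca_elimW2 hu fun r hr h1 h2 h2' => by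
    obtain ⟨i, k, hk⟩ := E.up_pos hr h1
    refine ⟨_, k, Φ.pos_simple i, hk, A.ca_cf' (h i) ?_⟩
    rintro rfl
    have := radd_ht hk
    have := E.ht_lt_β h1 h2 h2'
    have := E.ht_θ
    rw [Φ.ht_simple] at *
    omega

/-- the centraliser of the group of transvections with a common centre -/
theorem mem_AA_of_cent {u : G} (hu : u ∈ S.U) (h : ∀ r, E.lo r = 0 → u * S.x r 1 = S.x r 1 * u) :
    u ∈ AA E S := by
  obtain ⟨f, hf⟩ : ∃ f : ℕ → ℤ, ∀ i, (i = 0 ∧ f i = 0) ∨ (i ≠ 0 ∧ f i = 1) :=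
    ⟨fun i => if i = 0 then 0 else 1, fun i => by by_cases e : i = 0 <;> simp [e]⟩
  refine S.UU_mono (fun r hr => ?_) (A.elim_gr (fun r => f (E.hi r) - f (E.lo r))
    (fun r h => ?_) (E.wt_add f) 1 hu fun r hr h1 => ?_)
  · have := hr.2; have := hf (E.lo r); have := hf (E.hi r)
    show E.lo r = 0
    omega
  · have := hf (E.lo r); have := hf (E.hi r)
    rw [E.pos_iff] at h
    omega
  · have := E.bd r; have := hf (E.lo r); have := hf (E.hi r)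
    rw [E.pos_iff] at hr
    have h0 : E.lo r ≠ 0 := by omega
    obtain ⟨a, ha⟩ := E.exists_e (i := 0) (j := E.lo r) (by omega) (by omega) (by omega)
    obtain ⟨k, hk⟩ := E.exists_e (i := 0) (j := E.hi r) (by omega) (by omega) (by omega)
    exact ⟨a, k, by rw [E.pos_iff]; omega, by rw [E.radd_iff]; omega, A.ca_cf (h a ha.1) _⟩

theorem mem_Q_of_comm {u : G} (hu : u ∈ S.U)
    (h : ∀ r, 1 ≤ ip Φ r E.θ → u * S.x r 1 * u⁻¹ * (S.x r 1)⁻¹ ∈ S.X E.θ) : u ∈ Q S E.θ := by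
  refine S.UU_mono (fun _ h => h.2) (A.elim_gr (fun r => ip Φ r E.θ) (fun _ h => E.nonneg_θ h)
    (fun _ _ _ h => h.ip_left _) 1 hu fun r hr h1 => ?_)
  have h0 := E.nonneg_θ hr
  obtain ⟨a, h2, h3⟩ := E.elQ r (by omega)
  obtain ⟨k, hk⟩ := E.exists_add h3
  refine ⟨a, k, E.pos_of_θ h2.ge, hk, A.ca_cf' (h a h2.ge) ?_⟩
  rintro rfl
  have h4 := (E.radd_ip hk).2.1
  omega

theorem mem_W_iff {w : G} : w ∈ S.UU {E.θ, E.β} ↔ ∃ c e, w = S.x E.θ c * S.x E.β e := by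
  constructor
  · intro hw
    refine S.UU_induction (p := fun w => ∃ c e, w = S.x E.θ c * S.x E.β e)
      ⟨0, 0, by simp [S.x_zero]⟩ ?_ hw
    rintro r (rfl | rfl) t g - ⟨c, e, rfl⟩
    · exact ⟨c + t, e, by rw [mul_assoc, A.com (E.ip_βθ ▸ zero_le_one), S.x_add, mul_assoc]⟩
    · exact ⟨c, e + t, by rw [S.x_add, mul_assoc]⟩
  · rintro ⟨c, e, rfl⟩
    exact mul_mem (S.x_mem_UU (Or.inl rfl) c) (S.x_mem_UU (Or.inr rfl) e)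

theorem mem_W2 (h4 : 4 ≤ E.m) {w : G} (hw : w ∈ W2 E S) :
    ∃ c e e', w = S.x E.θ c * S.x E.β e * S.x E.β' e' := by
  have k1 := A.com (E.ip_βθ ▸ zero_le_one : 0 ≤ ip Φ E.β E.θ)
  have k2 := A.com (E.ip_β'θ ▸ zero_le_one : 0 ≤ ip Φ E.β' E.θ)
  have k3 := A.com (E.ort h4).ge
  refine S.UU_induction (p := fun w => ∃ c e e', w = S.x E.θ c * S.x E.β e * S.x E.β' e')
    ⟨0, 0, 0, by simp [S.x_zero]⟩ ?_ hw
  rintro r (rfl | rfl | rfl) t g - ⟨c, e, e', rfl⟩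
  · exact ⟨c + t, e, e', by rw [mul_assoc, k2, ← mul_assoc, mul_assoc _ (S.x _ e), k1, S.x_add, ← mul_assoc]⟩
  · exact ⟨c, e + t, e', by rw [mul_assoc, k3, S.x_add, ← mul_assoc, ← mul_assoc]⟩
  · exact ⟨c, e, e' + t, by rw [S.x_add, ← mul_assoc]⟩

end Amb

end CfsgLib.SLA
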