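import Mathlib
import Cfsg.Agent.Lib.SLA.CenA

/-!
# Centralisers of ideals of `U`
-/

set_option autoImplicit false

namespace CfsgLib.SLA

open CfsgLib.RGD CfsgLib.Stein Subgroup
open scoped commutatorElement Pointwise

universe u

variable {ι κ : Type} [Fintype κ] [DecidableEq κ] [Finite ι] {Φ : RootSys ι κ} {E : ER Φ}
  {F : Type} [Field F] [Finite F] [CharP F 2] {G : Type u} [Group G] [Finite G]
  {S : StSys Φ F G}

theorem cn_comm {u g x : G} (h1 : u * g * x = x * (u * g)) (h2 : g * x = x * g) : u * x = x * u := by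
  rw [mul_assoc, h2, ← mul_assoc, ← mul_assoc] at h1
  exact mul_right_cancel h1

theorem cn_triv {g x : G} (h : g * x = x * g) (K : Subgroup G) : g * x * g⁻¹ * x⁻¹ ∈ K := by
  rw [h, mul_inv_cancel_right, mul_inv_cancel]
  exact one_mem _

theorem cn_std1 {g : G} {σ : F ≃+* F} (h : StdD S g 1 (fun _ => 1) σ) (r : ι) :
    g * S.x r 1 = S.x r 1 * g := by
  rw [← mul_inv_eq_iff_eq_mul, h.2, map_one, one_mul]
  rfl

/-- transport of a centraliser along an exact element -/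
theorem cn_move {n g : G} {w : Equiv.Perm ι} (hn : Exa S n w) {T T' : Set ι}
    (hT : ∀ r ∈ T, w r ∈ T') (h : g ∈ centralizer (S.UU T' : Set G)) :
    n⁻¹ * g * n ∈ centralizer (S.UU T : Set G) := by
  refine mem_centralizer_iff.2 fun v hv => ?_
  have := mem_centralizer_iff.1 h _ (hn.conj_mem hT hv)
  calc v * (n⁻¹ * g * n) = n⁻¹ * (n * v * n⁻¹ * g) * n := by group
    _ = _ := by rw [this]; group

namespace Amb

variable (A : Amb E S) {g : G}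
include A

theorem mem_pair {a b : ι} (hab : 0 ≤ ip Φ b a) {w : G} (hw : w ∈ S.UU {a, b}) :
    ∃ c e, w = S.x a c * S.x b e := by
  refine S.UU_induction (p := fun w => ∃ c e, w = S.x a c * S.x b e)
    ⟨0, 0, by simp [S.x_zero]⟩ ?_ hw
  rintro r (rfl | rfl) t g - ⟨c, e, rfl⟩
  · exact ⟨c + t, e, by rw [mul_assoc, A.com hab, S.x_add, mul_assoc]⟩
  · exact ⟨c, e + t, by rw [S.x_add, mul_assoc]⟩

theorem cn_Q (hg : g ∈ NL S) (h : g ∈ centralizer (Q S E.θ : Set G)) :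
    ∃ c, ∃ k ∈ CL S, g = S.x E.θ c * k := by
  have h' := mem_cent_UU.1 h
  obtain ⟨u, hu, hk⟩ := A.cenU E.idl_Q E.gen_Q hg fun r hr c => cn_triv (h' r hr c).symm _
  obtain ⟨c, hc⟩ := S.mem_X_iff.1 (inv_mem (A.mem_Z_of_Q hu fun r hr =>
    cn_comm (aa_CL_comm hk (S.x_mem_grp r 1)).symm (h' r hr 1).symm))
  exact ⟨c, _, hk, by rw [← hc, inv_mul_cancel_left]⟩

theorem cn_one (hg : g ∈ NL S) (h : g ∈ centralizer (Y2 S E.θ E.β : Set G)) :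
    ∃ c e, ∃ k ∈ CL S, g = S.x E.θ c * S.x E.β e * k := by
  have h' : ∀ r, Φ.Pos r → r ≠ E.α → ∀ c, g * S.x r c = S.x r c * g := fun r h1 h2 c =>
    (mem_cent_UU.1 h r ⟨E.nonneg_θ h1, E.nonneg_β h1 h2⟩ c).symm
  obtain ⟨u, hu, hk⟩ := A.cenU (E.idl_diff E.i₀) (E.gen_diff E.i₀) hg
    fun r hr c => cn_triv (h' r hr.1 hr.2 c) _
  obtain ⟨c, e, hc⟩ := A.mem_W_iff.1 (inv_mem (A.mem_W_of_R hu fun r h1 h2 =>
    cn_comm (aa_CL_comm hk (S.x_mem_grp r 1)).symm (h' r h1 h2 1)))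
  exact ⟨c, e, _, hk, by rw [← hc, inv_mul_cancel_left]⟩

theorem cn_zero (h4 : 4 ≤ E.m) (hg : g ∈ NL S) (h : g ∈ centralizer (Y2 S E.β' E.β : Set G)) :
    ∃ u ∈ S.UU {s | 2 ≤ ip Φ s E.β' + ip Φ s E.β}, ∃ k ∈ CL S, g = u * k := by
  have h' := mem_cent_UU.1 h
  have t1 : ∀ r, 1 ≤ ip Φ r E.β' + ip Φ r E.β → 0 ≤ ip Φ r E.β' ∧ 0 ≤ ip Φ r E.β := fun r hr => by
    have := E.co; have := E.bd r
    rw [E.orth_iff h4] at hr
    rw [E.nonneg_iff, E.nonneg_iff]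
    omega
  obtain ⟨u, hu, hk⟩ := A.cenU (E.idl_orth h4) (E.ogen h4) hg fun r hr c => cn_triv (h' r (t1 r hr) c).symm _
  have hc : ∀ r, 0 ≤ ip Φ r E.β' ∧ 0 ≤ ip Φ r E.β → u * S.x r 1 = S.x r 1 * u := fun r hr =>
    cn_comm (aa_CL_comm hk (S.x_mem_grp r 1)).symm (h' r hr 1).symm
  have h2 := A.elim_gr (fun r => ip Φ r E.β' + ip Φ r E.β) (fun r hr => by
    by_contra hne
    refine Φ.not_neg_of_pos hr (Φ.pos_neg_iff.1 ((E.idl_orth h4).1 _ ?_))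
    show (1 : ℤ) ≤ _
    rw [ip_neg_left, ip_neg_left]
    omega) (fun a b k hk => by rw [hk.ip_left, hk.ip_left]; ring) 2 hu fun r hr h1 => by
      obtain ⟨e, h3, h5⟩ := E.oel h4 r hr h1
      obtain ⟨k, hk⟩ := E.exists_add h5
      exact ⟨e, k, (E.idl_orth h4).1 e h3, hk, A.ca_cf (hc e (t1 e h3)) k⟩
  exact ⟨_, inv_mem (S.UU_mono (fun _ h => h.2) h2), _, hk, by rw [inv_mul_cancel_left]⟩

theorem cn_Y2 {a' b' : ι} {w : Equiv.Perm ι} (hw : w ∈ Φ.W) (hg : g ∈ NL S)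
    (h : g ∈ centralizer (Y2 S (w a') (w b') : Set G)) : ∃ n ∈ NL S, Exa S n w ∧
      n⁻¹ * g * n ∈ NL S ∧ n⁻¹ * g * n ∈ centralizer (Y2 S a' b' : Set G) := by
  obtain ⟨n, hn, hx⟩ := A.exists_exa hw
  have hN := aa_grp_le (S.N_le_grp (A.N1_le hn))
  exact ⟨n, hN, hx, mul_mem (mul_mem (inv_mem hN) hg) hN, cn_move hx (fun r hr => by
    show 0 ≤ ip Φ (w r) (w a') ∧ 0 ≤ ip Φ (w r) (w b')
    rw [ip_apply hw, ip_apply hw]
    exact hr) h⟩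

theorem center_U : S.U ⊓ centralizer (S.U : Set G) = S.X E.θ := by
  refine le_antisymm (fun u hu => A.mem_Z_of_simple hu.1 fun i =>
    (mem_centralizer_iff.1 hu.2 _ (S.x_mem_U (Φ.pos_simple i) 1)).symm) (le_inf ?_ ?_)
  · exact S.UU_le_U (by rintro r rfl; exact E.pos_θ)
  · exact le_centralizer_iff.1 (A.U_le_Y.trans (A.Y_le_cent _))

theorem cen_U (hg : g ∈ NL S) (h : g ∈ centralizer (S.U : Set G)) :
    ∃ c, ∃ k ∈ CL S, g = S.x E.θ c * k :=   A.cn_Q hg (centralizer_le A.Q_le_U h)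

theorem cen_Q (r : ι) (hg : g ∈ NL S) (h : g ∈ centralizer (Q S r : Set G)) :
    ∃ c, ∃ k ∈ CL S, g = S.x r c * k := by
  obtain ⟨w, hw, rfl⟩ := E.exists_θ r
  obtain ⟨n, hn, hx⟩ := A.exists_exa hw
  have hN := aa_grp_le (S.N_le_grp (A.N1_le hn))
  obtain ⟨c, k, hk, e1⟩ := A.cn_Q (mul_mem (mul_mem (inv_mem hN) hg) hN) (cn_move hx (fun r hr => by
    show 1 ≤ ip Φ (w r) (w E.θ)
    rw [ip_apply hw]
    exact hr) h)
  refine ⟨c, _, aa_conj_CL hN hk, ?_⟩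
  rw [← hx]
  calc g = n * (n⁻¹ * g * n) * n⁻¹ := by group
    _ = _ := by rw [e1]; group

theorem cen_Y (r : ι) (hg : g ∈ NL S) (h : g ∈ centralizer (Y S r : Set G)) :
    ∃ c, ∃ k ∈ CL S, g = S.x r c * k :=   A.cen_Q r hg (centralizer_le (S.UU_mono fun _ h => by exact (zero_le_one' ℤ).trans h) h)

/-- centralisers for collinear pairs -/
theorem cen_Y2 {a b : ι} (hab : ip Φ a b = 1) (hg : g ∈ NL S) (h : g ∈ centralizer (Y2 S a b : Set G)) :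
    ∃ c e, ∃ k ∈ CL S, g = S.x a c * S.x b e * k := by
  have key : ∀ (E : ER Φ), Amb E S → ∀ w ∈ Φ.W, w E.θ = a → w E.β = b →
      ∃ c e, ∃ k ∈ CL S, g = S.x a c * S.x b e * k := by
    rintro E A w hw rfl rfl
    obtain ⟨n, hN, hx, h1, h2⟩ := A.cn_Y2 hw hg h
    obtain ⟨c, e, k, hk, e1⟩ := A.cn_one h1 h2
    refine ⟨c, e, _, aa_conj_CL hN hk, ?_⟩
    rw [← hx, ← hx]
    calc g = n * (n⁻¹ * g * n) * n⁻¹ := by group
      _ = _ := by rw [e1]; group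
  obtain ⟨w, hw, e1, e2 | e2⟩ := E.ptrans1 hab
  exacts [key E A w hw e1 e2, key E.flip A.flip w hw e1 e2]

/-- centralisers for orthogonal pairs -/
theorem cen_Y2o {a b : ι} (hab : ip Φ a b = 0) (hg : g ∈ NL S) (h : g ∈ centralizer (Y2 S a b : Set G)) :
    ∃ u ∈ S.UU {s | 2 ≤ ip Φ s a + ip Φ s b}, ∃ k ∈ CL S, g = u * k := by
  have h4 := E.four hab
  obtain ⟨w, hw, rfl, rfl⟩ := E.ptrans0 (E.ort h4) hab
  obtain ⟨n, hN, hx, h1, h2⟩ := A.cn_Y2 hw hg h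
  obtain ⟨u, hu, k, hk, e1⟩ := A.cn_zero h4 h1 h2
  refine ⟨_, hx.conj_mem (fun r hr => ?_) hu, _, aa_conj_CL hN hk, ?_⟩
  · show 2 ≤ ip Φ (w r) _ + ip Φ (w r) _
    rw [ip_apply hw, ip_apply hw]
    exact hr
  · rw [conj_mul, ← e1]; group

/-- the centraliser of the group of transvections with a common centre -/
theorem cen_AA (hg : g ∈ NL S) (h : g ∈ centralizer (AA E S : Set G)) :
    ∃ u ∈ AA E S, ∃ k ∈ CL S, g = u * k := by
  have h' := mem_cent_UU.1 h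
  obtain ⟨u, hu, hk⟩ := A.cenU E.idl_AA E.gen_AA hg fun r hr c => cn_triv (h' r hr c).symm _
  exact ⟨_, inv_mem (A.mem_AA_of_cent hu fun r hr =>
    cn_comm (aa_CL_comm hk (S.x_mem_grp r 1)).symm (h' r hr 1).symm), _, hk, by rw [inv_mul_cancel_left]⟩

/-- **CV** -/
theorem cen_V (hg : g ∈ NL S) (h : ∀ v ∈ Q S E.θ, g * v * g⁻¹ * v⁻¹ ∈ S.X E.θ) :
    ∃ v ∈ Q S E.θ, ∃ k ∈ CL S, g = v * k := by
  have hQ : ∀ r, 1 ≤ ip Φ r E.θ → ∀ c, S.x r c ∈ Q S E.θ := fun r hr c => S.x_mem_UU hr c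
  have hz : ∀ z ∈ S.X E.θ, ∀ v ∈ Q S E.θ, Commute z v := fun z hz v hv =>
    mem_centralizer_iff.1 (A.Y_le_cent _ (A.U_le_Y (A.Q_le_U hv))) z hz
  have k1 : ∀ c, g * S.x E.θ c = S.x E.θ c * g := fun c => by
    have ha := hQ _ E.ip_αθ.ge c
    have hb := hQ _ E.ip_βθ.ge 1
    have e := A.rel.cm _ _ _ E.hβ c 1
    rw [mul_one] at e
    have e1 := h _ ha
    have e2 := h _ hb
    generalize S.x E.α c = a at *
    generalize S.x E.β 1 = b at *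
    generalize hy : g * a * g⁻¹ * a⁻¹ = y at e1
    generalize hz' : g * b * g⁻¹ * b⁻¹ = z at e2
    have c1 := hz y e1
    have c2 := hz z e2
    have hzQ : z ∈ Q S E.θ := S.UU_mono (by rintro r rfl; show (1 : ℤ) ≤ _; rw [E.ip_self]; omega) e2
    rw [← mul_inv_eq_iff_eq_mul, ← e]
    calc g * (a * b * a⁻¹ * b⁻¹) * g⁻¹ = (y * a) * (z * b) * (y * a)⁻¹ * (z * b)⁻¹ := by
          rw [← hy, ← hz']; group
      _ = y * (a * (z * b) * a⁻¹) * y⁻¹ * (z * b)⁻¹ := by group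
      _ = a * (z * b) * a⁻¹ * (z * b)⁻¹ := by
          rw [(c1 _ (mul_mem (mul_mem ha (mul_mem hzQ hb)) (inv_mem ha))).eq, mul_inv_cancel_right]
      _ = z * (a * b * a⁻¹ * b⁻¹) * z⁻¹ := by rw [← mul_assoc a, ← (c2 a ha).eq]; group
      _ = _ := by
          rw [(c2 _ (mul_mem (mul_mem (mul_mem ha hb) (inv_mem ha)) (inv_mem hb))).eq,
            mul_inv_cancel_right]
  obtain ⟨u, hu, hk⟩ := A.cenU E.idl_Q E.gen_Q hg fun r hr c => by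
    by_cases hθ : r = E.θ
    · rw [hθ]
      exact cn_triv (k1 c) _
    · refine S.UU_mono ?_ (h _ (hQ r hr c))
      rintro s rfl
      exact ⟨by show (1 : ℤ) ≤ _; rw [E.ip_self]; omega, E.ht_lt_θ hθ⟩
  refine ⟨u⁻¹, inv_mem (A.mem_Q_of_comm hu fun r hr => ?_), _, hk, by rw [inv_mul_cancel_left]⟩
  obtain ⟨t, ht⟩ := S.mem_X_iff.1 (h _ (hQ r hr 1))
  have e1 := aa_CL_comm hk (aa_conj_grp' hg (S.x_mem_grp r 1))
  have e2 : u * S.x r 1 * u⁻¹ = g⁻¹ * S.x r 1 * g := by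
    calc u * S.x r 1 * u⁻¹ = u * g * (g⁻¹ * S.x r 1 * g) * (u * g)⁻¹ := by group
      _ = _ := by rw [← e1, mul_inv_cancel_right]
  have e3 : g⁻¹ * S.x r 1 * g * (S.x r 1)⁻¹ = (g⁻¹ * (g * S.x r 1 * g⁻¹ * (S.x r 1)⁻¹) * g)⁻¹ := by
    group
  rw [e2, e3, ht, mul_assoc, ← k1, inv_mul_cancel_left]
  exact inv_mem (S.x_mem_X _ _)

theorem cen_Q1 (hg : g ∈ NL S) (h : ∀ r, 1 ≤ ip Φ r E.θ → g * S.x r 1 = S.x r 1 * g) :
    ∃ u ∈ S.X E.θ, ∃ σ, StdD S (u * g) 1 (fun _ => 1) σ := by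
  obtain ⟨u, hu, σ, hs⟩ := A.cenU1 E.idl_Q E.gen_Q hg fun r hr => cn_triv (h r hr) _
  exact ⟨u, A.mem_Z_of_Q hu fun r hr => cn_comm (cn_std1 hs r) (h r hr), σ, hs⟩

theorem cen_R1 (hg : g ∈ NL S) (h : ∀ r, Φ.Pos r → r ≠ E.α → g * S.x r 1 = S.x r 1 * g) :
    ∃ u ∈ S.UU {E.θ, E.β}, ∃ σ, StdD S (u * g) 1 (fun _ => 1) σ := by
  obtain ⟨u, hu, σ, hs⟩ := A.cenU1 (E.idl_diff E.i₀) (E.gen_diff E.i₀) hg
    fun r hr => cn_triv (h r hr.1 hr.2) _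
  exact ⟨u, A.mem_W_of_R hu fun r h1 h2 => cn_comm (cn_std1 hs r) (h r h1 h2), σ, hs⟩

end Amb

end CfsgLib.SLA
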