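import Mathlib
import Cfsg.Agent.Lib.SLA.Defs

/-!
# General group theory for the normality argument
-/

set_option autoImplicit false

namespace CfsgLib.SLA

open Subgroup CfsgLib.UFP
open scoped commutatorElement Pointwise

universe u

variable {G : Type u} [Group G]

theorem exists_syl [Finite G] {K P0 : Subgroup G} (hP : IsPGroup 2 P0) (h : P0 ≤ K) :
    ∃ S : Subgroup G, P0 ≤ S ∧ S ≤ K ∧ IsPGroup 2 S ∧
      ∀ P ≤ K, IsPGroup 2 P → ∃ g ∈ K, ∀ p ∈ P, g * p * g⁻¹ ∈ S := by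
  haveI : Fact (Nat.Prime 2) := ⟨Nat.prime_two⟩
  obtain ⟨P, hP'⟩ := (hP.comap_subtype (K := K)).exists_le_sylow
  refine ⟨(P : Subgroup K).map K.subtype, fun x hx => ⟨⟨x, h hx⟩, hP' hx, rfl⟩, map_subtype_le _,
    P.isPGroup'.map _, fun B hBK hB => ?_⟩
  obtain ⟨Q, hQ⟩ := (hB.comap_subtype (K := K)).exists_le_sylow
  obtain ⟨k, hk⟩ := MulAction.exists_smul_eq K Q P
  refine ⟨k, k.2, fun b hb => ⟨k * ⟨b, hBK hb⟩ * k⁻¹, ?_, rfl⟩⟩
  rw [← hk]
  exact Coprime.conj_mem_conj_smul (hQ hb)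

theorem pg_zpowers {P : Subgroup G} (hP : IsPGroup 2 P) {g : G} (hg : g ∈ P) :
    IsPGroup 2 (zpowers g) := hP.to_le (zpowers_le.2 hg)

/-- a 2-element is a power of each of its odd powers -/
theorem mem_of_odd_pow {K : Subgroup G} {g : G} (hp : IsPGroup 2 (zpowers g)) {m : ℕ} (hm : Odd m)
    (h : g ^ m ∈ K) : g ∈ K := by
  obtain ⟨k, hk⟩ := hp ⟨g, mem_zpowers g⟩
  have hk' : g ^ 2 ^ k = 1 := congrArg Subtype.val hk
  have hc : m.Coprime (orderOf g) :=
    Nat.Coprime.coprime_dvd_right (orderOf_dvd_of_pow_eq_one hk')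
      (Nat.Coprime.pow_right k (Nat.coprime_two_right.2 hm))
  obtain ⟨j, hj⟩ := exists_pow_eq_self_of_coprime hc
  rw [← hj]; exact K.pow_mem h j

theorem exists_two_hom [Finite G] {G1 N0 : Subgroup G} (hle : N0 ≤ G1)
    (hc : ∀ a ∈ G1, ∀ b ∈ G1, a * b * a⁻¹ * b⁻¹ ∈ N0) :
    ∃ (A : Type u) (_ : CommGroup A) (_ : Finite A) (l : G1 →* A), IsPGroup 2 A ∧
      ∀ g : G1, l g = 1 ↔ ∃ m, Odd m ∧ (g : G) ^ m ∈ N0 := by
  haveI : Fact (Nat.Prime 2) := ⟨Nat.prime_two⟩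
  haveI hN : (N0.subgroupOf G1).Normal := ⟨fun n hn g => mem_subgroupOf.2 (by
    have := N0.mul_mem (hc g g.2 n n.2) (mem_subgroupOf.1 hn)
    rw [inv_mul_cancel_right] at this
    exact this)⟩
  letI : CommGroup (G1 ⧸ N0.subgroupOf G1) :=
    { (inferInstance : Group (G1 ⧸ N0.subgroupOf G1)) with
      mul_comm := fun a b => by
        obtain ⟨a, rfl⟩ := QuotientGroup.mk_surjective a
        obtain ⟨b, rfl⟩ := QuotientGroup.mk_surjective b
        rw [← QuotientGroup.mk_mul, ← QuotientGroup.mk_mul, QuotientGroup.eq, mem_subgroupOf]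
        have := hc _ (G1.inv_mem b.2) _ (G1.inv_mem a.2)
        simpa [mul_assoc] using this }
  obtain ⟨k, m, hm, e⟩ := Nat.exists_eq_two_pow_mul_odd (n := Nat.card (G1 ⧸ N0.subgroupOf G1))
    Nat.card_pos.ne'
  let l0 : G1 →* G1 ⧸ N0.subgroupOf G1 := (powMonoidHom m).comp (QuotientGroup.mk' _)
  have hA : IsPGroup 2 l0.range := by
    rintro ⟨_, g, rfl⟩
    refine ⟨k, Subtype.ext ?_⟩
    show (((g : G1) : G1 ⧸ N0.subgroupOf G1) ^ m) ^ 2 ^ k = 1
    rw [← pow_mul, mul_comm, ← e, pow_card_eq_one']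
  refine ⟨l0.range, inferInstance, inferInstance, l0.rangeRestrict, hA, fun g => ⟨fun h => ⟨m, hm, ?_⟩,
    fun ⟨j, hj, h⟩ => ?_⟩⟩
  · have h1 : ((g : G1) : G1 ⧸ N0.subgroupOf G1) ^ m = 1 := congrArg Subtype.val h
    rw [← QuotientGroup.mk_pow, QuotientGroup.eq_one_iff, mem_subgroupOf] at h1
    exact h1
  · have h1 : ((g ^ j : G1) : G1 ⧸ N0.subgroupOf G1) = 1 :=
      (QuotientGroup.eq_one_iff _).2 (mem_subgroupOf.2 h)
    have h2 : l0.rangeRestrict g ^ j = 1 := by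
      rw [← map_pow]
      refine Subtype.ext ?_
      show ((g ^ j : G1) : G1 ⧸ N0.subgroupOf G1) ^ m = 1
      rw [h1, one_pow]
    exact mem_bot.1 (mem_of_odd_pow (K := ⊥) (pg_zpowers (P := ⊤) (hA.to_subgroup ⊤) (mem_top _)) hj
      (mem_bot.2 h2))

/-- a subgroup normalised by an involution which centralises no involution in it -/
theorem odd_of_inv [Finite G] {W : Subgroup G} {t : G} (t2 : t * t = 1)
    (ht : t ∈ normalizer (W : Set G)) (h : ∀ c ∈ W, c * c = 1 → c * t = t * c → c = 1) :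
    Odd (Nat.card W) := by
  haveI : Fact (Nat.Prime 2) := ⟨Nat.prime_two⟩
  by_contra hodd
  obtain ⟨s, hs⟩ := exists_prime_orderOf_dvd_card' (G := W) 2
    (even_iff_two_dvd.1 (Nat.not_odd_iff_even.1 hodd))
  have s2 : (s : G) * s = 1 := by
    rw [← pow_two, ← hs]; exact congrArg Subtype.val (pow_orderOf_eq_one s)
  have s1 : (s : G) ≠ 1 := fun e => by
    rw [show s = 1 from Subtype.ext e, orderOf_one] at hs; omega
  obtain ⟨k, hk, P, hPK, hP, hD, hsP⟩ := exists_conj_pgroup (K := normalizer (W : Set G))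
    (pgroup_zpowers_of_sq t2) (zpowers_le.2 ht) (le_normalizer s.2) s2
  obtain ⟨x, hx, x1, x2, x3⟩ := exists_layer (M := P ⊓ W) (N := ⊥) hP inf_le_left
    (fun g hg => norm_inf (le_normalizer hg) (hPK hg)) (fun g _ => le_normalizer_of_normal (mem_top g))
    (fun hle => s1 (by
      have := mem_bot.1 (hle ⟨hsP, conj_mem hk s.2⟩)
      simpa [mul_eq_one_iff_eq_inv] using this))
  have := mem_bot.1 (x3 t (hD (mem_zpowers t)))
  exact x1 (mem_bot.2 (h x hx.2 (mem_bot.1 x2) (by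
    rw [mul_inv_eq_one, mul_inv_eq_iff_eq_mul] at this; exact this.symm)))

theorem eq_one_of_odd' {P W : Subgroup G} (hP : IsPGroup 2 P) (hW : Odd (Nat.card W)) {g : G}
    (h1 : g ∈ P) (h2 : g ∈ W) : g = 1 :=
  eq_one_of_odd hP h1 (odd_orderOf hW h2) (pow_orderOf_eq_one g)

theorem card_sup_inv [Finite G] {P : Subgroup G} {s : G} (s2 : s * s = 1) (hs : s ∉ P)
    (hn : s ∈ normalizer (P : Set G)) : 2 * Nat.card P ≤ Nat.card (P ⊔ zpowers s : Subgroup G) := by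
  have h1 : Nat.card P ∣ Nat.card (P ⊔ zpowers s : Subgroup G) := card_dvd_of_le le_sup_left
  obtain ⟨c, hc⟩ := h1
  have h0 : 0 < Nat.card (P ⊔ zpowers s : Subgroup G) := Nat.card_pos
  have h2 : c ≠ 1 := fun e => hs (by
    rw [e, mul_one] at hc
    rw [Core.eq_of_le_of_card_le (le_sup_left : P ≤ P ⊔ zpowers s) hc.le]
    exact mem_sup_right (mem_zpowers s))
  have h3 : c ≠ 0 := fun e => by rw [e] at hc; omega
  rw [hc, mul_comm]
  exact Nat.mul_le_mul_left _ (by omega)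

/-- the order of a product of two commuting subgroups with trivial intersection -/
theorem card_sup_comm [Finite G] {A B : Subgroup G} (hc : ∀ a ∈ A, ∀ b ∈ B, a * b = b * a)
    (hd : ∀ a ∈ A, a ∈ B → a = 1) : Nat.card A * Nat.card B ≤ Nat.card (A ⊔ B : Subgroup G) := by
  rw [← Nat.card_prod]
  refine Nat.card_le_card_of_injective
    (fun p : A × B => (⟨p.1 * p.2, mul_mem_sup p.1.2 p.2.2⟩ : (A ⊔ B : Subgroup G))) ?_
  rintro ⟨a, b⟩ ⟨a', b'⟩ e
  have e1 : (a : G) * b = a' * b' := congrArg Subtype.val e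
  have e2 : (a' : G)⁻¹ * a = b' * (b : G)⁻¹ := by
    rw [inv_mul_eq_iff_eq_mul, ← mul_assoc, ← e1, mul_inv_cancel_right]
  have e3 := hd _ (A.mul_mem (A.inv_mem a'.2) a.2) (e2 ▸ B.mul_mem b'.2 (B.inv_mem b.2))
  have e4 : a = a' := Subtype.ext (inv_mul_eq_one.1 e3).symm
  subst e4
  exact Prod.ext rfl (Subtype.ext (mul_left_cancel e1))

theorem pg_sup_comm [Finite G] {A B : Subgroup G} (hA : IsPGroup 2 A) (hB : IsPGroup 2 B)
    (hc : ∀ a ∈ A, ∀ b ∈ B, a * b = b * a) : IsPGroup 2 (A ⊔ B : Subgroup G) :=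
  IsPGroup.to_sup_of_normal_left' hA hB fun b hb =>
    centralizer_le_normalizer _ (mem_cent.2 fun a ha => hc a ha b hb)

theorem mem_sup_comm {A B : Subgroup G} (hc : ∀ a ∈ A, ∀ b ∈ B, a * b = b * a) {x : G}
    (hx : x ∈ A ⊔ B) : ∃ a ∈ A, ∃ b ∈ B, x = a * b := by
  have : B ≤ normalizer (A : Set G) := fun b hb =>
    centralizer_le_normalizer _ (mem_cent.2 fun a ha => hc a ha b hb)
  have h2 : (x : G) ∈ ((A ⊔ B : Subgroup G) : Set G) := hx
  rw [coe_mul_of_right_le_normalizer_left A B this] at h2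
  obtain ⟨a, ha, b, hb, e⟩ := h2
  exact ⟨a, ha, b, hb, e.symm⟩

/-- elements acting trivially on `A` modulo `N` -/
theorem comm_closure [Finite G] {U N : Subgroup G} {X : Set G} (hX : closure X ≤ U)
    (hN : U ≤ normalizer (N : Set G)) {w : G} (h : ∀ x ∈ X, w * x * w⁻¹ * x⁻¹ ∈ N) :
    ∀ x ∈ closure X, w * x * w⁻¹ * x⁻¹ ∈ N := by
  intro x hx
  induction hx using closure_induction with
  | mem x hx => exact h x hx
  | one => simp
  | mul x y hx _ h1 h2 =>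
    have := N.mul_mem h1 (conj_mem (hN (hX hx)) h2)
    rwa [show w * x * w⁻¹ * x⁻¹ * (x * (w * y * w⁻¹ * y⁻¹) * x⁻¹) =
      w * (x * y) * w⁻¹ * (x * y)⁻¹ by group] at this
  | inv x hx h1 =>
    have := N.inv_mem (conj_mem' (hN (hX hx)) h1)
    rwa [show (x⁻¹ * (w * x * w⁻¹ * x⁻¹) * x)⁻¹ = w * x⁻¹ * w⁻¹ * x⁻¹⁻¹ by group] at this

theorem norm_closure [Finite G] {X : Set G} {g : G} (h : ∀ x ∈ X, g * x * g⁻¹ ∈ closure X) :
    g ∈ normalizer ((closure X : Subgroup G) : Set G) :=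
  mem_normalizer_fintype fun x hx => by
    induction hx using closure_induction with
    | mem x hx => exact h x hx
    | one => simp
    | mul x y _ _ h1 h2 =>
      rw [show g * (x * y) * g⁻¹ = g * x * g⁻¹ * (g * y * g⁻¹) by group]; exact mul_mem h1 h2
    | inv x _ h1 => rw [show g * x⁻¹ * g⁻¹ = (g * x * g⁻¹)⁻¹ by group]; exact inv_mem h1

namespace Glob

variable {Gs : Subgroup G} {t : G} (h : Glob Gs t)
include h

theorem comm_le : commutator G ≤ Gs := by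
  haveI := h.nrm
  have key : ∀ a b : G, a * t ∈ Gs → b * t ∈ Gs → a * b⁻¹ ∈ Gs := fun a b ha hb => by
    simpa [mul_assoc] using Gs.mul_mem ha (Gs.inv_mem hb)
  refine (commutator_le (H₁ := ⊤) (H₂ := ⊤)).2 fun a _ b _ => ?_
  rw [commutatorElement_def]
  rcases h.gen b with hb | hb
  · exact Gs.mul_mem (h.nrm.conj_mem _ hb a) (Gs.inv_mem hb)
  rcases h.gen a with ha | ha
  · have := Gs.mul_mem ha (h.nrm.conj_mem _ (Gs.inv_mem ha) b)
    rwa [← mul_assoc, ← mul_assoc] at this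
  · have h1 := key a b ha hb
    have h2 := Gs.mul_mem (h.nrm.conj_mem _ (Gs.inv_mem h1) a) h1
    rwa [show a * (a * b⁻¹)⁻¹ * a⁻¹ * (a * b⁻¹) = a * b * a⁻¹ * b⁻¹ by group] at h2

theorem pf_le {M : Subgroup G} (hM : M ≤ ⁅M, M⁆) : M ≤ Gs :=
  hM.trans ((commutator_mono le_top le_top).trans h.comm_le)

theorem not_mem (ht : t ∉ commutator G) : t ∉ Gs := fun hs =>
  ht (h.perf.trans (commutator_mono le_top le_top) hs)

theorem index (ht : t ∉ Gs) : Gs.index = 2 := by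
  rw [index_eq_two_iff]
  refine ⟨t, fun b => ?_⟩
  by_cases hb : b ∈ Gs
  · exact Or.inr ⟨hb, fun h' => ht ((Gs.mul_mem_cancel_left hb).1 h')⟩
  · exact Or.inl ⟨(h.gen b).resolve_left hb, hb⟩

theorem mem_of_odd {g : G} {m : ℕ} (hm : Odd m) (hg : g ^ m ∈ Gs) : g ∈ Gs := by
  have h2 : g * g ∈ Gs := by
    rcases h.gen g with h1 | h1
    · exact Gs.mul_mem h1 h1
    rcases h.gen g⁻¹ with h2 | h2
    · exact Gs.mul_mem (inv_mem_iff.1 h2) (inv_mem_iff.1 h2)
    · simpa [mul_assoc] using Gs.mul_mem h1 (Gs.inv_mem h2)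
  obtain ⟨k, rfl⟩ := hm
  rw [pow_succ, pow_mul, pow_two] at hg
  exact (Gs.mul_mem_cancel_left (Gs.pow_mem h2 k)).1 hg

/-- a subgroup of `Gs` normalised by `Gs` -/
theorem eq_of_norm {K : Subgroup G} (h1 : K ≤ Gs) (h2 : Gs ≤ normalizer (K : Set G)) {x : G}
    (hx : x ∈ K) (x1 : x ≠ 1) : K = Gs := by
  have hN : (K.subgroupOf Gs).Normal := normal_subgroupOf_of_le_normalizer h2
  rcases h.simple.eq_bot_or_eq_top_of_normal _ hN with e | e
  · have : (⟨x, h1 hx⟩ : Gs) ∈ K.subgroupOf Gs := hx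
    rw [e, mem_bot] at this
    exact absurd (congrArg Subtype.val this) x1
  · exact le_antisymm h1 (subgroupOf_eq_top.1 e)

end Glob

end CfsgLib.SLA
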