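import Mathlib
import Cfsg.Agent.Lib.SLA.Aut
import Cfsg.Agent.Lib.LAE.Sylow

/-!
# Normal 2-subgroups of `Y` and `Y2`
-/

set_option autoImplicit false
set_option linter.unusedSectionVars false

namespace CfsgLib.SLA

open CfsgLib.RGD CfsgLib.Stein Subgroup
open scoped commutatorElement Pointwise

universe u

variable {ι κ : Type} [Fintype κ] [DecidableEq κ] [Finite ι] {Φ : RootSys ι κ} {E : ER Φ}
  {F : Type} [Field F] [Finite F] [CharP F 2] {G : Type u} [Group G] [Finite G]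
  {S : StSys Φ F G}

theorem lev_nprod {J : Set κ} {L : List κ} (hL : ∀ i ∈ L, i ∈ J) :
    S.nprod L ∈ S.UU {r | Φ.InSub J r} := by
  induction L with
  | nil => exact one_mem _
  | cons i L ih =>
    have hi : Φ.InSub J (Φ.simple i) := Φ.inSub_simple_iff.2 (hL i List.mem_cons_self)
    rw [S.nprod_cons]
    exact mul_mem (S.n_mem_UU hi (Φ.inSub_neg_iff.2 hi) 1)
      (ih fun j hj => hL j (List.mem_cons_of_mem _ hj))

theorem lev_norm {M R : Subgroup G} (hR : IsPGroup 2 R) (h1 : R ≤ M)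
    (h2 : M ≤ normalizer (R : Set G))
    (h3 : ∀ K : Subgroup G, IsPGroup 2 K → K ≤ M → M ≤ normalizer (K : Set G) → K ≤ R) {g : G}
    (hg : g ∈ normalizer (M : Set G)) : g ∈ normalizer (R : Set G) := by
  have e := LAE.mem_normalizer_iff_conjS.1 hg
  refine LAE.mem_normalizer_of_conjS_le (h3 _ (LAE.isPGroup_conjS hR g)
    ((LAE.conjS_mono h1).trans e.le) ?_)
  rw [← LAE.conjS_normalizer]
  exact e.ge.trans (LAE.conjS_mono h2)

namespace Amb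

variable (A : Amb E S)
include A

theorem o2_levi (J : Set κ) {K : Subgroup G} (hK : IsPGroup 2 K) (h1 : K ≤ S.UU {r | Φ.InSub J r})
    (h2 : S.UU {r | Φ.InSub J r} ≤ normalizer (K : Set G)) : K = ⊥ := by
  have LP : S.UU {r | Φ.InSub J r} ≤ S.P J := le_sup_right.trans (S.LJ_le_P J)
  have l1 : S.UU {r | Φ.Pos r ∧ Φ.InSub J r} ≤ S.UU {r | Φ.InSub J r} :=
    S.UU_mono fun _ hr => hr.2
  have p1 : IsPGroup 2 (S.UU {r | Φ.Pos r ∧ Φ.InSub J r} ⊔ K : Subgroup G) :=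
    LAE.isPGroup_sup (A.pg_U.to_le (S.UU_mono fun _ hr => hr.1)) hK (l1.trans h2)
  have p2 := LAE.isPGroup_sup p1 (A.pg_U.to_le (S.UJ_le_U J))
    ((sup_le l1 h1).trans (LP.trans (S.P_le_normalizer_UJ J)))
  have KU : K ≤ S.U := (le_sup_right.trans le_sup_left).trans (A.le_U p2
    (sup_le ((sup_le l1 h1).trans (S.UU_le_grp _)) (S.UU_le_grp _))
    (S.UU_le_iff.2 fun r hr t => by
      by_cases e : Φ.InSub J r
      · exact mem_sup_left (mem_sup_left (S.x_mem_UU (by exact ⟨hr, e⟩) t))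
      · exact mem_sup_right (S.x_mem_UU (by exact ⟨hr, e⟩) t)))
  obtain ⟨w, hw, neg⟩ := Φ.exists_longest J
  obtain ⟨L, hL, rfl⟩ := Φ.mem_WJ_iff.1 hw
  refine eq_bot_iff.2 fun k hk => ?_
  have m : k ∈ S.UU {r | Φ.Pos r ∧ Φ.InSub J r} :=
    (A.nd.U_inf_LJ J).le (mem_inf.2 ⟨KU hk, mem_sup_right (h1 hk)⟩)
  have := A.nd.eq_one_of_mem_B_of_mem_V
    (S.U_le_B (KU ((mem_normalizer_iff.1 (h2 (lev_nprod hL)) k).1 hk)))
    ((S.acts_nprod L).conj_mem_UU (fun s hs => neg s hs.1 hs.2) m)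
  simpa using this

theorem lev_o2 (J : Set κ) {T : Set ι} (hT : ∀ r, r ∈ T ↔ Φ.InSub J r) {M R K : Subgroup G}
    (hR : IsPGroup 2 R) (r1 : M ≤ normalizer (R : Set G)) (r2 : S.UU T ≤ M)
    (r3 : ∀ y ∈ M, ∃ v ∈ R, ∃ l ∈ S.UU T, y = v * l) (hK : IsPGroup 2 K) (h1 : K ≤ M)
    (h2 : M ≤ normalizer (K : Set G)) : K ≤ R := by
  obtain rfl : T = {r | Φ.InSub J r} := Set.ext hT
  have := A.o2_levi J ((LAE.isPGroup_sup hK hR (h1.trans r1)).to_le
    (inf_le_left (b := S.UU {r | Φ.InSub J r}))) inf_le_right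
    (LAE.le_normalizer_inf (LAE.le_normalizer_sup (r2.trans h2) (r2.trans r1)) le_normalizer)
  intro k hk
  obtain ⟨v, hv, l, hl, rfl⟩ := r3 k (h1 hk)
  have e := this.le (mem_inf.2 ⟨(Subgroup.mul_mem_cancel_left _ (mem_sup_right hv)).1
    (mem_sup_left hk), hl⟩)
  rwa [mem_bot.1 e, mul_one]

theorem lev_le : S.UU {r | ip Φ r E.θ = 0} ≤ Y S E.θ := S.UU_mono fun _ hr => Eq.ge hr

theorem exists_Y {y : G} (hy : y ∈ Y S E.θ) :
    ∃ v ∈ Q S E.θ, ∃ l ∈ S.UU {r | ip Φ r E.θ = 0}, y = v * l := by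
  refine (LAE.mem_sup_iff_of_right_le_normalizer (A.lev_le.trans (A.Y_norm_Q _))).1
    (S.UU_le_iff.2 (fun r hr t => ?_) hy)
  have hr : 0 ≤ ip Φ r E.θ := hr
  rcases hr.eq_or_lt with e | e
  · exact mem_sup_right (S.x_mem_UU e.symm t)
  · exact mem_sup_left (S.x_mem_UU e t)

theorem o2_Y {K : Subgroup G} (hK : IsPGroup 2 K) (h1 : K ≤ Y S E.θ)
    (h2 : Y S E.θ ≤ normalizer (K : Set G)) : K ≤ Q S E.θ :=
  A.lev_o2 _ E.orth_θ_iff (A.pg_Q _) (A.Y_norm_Q _) A.lev_le (fun _ => A.exists_Y) hK h1 h2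

/-- perfect subgroups of `C(z)` -/
theorem pf_le_Y (hc : ∀ P ≤ CL S, IsPGroup 2 P → IsCyclic P) {M : Subgroup G} (hM : Pf M)
    (h : M ≤ NL S) {r : ι} {c : F} (h0 : c ≠ 0) (hz : M ≤ centralizer {S.x r c}) : M ≤ Y S r :=
  hM.2.trans ((closure_le _).2 fun _ hg => A.cent_x_pg r h0 (A.pf_le hc hM h hg.1) (hz hg.1)
    (UFP.pgroup_zpowers_of_sq hg.2))

/-- an element normalising `Y` normalises `Q` -/
theorem norm_Q_of_Y {g : G} (h : g ∈ normalizer (Y S E.θ : Set G)) :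
    g ∈ normalizer (Q S E.θ : Set G) :=
  lev_norm (A.pg_Q _) (A.Q_le_U.trans A.U_le_Y) (A.Y_norm_Q _) (fun _ => A.o2_Y) h

/-- for a collinear pair `a, r = a + b` the root group `X_b` normalises `Y2 a r` -/
theorem norm_Y2 {a b r : ι} (h : RAdd Φ a b r) (c : F) :
    S.x b c ∈ normalizer (Y2 S a r : Set G) := by
  obtain ⟨h1, -, h3⟩ := E.radd_ip h
  refine mem_normalizer_fintype fun y hy => S.x_conj_mem_UU (fun s hs => ?_) c hy
  obtain ⟨s1, s2⟩ : 0 ≤ ip Φ s a ∧ 0 ≤ ip Φ s r := hs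
  have ne : s ≠ Φ.neg b := fun e => by
    rw [e, ip_neg_left] at s2
    omega
  refine ⟨ne, fun k hk => ?_⟩
  have hk := (E.isSum_iff ne).1 hk
  have a1 := (E.radd_ip hk).1
  have a2 := h.ip_right s
  show 0 ≤ ip Φ k a ∧ 0 ≤ ip Φ k r
  rw [hk.ip_left, hk.ip_left, ip_comm b a]
  rw [ip_comm s b] at a2
  omega

end Amb

end CfsgLib.SLA
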