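import Mathlib
import Cfsg.Agent.Lib.SLA.Cen
import Cfsg.Agent.Lib.SLA.Lev

/-!
# The join of the perfect subgroups of a centraliser; mirror images
-/

set_option autoImplicit false
set_option linter.unusedSectionVars false
set_option linter.unusedVariables false

namespace CfsgLib.SLA

open CfsgLib.RGD CfsgLib.Stein Subgroup
open scoped commutatorElement Pointwise

universe u

variable {ι κ : Type} [Fintype κ] [DecidableEq κ] [Finite ι] {Φ : RootSys ι κ} {E : ER Φ}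
  {F : Type} [Field F] [Finite F] [CharP F 2] {G : Type u} [Group G] [Finite G]
  {S : StSys Φ F G}

theorem le_PfC {s : G} {M : Subgroup G} (h1 : Pf M) (h2 : M ≤ CS S s) : M ≤ PfC S s :=
  le_sSup ⟨h1, h2⟩

theorem PfC_le (s : G) : PfC S s ≤ CS S s := sSup_le fun _ h => h.2

theorem pf_PfC (s : G) : Pf (PfC S s) :=
  ⟨sSup_le fun M h => h.1.1.trans (commutator_mono (le_sSup h) (le_sSup h)),
    sSup_le fun M h => h.1.2.trans (closure_mono fun _ hg => ⟨le_PfC h.1 h.2 hg.1, hg.2⟩)⟩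

theorem PfC_le_comm (s : G) : PfC S s ≤ ⁅CS S s, CS S s⁆ :=
  (pf_PfC s).1.trans (commutator_mono (PfC_le s) (PfC_le s))

theorem conj_mem_CS {s g x : G} (hg : g ∈ S.grp) (hx : x ∈ CS S s) :
    g * x * g⁻¹ ∈ CS S (g * s * g⁻¹) :=
  ⟨S.grp.mul_mem (S.grp.mul_mem hg hx.1) (S.grp.inv_mem hg), mem_centralizer_singleton_iff.2 (by
    rw [conj_mul, conj_mul, mem_centralizer_singleton_iff.1 hx.2])⟩

theorem smul_CS {s g : G} (hg : g ∈ S.grp) : MulAut.conj g • CS S s = CS S (g * s * g⁻¹) := by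
  ext x
  rw [mem_pointwise_smul_iff_inv_smul_mem]
  refine ⟨fun h => ?_, fun h => ?_⟩
  · simpa [mul_assoc] using conj_mem_CS hg h
  · simpa [mul_assoc] using conj_mem_CS (inv_mem hg) h

theorem conj_mem_PfC {s g x : G} (hg : g ∈ S.grp) (hx : x ∈ PfC S s) :
    g * x * g⁻¹ ∈ PfC S (g * s * g⁻¹) :=
  le_PfC ((pf_PfC s).conj g) (smul_CS hg ▸ pointwise_smul_le_pointwise_smul_iff.2 (PfC_le s))
    (smul_mem_pointwise_smul _ (MulAut.conj g) _ hx)

theorem conj_mem_comm_CS {s g x : G} (hg : g ∈ S.grp) (hx : x ∈ ⁅CS S s, CS S s⁆) :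
    g * x * g⁻¹ ∈ ⁅CS S (g * s * g⁻¹), CS S (g * s * g⁻¹)⁆ := by
  rw [← smul_CS hg]
  exact (map_commutator _ _ (MulAut.conj g).toMonoidHom).le (mem_map_of_mem _ hx)

theorem CS_norm_PfC (s : G) : CS S s ≤ normalizer (PfC S s : Set G) := fun g hg =>
  mem_normalizer_fintype fun x hx => by
    have := conj_mem_PfC hg.1 hx
    rwa [mem_centralizer_singleton_iff.1 hg.2, mul_inv_cancel_right] at this

theorem CS_cj {s l : G} (hl : l ∈ S.grp) : CS (cj S l) s = CS S s := by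
  rw [CS, cj_grp_of_mem (le_normalizer hl)]

theorem PfC_cj {s l : G} (hl : l ∈ S.grp) : PfC (cj S l) s = PfC S s := by
  rw [PfC, CS_cj hl, PfC]

theorem Sit.PfC_le {T : StSys Φ F G} {K : Type} [Field K] {S' : StSys Φ K G} {s : G}
    (h : Sit E T s) : PfC S' s ≤ T.grp := by
  refine h.amb.pf_le h.cyc ⟨?_, ?_⟩ ((sSup_le fun _ h => h.2.trans inf_le_right).trans h.CN)
  · exact sSup_le fun M h => h.1.1.trans (commutator_mono (le_sSup h) (le_sSup h))
  · exact sSup_le fun M h => h.1.2.trans (closure_mono fun _ hg => ⟨le_sSup h hg.1, hg.2⟩)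

theorem Sit.comm_le {T : StSys Φ F G} {s : G} (h : Sit E T s) {A B : Subgroup G}
    (hA : A ≤ centralizer {s}) (hB : B ≤ centralizer {s}) : ⁅A, B⁆ ≤ N0 T :=
  (commutator_mono (hA.trans h.CN) (hB.trans h.CN)).trans h.amb.commutator_le_N0

/-! ### mirror images -/

@[simp] theorem ER.flip_m (E : ER Φ) : E.flip.m = E.m := rfl
@[simp] theorem ER.flip_θ (E : ER Φ) : E.flip.θ = E.θ := rfl
@[simp] theorem ER.flip_β (E : ER Φ) : E.flip.β = E.β' := rfl
@[simp] theorem ER.flip_β' (E : ER Φ) : E.flip.β' = E.β := rfl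
@[simp] theorem ER.flip_α (E : ER Φ) : E.flip.α = E.α' := rfl
@[simp] theorem ER.flip_α' (E : ER Φ) : E.flip.α' = E.α := rfl
@[simp] theorem ER.flip_γ (E : ER Φ) : E.flip.γ = E.γ := rfl

theorem AA_flip (E : ER Φ) (S : StSys Φ F G) : AA E.flip S = S.UU {s | E.hi s + 1 = E.m} :=
  congrArg S.UU (Set.ext fun s => by
    have := E.hi_lt s
    show E.m - 1 - E.hi s = 0 ↔ E.hi s + 1 = E.m
    omega)

theorem Sit.flip {t : G} (h : Sit E S t) : Sit E.flip S t := ⟨h.amb.flip, h.t2, h.t1, h.tC, h.CN, h.cyc⟩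

theorem Sw.flip {t p : G} (h : Sw E S t p) : Sw E.flip S t p := ⟨h.pt, h.pz, h.nU, h.nY, h.nQ, h.nO⟩

theorem Tv.flip {t p : G} (h : Tv E.flip S t p) : Tv E S t p := ⟨h.pt, h.pz, h.nY, h.nQ, h.co⟩

theorem Hats.flip {t : G} {Z : ι → Subgroup G} (h : Hats E S t Z) : Hats E.flip S t Z :=
  ⟨h.toSit.flip, h.two, h.mem, h.surj, h.ker, h.co, h.cx⟩

theorem Hats2.flip {t : G} {Z : ι → Subgroup G} (h : Hats2 E S t Z) : Hats2 E.flip S t Z :=
  ⟨h.toHats.flip, h.com, h.cz⟩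

theorem DblF.flip {t : G} {Z : ι → Subgroup G} {K : Type} [Field K] {T : StSys Φ K G} {f : F →+* K}
    {τ : K ≃+* K} (h : DblF E S t Z T f τ) : DblF E.flip S t Z T f τ :=
  ⟨h.toHats2.flip, h.ambT.flip, h.card, h.ext, h.tT, h.fix, h.ZT⟩

theorem DblP.flip {t : G} {Z : ι → Subgroup G} {S₁ S₂ : StSys Φ F G} (h : DblP E S t Z S₁ S₂) :
    DblP E.flip S t Z S₁ S₂ :=
  ⟨h.toHats2.flip, h.amb₁.flip, h.amb₂.flip, h.c12, h.ext, h.t12, h.ZT⟩

end CfsgLib.SLA
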