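import Mathlib
import Cfsg.Agent.Lib.SLA.Pfc
import Cfsg.Agent.Lib.SLA.Cen
import Cfsg.Agent.Lib.SLA.NG

/-!
# Conjugates of `t`: bookkeeping
-/

set_option autoImplicit false
set_option linter.unusedSectionVars false

namespace CfsgLib.SLA

open CfsgLib.RGD CfsgLib.Stein Subgroup
open scoped commutatorElement Pointwise

universe u

variable {ι κ : Type} [Fintype κ] [DecidableEq κ] [Finite ι] {Φ : RootSys ι κ} {E : ER Φ}
  {F : Type} [Field F] [Finite F] [CharP F 2] {G : Type u} [Group G] [Finite G]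
  {S : StSys Φ F G}

omit [Finite ι] [Finite F] [CharP F 2] [Finite G] in
/-- `t` is not fused to `t x` for root elements `x` -/
def NB (S : StSys Φ F G) (t : G) : Prop := ∀ r c, c ≠ 0 → ¬ IsConj t (t * S.x r c)

omit [Finite ι] [Finite F] [CharP F 2] [Finite G] in
theorem b1_conj (g a : G) : IsConj a (g * a * g⁻¹) := isConj_iff.2 ⟨g, rfl⟩

omit [Finite ι] [Finite F] [CharP F 2] [Finite G] in
theorem b1_sq {t s : G} (t2 : t * t = 1) (hs : IsConj t s) : s * s = 1 := by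
  obtain ⟨g, rfl⟩ := isConj_iff.1 hs
  rw [conj_mul, t2, mul_one, mul_inv_cancel]

omit [Finite ι] [Finite F] [CharP F 2] [Finite G] in
theorem b1_pg {P : Subgroup G} (hP : IsPGroup 2 P) {t : G} (t2 : t * t = 1)
    (h : ∀ p ∈ P, p * t = t * p) : IsPGroup 2 (zpowers t ⊔ P : Subgroup G) :=
  (UFP.pgroup_zpowers_of_sq t2).to_sup_of_normal_right' hP
    (zpowers_le.2 (centralizer_le_normalizer _ h))

theorem NB.cj {t : G} (h : NB S t) (g : G) : NB (cj S g) (g * t * g⁻¹) := by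
  intro r c hc e
  rw [cj_x, conj_mul] at e
  exact h r c hc (((b1_conj g t).trans e).trans (b1_conj g _).symm)

namespace Sit

variable {t : G} (h : Sit E S t)
include h

theorem cj_mem {l : G} (hl : l ∈ S.grp) : Sit E (SLA.cj S l) t := by
  have := h.cj l
  rwa [h.com hl, mul_inv_cancel_right] at this

theorem b1_conj_x (r : ι) {c : F} (hc : c ≠ 0) : IsConj (t * S.x E.θ 1) (t * S.x r c) := by
  obtain ⟨l, hl, e, -⟩ := h.amb.exists_conj_x r hc
  refine isConj_iff.2 ⟨l, ?_⟩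
  rw [← conj_mul, e, h.com (S.N_le_grp hl), mul_inv_cancel_right]

theorem nb_of1 (hB : ¬ IsConj t (t * S.x E.θ 1)) : NB S t :=
  fun r _ hc e => hB (e.trans (h.b1_conj_x r hc).symm)

theorem nb_of (hB : ∀ c, c ≠ 0 → ¬ IsConj t (t * S.x E.θ c)) : NB S t := h.nb_of1 (hB 1 one_ne_zero)

theorem nb_cj (hB : NB S t) {l : G} (hl : l ∈ S.grp) : NB (SLA.cj S l) t := by
  have := hB.cj l
  rwa [h.com hl, mul_inv_cancel_right] at this

/-- a 2-subgroup of `C(s)`, `s` a conjugate of `t`, normalises a Sylow subgroup of `L_s` -/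
theorem exists_cj {s : G} (hs : IsConj t s) {P : Subgroup G} (hP : IsPGroup 2 P)
    (hc : P ≤ centralizer {s}) : ∃ g, g * t * g⁻¹ = s ∧ P ≤ normalizer ((SLA.cj S g).U : Set G) := by
  obtain ⟨g, hg⟩ := isConj_iff.1 hs
  have h' := h.cj g
  rw [hg] at h'
  obtain ⟨l, hl, hn⟩ := h'.amb.exists_norm_cj hP (hc.trans h'.CN)
  rw [cj_cj] at hn
  refine ⟨l * g, ?_, hn⟩
  rw [show l * g * t * (l * g)⁻¹ = l * (g * t * g⁻¹) * l⁻¹ by group, hg, h'.com hl,
    mul_inv_cancel_right]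

theorem mem_NL {s : G} (hc : s * t = t * s) : s ∈ NL S := h.CN (mem_centralizer_singleton_iff.2 hc)

theorem b1_exists_l {s : G} (s2 : s * s = 1) (hc : s * t = t * s) :
    ∃ l ∈ S.grp, s ∈ normalizer ((SLA.cj S l).U : Set G) := by
  obtain ⟨l, hl, hn⟩ := h.amb.exists_norm_cj (UFP.pgroup_zpowers_of_sq s2) (zpowers_le.2 (h.mem_NL hc))
  exact ⟨l, hl, hn (mem_zpowers s)⟩

end Sit

end CfsgLib.SLA
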