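import Mathlib
import Cfsg.Agent.Lib.SLA.B0

/-!
# The elementary abelian subgroups A and B; the case m = 3
-/

set_option autoImplicit false
set_option linter.unusedSectionVars false
set_option linter.unusedVariables false

namespace CfsgLib.SLA

open CfsgLib.RGD CfsgLib.Stein Subgroup
open scoped commutatorElement Pointwise

universe u

variable {ι κ : Type} [Fintype κ] [DecidableEq κ] [Finite ι] {Φ : RootSys ι κ} {E : ER Φ}
  {F : Type} [Field F] [Finite F] [CharP F 2] {G : Type u} [Group G] [Finite G]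
  {S : StSys Φ F G}

theorem j3_card {X K : Subgroup G} {α : Type*} [Finite α] (f : X → α)
    (h : ∀ x y, f x = f y → (x : G)⁻¹ * y ∈ K) :
    Nat.card X ≤ Nat.card α * Nat.card (X ⊓ K : Subgroup G) := by
  rw [card_eq_card_quotient_mul_card_subgroup (K.subgroupOf X), ← inf_subgroupOf_right, inf_comm,
    Nat.card_congr (subgroupOfEquivOfLe inf_le_left).toEquiv]
  refine Nat.mul_le_mul_right _ (Nat.card_le_card_of_injective (fun q => f q.out) fun q q' e => ?_)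
  rw [← q.out_eq', ← q'.out_eq']
  exact QuotientGroup.eq.2 ⟨(q.out⁻¹ * q'.out).2, h _ _ e⟩

theorem j3_two {X K : Subgroup G} (h2 : ∀ x ∈ X, x * x = 1)
    (h : ∀ a ∈ X, ∀ b ∈ X, a ∉ K → b ∉ K → a * b ∈ K) :
    Nat.card X ≤ 2 * Nat.card (X ⊓ K : Subgroup G) := by
  have := j3_card (X := X) (K := K) (fun x => (x : G) ∈ K) fun x y e => by
    by_cases hx : (x : G) ∈ K
    · exact mul_mem (inv_mem hx) (e ▸ hx)
    · rw [inv_eq_of_mul_eq_one_right (h2 _ x.2)]
      exact h _ x.2 _ y.2 hx (e ▸ hx)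
  simpa using this

theorem j3_fix (d : F) (σ : F ≃+* F) : Nat.card {c // d * σ c = c} ≤ Nat.card {c // σ c = c} := by
  by_cases h : ∃ e, e ≠ 0 ∧ d * σ e = e
  · obtain ⟨e, e0, he⟩ := h
    refine Nat.card_le_card_of_injective (fun c => ⟨c.1 / e, ?_⟩) fun c c' h =>
      Subtype.ext ((div_left_inj' e0).1 (congrArg Subtype.val h))
    have d0 : d ≠ 0 := fun h => e0 (by rw [← he, h, zero_mul])
    rw [map_div₀, ← mul_div_mul_left _ _ d0, c.2, he]
  · refine Nat.card_le_card_of_injective (fun _ => ⟨0, map_zero σ⟩) fun c c' _ => Subtype.ext ?_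
    rw [by_contra fun e => h ⟨_, e, c.2⟩, show c'.1 = 0 from by_contra fun e => h ⟨_, e, c'.2⟩]

theorem j3_comm {X : Subgroup G} (h2 : ∀ x ∈ X, x * x = 1) {a b : G} (ha : a ∈ X) (hb : b ∈ X) :
    a * b = b * a := by
  rw [← inv_eq_of_mul_eq_one_right (h2 _ (mul_mem ha hb)), mul_inv_rev,
    inv_eq_of_mul_eq_one_right (h2 _ ha), inv_eq_of_mul_eq_one_right (h2 _ hb)]

theorem ER.lay_AA (E : ER Φ) : Lay Φ {r | E.lo r = 0} ∅ :=
  ⟨E.idl_AA.1, Set.empty_subset _, fun a ha b hb k hk => by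
    have := E.bd a; have := E.bd b
    rw [E.radd_iff] at hk
    simp only [Set.mem_ofPred_eq] at ha hb
    omega⟩

theorem ER.stab_AA (E : ER Φ) {d : ι} (h : E.hi d ≠ 0) : Stab Φ d {r | E.lo r = 0} :=
  ⟨by rwa [Set.mem_ofPred_eq, E.lo_neg], fun s hs k hk => by
    rw [E.radd_iff] at hk
    simp only [Set.mem_ofPred_eq] at hs ⊢
    omega⟩

namespace Amb

variable (A : Amb E S)
include A

theorem AA_le_U : AA E S ≤ S.U := S.UU_le_U E.idl_AA.1

theorem vec_cZ' {u z : G} (hu : u ∈ S.U) (hz : z ∈ S.X E.θ) : u * z * u⁻¹ = z := by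
  rw [← A.Y_le_cent E.θ (A.U_le_Y hu) z hz, mul_inv_cancel_right]

theorem AA_comm {a b : G} (ha : a ∈ AA E S) (hb : b ∈ AA E S) : a * b = b * a := by
  refine (S.UU_le_iff.2 fun r hr c => mem_cent_UU.2 fun s hs e => A.com ?_ _ _ :
    AA E S ≤ centralizer (AA E S : Set G)) hb a ha
  have := E.bd r; have := E.bd s
  simp only [Set.mem_ofPred_eq] at hr hs
  rw [E.nonneg_iff]; omega

theorem AA_sq {a : G} (ha : a ∈ AA E S) : a * a = 1 := by
  refine S.UU_induction (p := fun a => a * a = 1) (mul_one _) (fun r hr c g hg e => ?_) ha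
  rw [mul_assoc, ← mul_assoc _ g, ← A.AA_comm hg (S.x_mem_UU hr c), mul_assoc, A.x_sq, mul_one, e]

theorem card_AA : Nat.card (AA E S) = Nat.card F ^ (E.m - 1) := by
  rw [AA, A.nd.card_UU (E.closed_of_idl E.idl_AA) E.idl_AA.1]
  congr 1
  rw [← Set.ncard_image_of_injOn (f := E.hi) fun r hr s hs e => E.ext r s (hr.trans hs.symm) e,
    show E.m - 1 = (Finset.Ioo 0 E.m).card by simp, ← Set.ncard_coe_finset]
  congr 1
  ext j
  simp only [Set.mem_image, Set.mem_ofPred_eq, Finset.coe_Ioo, Set.mem_Ioo]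
  refine ⟨?_, fun h => E.exists_e (by omega) h.2 (by omega)⟩
  rintro ⟨r, hr, rfl⟩
  have := E.bd r
  omega

theorem U_norm_AA : S.U ≤ normalizer (AA E S : Set G) :=
  A.le_norm (fun _ h => h) E.idl_AA.1 fun a ha b hb k hk => by
    have := E.pos_iff.1 ha
    rw [E.radd_iff] at hk
    simp only [Set.mem_ofPred_eq] at hb ⊢
    omega

theorem x_norm_AA {d : ι} (h : E.hi d ≠ 0) (c : F) : S.x d c ∈ normalizer (AA E S : Set G) :=
  mem_normalizer_fintype fun _ hu => A.x_conj_mem (E.stab_AA h) c hu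

theorem AA_conj_x {r : ι} (hr : E.lo r = 0) {c : F} (hc : c ≠ 0) :
    ∃ l ∈ S.grp, l ∈ normalizer (AA E S : Set G) ∧ l * S.x E.θ 1 * l⁻¹ = S.x r c := by
  by_cases e : r = E.θ
  · refine ⟨_, S.h_mem_grp E.α c, A.std_norm (std_of_mem_H (S.h_mem_H _ hc)) fun _ h => h, ?_⟩
    rw [A.h_conj _ _ hc, E.ip_αθ, zpow_one, mul_one, e]
  · have := E.bd r; have := E.co
    rw [E.eq_iff] at e
    obtain ⟨d, d1, d2⟩ := E.exists_e (i := E.hi r) (j := E.m - 1) (by omega) (by omega) (by omega)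
    have hd : RAdd Φ r d E.θ := by rw [E.radd_iff]; omega
    refine ⟨_, S.n_mem_grp d c⁻¹, mul_mem (mul_mem (A.x_norm_AA (by omega) _)
      (A.x_norm_AA (by rw [E.hi_neg]; omega) _)) (A.x_norm_AA (by omega) _), ?_⟩
    rw [A.n_conj _ _ (inv_ne_zero hc), (E.rf_add hd).2, (E.radd_ip hd).2.2, zpow_neg, zpow_one,
      inv_inv, mul_one]

/-- the non-trivial elements of `A` are conjugate under `N_L(A)` -/
theorem AA_conj {a : G} (ha : a ∈ AA E S) (h1 : a ≠ 1) :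
    ∃ l ∈ S.grp, l ∈ normalizer (AA E S : Set G) ∧ l * S.x E.θ 1 * l⁻¹ = a := by
  classical
  have cl := E.closed_of_idl E.idl_AA
  obtain ⟨r, hr, c0⟩ : ∃ r, E.lo r = 0 ∧ cf S a r ≠ 0 := by
    by_contra! h
    refine h1 (A.cf_ext (A.AA_le_U ha) (one_mem _) fun r _ => ?_)
    rw [A.cf_one]
    by_cases e : E.lo r = 0
    exacts [h r e, A.cf_eq_zero cl E.idl_AA.1 ha e]
  have key : ∀ K : Finset ι, ∃ l ∈ S.grp, l ∈ normalizer (AA E S : Set G) ∧
      cf S (l * a * l⁻¹) r = cf S a r ∧ ∀ k ∈ K, k ≠ r → cf S (l * a * l⁻¹) k = 0 := by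
    intro K
    induction K using Finset.induction_on with
    | empty => exact ⟨1, one_mem _, one_mem _, by simp, by simp⟩
    | insert k K _ ih =>
      obtain ⟨l, l1, l2, l3, l4⟩ := ih
      have m := (mem_normalizer_iff.1 l2 a).1 ha
      by_cases e : E.lo k = 0 ∧ k ≠ r
      · have := E.bd r; have := E.bd k
        have ne := e.2
        rw [Ne, E.eq_iff] at ne
        obtain ⟨d, d1, d2⟩ := E.exists_e (i := E.hi r) (j := E.hi k) (by omega) (by omega) (by omega)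
        have hd : RAdd Φ r d k := by rw [E.radd_iff]; omega
        have st := E.stab_AA (d := d) (by omega)
        have s0 : Stab Φ d ∅ := ⟨fun h => h, fun _ h => h.elim⟩
        have fx : ∀ k', k' ≠ k → ∀ c, cf S (S.x d c * (l * a * l⁻¹) * (S.x d c)⁻¹) k' =
            cf S (l * a * l⁻¹) k' := fun k' hk c =>
          A.cf_conj_fix E.lay_AA st s0 c m (fun s hs h => hk (by
            rw [E.radd_iff] at h
            simp only [Set.mem_ofPred_eq] at hs
            rw [E.eq_iff]; omega)) fun h => h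
        refine ⟨S.x d (cf S (l * a * l⁻¹) k / cf S a r) * l, mul_mem (S.x_mem_grp _ _) l1,
          mul_mem (A.x_norm_AA (by omega) _) l2, ?_, fun k' hk ne' => ?_⟩ <;>
          rw [show ∀ x : G, x * l * a * (x * l)⁻¹ = x * (l * a * l⁻¹) * x⁻¹ from fun x => by group]
        · rw [fx r e.2.symm, l3]
        · by_cases e' : k' = k
          · rw [e', A.cf_conj_add E.lay_AA st s0 _ m hd fun h => h, l3, div_mul_cancel₀ _ c0,
              CharTwo.add_self_eq_zero]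
          · rw [fx k' e', l4 k' ((Finset.mem_insert.1 hk).resolve_left e') ne']
      · refine ⟨l, l1, l2, l3, fun k' hk ne => ?_⟩
        rcases Finset.mem_insert.1 hk with rfl | hk
        · exact A.cf_eq_zero cl E.idl_AA.1 m fun h => e ⟨h, ne⟩
        · exact l4 k' hk ne
  have := Fintype.ofFinite ι
  obtain ⟨l, l1, l2, l3, l4⟩ := key Finset.univ
  obtain ⟨k, k1, k2, k3⟩ := A.AA_conj_x hr c0
  have pr := E.idl_AA.1 r hr
  have e : l * a * l⁻¹ = S.x r (cf S a r) :=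
    A.cf_ext (A.AA_le_U ((mem_normalizer_iff.1 l2 a).1 ha)) (S.x_mem_U pr _) fun s _ => by
      by_cases e : s = r
      · rw [e, l3, A.cf_x_self pr]
      · rw [l4 s (Finset.mem_univ s) e, A.cf_x_ne pr e]
  refine ⟨l⁻¹ * k, mul_mem (inv_mem l1) k1, mul_mem (inv_mem l2) k2, ?_⟩
  rw [show l⁻¹ * k * S.x E.θ 1 * (l⁻¹ * k)⁻¹ = l⁻¹ * (k * S.x E.θ 1 * k⁻¹) * l by group, k3, ← e]
  group

theorem U_three (h3 : E.m = 3) {u : G} (hu : u ∈ S.U) :
    ∃ a b c, u = S.x E.α a * S.x E.β b * S.x E.θ c := by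
  have := E.co
  obtain ⟨t, -, e⟩ := S.exists_xprod (L := [E.α, E.β, E.θ]) Φ.closed_pos (fun _ h => h) (by
    simp only [List.nodup_cons, List.mem_cons, List.not_mem_nil, E.eq_iff, List.nodup_nil, or_false,
      not_false_eq_true, and_true]
    omega) (fun r hr => by
      have := E.bd r
      have := E.pos_iff.1 hr
      simp only [List.mem_cons, List.not_mem_nil, E.eq_iff]
      omega) hu
  exact ⟨_, _, _, by simpa [StSys.xprod, mul_assoc] using e⟩

theorem AA_sup (h3 : E.m = 3) : AA E S ⊔ AA E.flip S = S.U := by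
  refine le_antisymm (sup_le A.AA_le_U A.flip.AA_le_U) (S.UU_le_iff.2 fun r hr c => ?_)
  have := E.bd r
  have := E.pos_iff.1 hr
  by_cases e : E.lo r = 0
  · exact mem_sup_left (S.x_mem_UU e c)
  · exact mem_sup_right (AA_flip E S ▸ S.x_mem_UU (show E.hi r + 1 = E.m by omega) c)

theorem le_AA_or (h3 : E.m = 3) {X : Subgroup G} (h : X ≤ S.U) (h2 : ∀ x ∈ X, x * x = 1) :
    X ≤ AA E S ∨ X ≤ AA E.flip S := by
  refine SubgroupClass.subset_union.1 fun x hx => ?_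
  obtain ⟨a, b, c, rfl⟩ := A.U_three h3 (h hx)
  have e := h2 _ hx
  have c1 := A.com (a := E.θ) (b := E.α) (by rw [ip_comm, E.ip_αθ]; decide) c a
  have c2 := A.com (a := E.θ) (b := E.β) (by rw [ip_comm, E.ip_βθ]; decide) c b
  have e1 := A.rel.cm _ _ _ E.hβ a b
  rw [A.x_inv, A.x_inv] at e1
  rw [mul_assoc, ← mul_assoc (S.x E.θ c), ← mul_assoc (S.x E.θ c), c1, mul_assoc _ (S.x E.θ c), c2,
    mul_assoc, mul_assoc, mul_assoc, A.x_sq, mul_one, ← mul_assoc, ← mul_assoc, e1, A.x_eq_one] at e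
  rcases mul_eq_zero.1 e with rfl | rfl
  · right
    rw [S.x_zero, one_mul, AA_flip]
    exact mul_mem (S.x_mem_UU E.hi_β _) (S.x_mem_UU E.hi_θ _)
  · left
    rw [S.x_zero, mul_one]
    exact mul_mem (S.x_mem_UU E.lo_α _) (S.x_mem_UU E.lo_θ _)

/-- a graph automorphism -/
theorem j3_graph {x y : G} {σ : F ≃+* F} (hT : Typ S x E.γ σ) (hU : x ∈ normalizer (S.U : Set G))
    (hy : y ∈ AA E S) (c : x * y = y * x) : y ∈ S.X E.θ := by
  obtain ⟨u, hu, d, hd⟩ := A.exists_std hT (.inr rfl) hU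
  have h1 : u * x * y * (u * x)⁻¹ ∈ AA E.flip S := AA_flip E S ▸ hd.conj_mem (fun r hr => by
    have := E.γ_co r
    simp only [Set.mem_ofPred_eq] at hr ⊢
    omega) hy
  rw [show u * x * y * (u * x)⁻¹ = u * (x * y * x⁻¹) * u⁻¹ by group, c, mul_inv_cancel_right,
    ← mem_normalizer_iff.1 (A.flip.U_norm_AA hu)] at h1
  refine A.mem_of_cf (A.AA_le_U hy) fun r _ hr => ?_
  by_cases e : E.lo r = 0
  · refine A.cf_eq_zero (E.flip.closed_of_idl E.flip.idl_AA) E.flip.idl_AA.1 h1 fun h => hr ?_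
    have := E.co; have := E.bd r
    change E.m - 1 - E.hi r = 0 at h
    rw [Set.mem_singleton_iff, E.eq_iff]; omega
  · exact A.cf_eq_zero (E.closed_of_idl E.idl_AA) E.idl_AA.1 hy e

theorem j3_Z : Nat.card (S.X E.θ) = Nat.card F := by
  refine (Nat.card_congr (Equiv.ofBijective (fun c : F => (⟨_, S.x_mem_X E.θ c⟩ : S.X E.θ))
    ⟨fun c d e => ?_, fun y => ?_⟩)).symm
  · have e' : S.x E.θ c = S.x E.θ d := congrArg Subtype.val e
    rw [← CharTwo.add_eq_zero, ← A.x_eq_one (r := E.θ), S.x_add, e', A.x_sq]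
  · obtain ⟨c, hc⟩ := S.mem_X_iff.1 y.2
    exact ⟨c, Subtype.ext hc.symm⟩

/-- a field automorphism, on the centre -/
theorem j3_fieldZ {x : G} {σ : F ≃+* F} (hT : Typ S x 1 σ) (hU : x ∈ normalizer (S.U : Set G))
    {P : Subgroup G} (hP : P ≤ S.X E.θ) (c : ∀ y ∈ P, x * y = y * x) :
    Nat.card P ≤ Nat.card {c // σ c = c} := by
  obtain ⟨u, hu, d, hd⟩ := A.exists_std hT (.inl rfl) hU
  choose f hf using fun y : P => S.mem_X_iff.1 (hP y.2)
  refine le_trans (Nat.card_le_card_of_injective (β := {c // d E.θ * σ c = c}) (fun y => ⟨f y, ?_⟩) fun y y' e =>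
    Subtype.ext (by rw [hf, hf, show f y = f y' from congrArg Subtype.val e])) (j3_fix (d E.θ) σ)
  have h1 := hd.2 E.θ (f y)
  rw [← hf, show u * x * y * (u * x)⁻¹ = u * (x * y * x⁻¹) * u⁻¹ by group, c y y.2,
    mul_inv_cancel_right, A.vec_cZ' hu (hP y.2), hf] at h1
  rw [← CharTwo.add_eq_zero, ← A.x_eq_one (r := E.θ), S.x_add]
  exact (congrArg (· * _) h1.symm).trans (A.x_sq _ _)

/-- a field automorphism, on `A` -/
theorem j3_field (h3 : E.m = 3) {x : G} {σ : F ≃+* F} (hT : Typ S x 1 σ)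
    (hU : x ∈ normalizer (S.U : Set G)) {P : Subgroup G} (hP : P ≤ AA E S)
    (c : ∀ y ∈ P, x * y = y * x) : Nat.card P ≤ Nat.card {c // σ c = c} ^ 2 := by
  obtain ⟨u, hu, d, hd⟩ := A.exists_std hT (.inl rfl) hU
  have co := E.co
  have L : Lay Φ {r | Φ.Pos r} {E.θ} := ⟨fun _ h => h, by rintro _ rfl; exact E.pos_θ,
    fun a ha b hb k hk => by
      have := E.pos_iff.1 ha; have := E.pos_iff.1 hb; have := E.bd a; have := E.bd b
      rw [E.radd_iff] at hk
      rw [Set.mem_singleton_iff, E.eq_iff]; omega⟩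
  have na : E.α ∉ ({E.θ} : Set ι) := by rw [Set.mem_singleton_iff, E.eq_iff]; omega
  have PU := hP.trans A.AA_le_U
  rw [pow_two]
  refine (j3_card (K := S.X E.θ) (α := {c // d E.α * σ c = c}) (fun y => ⟨cf S y E.α, ?_⟩)
    fun y y' e => ?_).trans (Nat.mul_le_mul (j3_fix _ σ)
      (A.j3_fieldZ hT hU inf_le_right fun y hy => c y hy.1))
  · have h1 := A.cf_std L hd (fun _ => Iff.rfl) (fun _ => Iff.rfl) (PU y.2) na
    rw [show u * x * y * (u * x)⁻¹ = u * (x * y * x⁻¹) * u⁻¹ by group, c y y.2,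
      mul_inv_cancel_right, Equiv.Perm.one_apply, A.cf_mul L (mul_mem hu (PU y.2)) (inv_mem hu) na,
      A.cf_mul L hu (PU y.2) na, A.cf_inv L hu na, add_right_comm, CharTwo.add_self_eq_zero,
      zero_add] at h1
    exact h1.symm
  · have m := (y⁻¹ * y').2
    refine A.mem_of_cf (PU m) fun r pr hr => ?_
    by_cases e' : r = E.α
    · rw [e']
      exact (A.cf_mul L (inv_mem (PU y.2)) (PU y'.2) na).trans (by
        rw [A.cf_inv L (PU y.2) na, show cf S y E.α = cf S y' E.α from congrArg Subtype.val e,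
          CharTwo.add_self_eq_zero])
    · refine A.cf_eq_zero (E.closed_of_idl E.idl_AA) E.idl_AA.1 (hP m) fun h => ?_
      have := E.bd r
      rw [Set.mem_singleton_iff, E.eq_iff] at hr
      rw [E.eq_iff] at e'
      rw [Set.mem_ofPred_eq] at h
      omega

end Amb

/-- the elements that induce automorphisms without graph part -/
def Na (S : StSys Φ F G) : Subgroup G where
  carrier := {g | ∃ σ, Typ S g 1 σ}
  one_mem' := ⟨1, typ_of_mem (one_mem _)⟩
  mul_mem' := fun ⟨_, h⟩ ⟨_, h'⟩ => ⟨_, by simpa using h.mul h' fun _ => rfl⟩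
  inv_mem' := fun ⟨_, h⟩ => ⟨_, by simpa using h.inv fun _ => rfl⟩

namespace Sit

variable {t : G} (h : Sit E S t)
include h

/-- large elementary abelian subgroups -/
theorem j3 (h3 : E.m = 3) {X : Subgroup G} (ht : t ∈ X) (h2 : ∀ x ∈ X, x * x = 1)
    (hU : X ≤ normalizer (S.U : Set G)) (hc : 2 * Nat.card F ^ 2 ≤ Nat.card X) :
    X = zpowers t ⊔ AA E S ∨ X = zpowers t ⊔ AA E.flip S := by
  have A := h.amb
  have q := A.two_lt (by omega)
  have hN : ∀ x ∈ X, x ∈ NL S := fun x hx => h.mem_NL (j3_comm h2 hx ht)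
  have in0 : ∀ x ∈ X, x ∈ N0 S → x ∈ S.U ∨ x * t ∈ S.U := fun x hx h0 => by
    obtain ⟨l, hl, c, hc, e, l2, c2⟩ := A.inv_split h0 (h2 x hx)
    have k : ∀ y ∈ X, y ∈ S.grp → y ∈ S.U := fun y hy hl =>
      A.mem_U_of_norm hl (UFP.pgroup_zpowers_of_sq (h2 y hy)) (hU hy)
    rcases h.eq_t hc c2 (by
      have := j3_comm h2 hx ht
      rwa [e, mul_assoc, ← mul_assoc t, ← h.com hl, mul_assoc, mul_right_inj] at this) with rfl | rfl
    · exact .inl (k x hx (by rwa [e, mul_one]))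
    · exact .inr (k _ (mul_mem hx ht) (by rwa [e, mul_assoc, h.t2, mul_one]))
  have c1 : ∀ {Y : Subgroup G}, Y ≤ X → Y ≤ N0 S →
      Nat.card Y ≤ 2 * Nat.card (X ⊓ S.U : Subgroup G) := fun {Y} h1 h0 =>
    (j3_two (K := S.U) (fun x hx => h2 x (h1 hx)) fun a ha b hb na nb => by
      have := mul_mem ((in0 a (h1 ha) (h0 ha)).resolve_left na) ((in0 b (h1 hb) (h0 hb)).resolve_left nb)
      rwa [j3_comm h2 (h1 hb) ht, mul_assoc, ← mul_assoc t, h.t2, one_mul] at this).trans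
      (Nat.mul_le_mul_left 2 (card_le_of_le (inf_le_inf_right _ h1)))
  have sq : ∀ x ∈ X, ∀ {σ}, Typ S x 1 σ → σ * σ = 1 := fun x hx σ hT =>
    A.sq_of_typ hT (.inl rfl) (h2 x hx ▸ one_mem _)
  have c2 : ∀ {Y : Subgroup G}, Y ≤ X → Y ≤ Na S →
      Nat.card Y ≤ 4 * Nat.card (X ⊓ S.U : Subgroup G) := fun {Y} h1 h0 => by
    have e1 := j3_two (X := Y) (K := N0 S) (fun x hx => h2 x (h1 hx)) fun a ha b hb na nb => by
      obtain ⟨σ, hσ⟩ := h0 ha
      obtain ⟨τ, hτ⟩ := h0 hb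
      obtain rfl := aut_eq_of_sq (sq a (h1 ha) hσ) (sq b (h1 hb) hτ) (by rintro rfl; exact na hσ)
        (by rintro rfl; exact nb hτ)
      simpa [mem_N0, sq a (h1 ha) hσ] using hσ.mul hτ fun _ => rfl
    have e2 := c1 (Y := Y ⊓ N0 S) (inf_le_left.trans h1) inf_le_right
    omega
  have gr : ∀ x ∈ X, x ∉ Na S → ∃ σ, Typ S x E.γ σ := fun x hx hn => by
    obtain ⟨π, σ, rfl | rfl, hT⟩ := A.aut x (hN x hx)
    exacts [absurd ⟨σ, hT⟩ hn, ⟨σ, hT⟩]
  have c3 : Nat.card X ≤ 2 * Nat.card (X ⊓ Na S : Subgroup G) := j3_two h2 fun a ha b hb na nb => by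
    obtain ⟨σ, hσ⟩ := gr a ha na
    obtain ⟨τ, hτ⟩ := gr b hb nb
    exact ⟨_, E.γ_mul ▸ hσ.mul hτ E.γn⟩
  have or := A.le_AA_or h3 (X := X ⊓ S.U) inf_le_right fun x hx => h2 x hx.1
  by_cases h0 : X ≤ N0 S
  · have e := c1 le_rfl h0
    have fin : ∀ C : Subgroup G, Nat.card C = Nat.card F ^ (E.m - 1) → X ⊓ S.U ≤ C →
        X = zpowers t ⊔ C := fun C hC hle => by
      have e1 := eq_of_le_of_card_ge hle (by rw [hC, h3, show 3 - 1 = 2 from rfl]; omega)
      refine le_antisymm (fun x hx => ?_) (sup_le (zpowers_le.2 ht) (e1.ge.trans inf_le_left))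
      rcases in0 x hx (h0 hx) with h1 | h1
      · exact mem_sup_right (hle ⟨hx, h1⟩)
      · exact (mul_mem_cancel_right (mem_sup_left (mem_zpowers t))).1
          (mem_sup_right (hle ⟨mul_mem hx ht, h1⟩))
    exact or.imp (fin _ A.card_AA) (fin _ A.flip.card_AA)
  exfalso
  have fld : ∀ x ∈ X, x ∈ Na S → x ∉ N0 S → ∃ σ, ∃ q₀, Typ S x 1 σ ∧ 2 ≤ q₀ ∧ Nat.card F = q₀ ^ 2 ∧
      Nat.card {c // σ c = c} = q₀ := fun x hx ⟨σ, hσ⟩ hn => by
    obtain ⟨q₀, a1, -, a2, -, a3, -⟩ := aut_two (sq x hx hσ) (by rintro rfl; exact hn hσ)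
    exact ⟨σ, q₀, hσ, a1, a2, a3⟩
  suffices Nat.card X ≤ 4 * Nat.card F by nlinarith
  by_cases ha : X ≤ Na S
  · obtain ⟨x, hx, hn⟩ := SetLike.not_le_iff_exists.1 h0
    obtain ⟨σ, q₀, hσ, -, a2, a3⟩ := fld x hx (ha hx) hn
    have := or.elim (fun e => A.j3_field h3 hσ (hU hx) e fun y hy => j3_comm h2 hx hy.1)
      fun e => A.flip.j3_field h3 hσ (hU hx) e fun y hy => j3_comm h2 hx hy.1
    have := c2 le_rfl ha
    rw [a3, ← a2] at *
    omega
  obtain ⟨x, hx, hn⟩ := SetLike.not_le_iff_exists.1 ha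
  obtain ⟨σ, hσ⟩ := gr x hx hn
  have hZ : X ⊓ S.U ≤ S.X E.θ := fun y hy => or.elim
    (fun e => A.j3_graph hσ (hU hx) (e hy) (j3_comm h2 hx hy.1))
    fun e => A.flip.j3_graph hσ (hU hx) (e hy) (j3_comm h2 hx hy.1)
  by_cases hb : X ⊓ Na S ≤ N0 S
  · have := c1 inf_le_left hb
    have := card_le_of_le hZ
    rw [A.j3_Z] at this
    omega
  obtain ⟨y, hy, hn⟩ := SetLike.not_le_iff_exists.1 hb
  obtain ⟨τ, q₀, hτ, a1, a2, a3⟩ := fld y hy.1 hy.2 hn
  have e1 := A.j3_fieldZ hτ (hU hy.1) hZ fun z hz => j3_comm h2 hy.1 hz.1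
  have e2 := c2 (Y := X ⊓ Na S) inf_le_left inf_le_right
  rw [a3] at e1
  nlinarith

theorem j3_tA (h3 : E.m = 3) : (∀ x ∈ zpowers t ⊔ AA E S, x * x = 1) ∧
    2 * Nat.card F ^ 2 ≤ Nat.card (zpowers t ⊔ AA E S : Subgroup G) := by
  have A := h.amb
  have le := A.AA_le_U.trans S.U_le_grp
  have n : t ∈ normalizer (AA E S : Set G) := centralizer_le_normalizer _ fun a ha => h.com (le ha)
  rw [sup_comm]
  refine ⟨fun x hx => ?_, ?_⟩
  · rcases UFP.mem_sup_inv h.t2 n hx with e | e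
    · exact A.AA_sq e
    · have e1 := A.AA_sq e
      have e2 := h.com (le e)
      rw [← mul_assoc t, mul_left_inj] at e2
      rwa [mul_assoc x t, ← mul_assoc t, ← e2, mul_assoc, h.t2, mul_one] at e1
  · have := card_sup_inv h.t2 (fun e => h.t_not_mem (le e)) n
    rwa [A.card_AA, h3] at this

theorem nz3 (h3 : E.m = 3) (r : ι) (c : F) : ¬ IsConj t (S.x r c) := by
  intro e
  have A := h.amb
  by_cases c0 : c = 0
  · rw [c0, S.x_zero, isConj_one_left] at e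
    exact h.t1 e
  obtain ⟨l, -, el, -⟩ := A.exists_conj_x r c0
  replace e : IsConj t (S.x E.θ 1) := e.trans (el ▸ b1_conj l _).symm
  have cz : ∀ u ∈ S.U, u * S.x E.θ 1 = S.x E.θ 1 * u := fun u hu =>
    mul_inv_eq_iff_eq_mul.1 (A.vec_cZ' hu (S.x_mem_X _ _))
  obtain ⟨g, hg, hn⟩ := h.exists_cj e (b1_pg A.pg_U h.t2 fun p hp => h.com (S.U_le_grp hp))
    (sup_le (zpowers_le.2 (mem_centralizer_singleton_iff.2 (h.com (S.x_mem_grp _ _)).symm))
      fun u hu => mem_centralizer_singleton_iff.2 (cz u hu))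
  have h' := h.cj g
  rw [hg] at h'
  generalize SLA.cj S g = T at hn h'
  have key : ∀ {E' : ER Φ}, Sit E' S t → E'.m = 3 → E'.θ = E.θ → ∀ a ∈ AA E' S,
      a ∈ T.grp ∨ a * S.x E.θ 1 ∈ T.grp := fun {E'} k k3 kθ a ha => by
    refine UFP.mem_sup_inv h'.t2 (aa_CL_le h'.tC) ?_
    rw [sup_comm]
    rcases h'.j3 h3 (mem_sup_right (kθ ▸ S.x_mem_UU E'.lo_θ 1)) (k.j3_tA k3).1
      ((sup_le_sup_left k.amb.AA_le_U _).trans hn) (k.j3_tA k3).2 with e | e
    · exact sup_le_sup_left (h'.amb.AA_le_U.trans T.U_le_grp) _ (e.le (mem_sup_right ha))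
    · exact sup_le_sup_left (h'.amb.flip.AA_le_U.trans T.U_le_grp) _ (e.le (mem_sup_right ha))
  have e1 := A.rel.cm _ _ _ E.hβ 1 1
  have ca := cz _ (A.AA_le_U (S.x_mem_UU E.lo_α 1))
  have cb := cz _ (S.x_mem_U E.pos_β 1)
  have ka := key h h3 rfl _ (S.x_mem_UU E.lo_α 1)
  have kb := key h.flip h3 rfl (S.x E.β 1) (AA_flip E S ▸ S.x_mem_UU E.hi_β 1)
  rw [mul_one] at e1
  apply h'.t_not_mem
  generalize S.x E.α 1 = a, S.x E.β 1 = b, S.x E.θ 1 = z at e1 ca cb ka kb ⊢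
  have cm : ∀ {a b : G}, a ∈ T.grp → b ∈ T.grp → a * b * a⁻¹ * b⁻¹ ∈ T.grp := fun ha hb =>
    mul_mem (mul_mem (mul_mem ha hb) (inv_mem ha)) (inv_mem hb)
  have e2 : a * z * b * (a * z)⁻¹ = a * b * a⁻¹ := by rw [mul_assoc a, ← cb]; group
  have e3 : ∀ x : G, x * (b * z) * a⁻¹ * (b * z)⁻¹ = x * b * a⁻¹ * b⁻¹ := fun x => by
    rw [mul_assoc x, mul_assoc b, (Commute.inv_left ca).eq.symm]; group
  rcases ka with ka | ka <;> rcases kb with kb | kb <;> have := cm ka kb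
  · rwa [e1] at this
  · rwa [e3, e1] at this
  · rwa [e2, e1] at this
  · rwa [show a * z * (b * z) * (a * z)⁻¹ = a * (b * z) * a⁻¹ by
      rw [mul_assoc a, ← mul_assoc z, ← cb]; group, e3, e1] at this

theorem sw3a (h3 : E.m = 3) {g : G} (hg : g * t * g⁻¹ = t * S.x E.θ 1)
    (hn : zpowers t ⊔ S.U ≤ normalizer ((SLA.cj S g).U : Set G)) : AA E S ≤ (SLA.cj S g).U := by
  have A := h.amb
  have h' := h.cj g
  have cs : IsConj t (g * t * g⁻¹) := b1_conj g t
  have cz : IsConj t ((SLA.cj S g).x E.θ 1 * (g * t * g⁻¹)) := by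
    rw [cj_x, conj_mul, h.com (S.x_mem_grp _ _), ← hg]
    exact cs.trans (b1_conj g _)
  have ms : g * t * g⁻¹ ∈ zpowers t ⊔ AA E S :=
    hg ▸ mul_mem_sup (mem_zpowers t) (S.x_mem_UU E.lo_θ 1)
  generalize SLA.cj S g = T, g * t * g⁻¹ = s at hn h' cs cz ms
  have key : ∀ {E' : ER Φ}, Sit E' T s → E'.θ = E.θ → zpowers t ⊔ AA E S = zpowers s ⊔ AA E' T →
      AA E S ≤ T.U := fun {E'} k kθ e a ha => by
    have le := k.amb.AA_le_U
    have m := e.le (mem_sup_right ha)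
    rw [sup_comm] at m
    rcases UFP.mem_sup_inv k.t2 (centralizer_le_normalizer _ fun a ha =>
      k.com (T.U_le_grp (le ha))) m with m | m
    · exact le m
    have ca : IsConj t a := by
      by_cases e1 : a * s = 1
      · rwa [eq_inv_of_mul_eq_one_left e1, inv_eq_of_mul_eq_one_right k.t2]
      · obtain ⟨l, hl, -, el⟩ := k.amb.AA_conj m e1
        refine cz.trans (isConj_iff.2 ⟨l, ?_⟩)
        rw [← conj_mul, ← kθ, el, k.com hl, mul_inv_cancel_right, mul_assoc, k.t2, mul_one]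
    by_cases a1 : a = 1
    · rw [a1]; exact one_mem _
    · obtain ⟨l, -, -, el⟩ := A.AA_conj ha a1
      exact (h.nz3 h3 E.θ 1 (ca.trans (el ▸ b1_conj l _).symm)).elim
  exact (h'.j3 h3 ms (h.j3_tA h3).1 ((sup_le_sup_left A.AA_le_U _).trans hn) (h.j3_tA h3).2).elim
    (key h' rfl) (key h'.flip rfl)

/-- a conjugate `t z` of `t` whose Sylow subgroup is normalised by `U` -/
theorem sw3 (h3 : E.m = 3) {g : G} (hg : g * t * g⁻¹ = t * S.x E.θ 1)
    (hn : zpowers t ⊔ S.U ≤ normalizer ((SLA.cj S g).U : Set G)) : (SLA.cj S g).U = S.U :=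
  (eq_of_le_of_card_ge (h.amb.AA_sup h3 ▸ sup_le (h.sw3a h3 hg hn) (h.flip.sw3a h3 hg hn))
    (by rw [h.amb.card_U, (h.amb.cj g).card_U])).symm

end Sit

end CfsgLib.SLA
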