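import Mathlib
import Cfsg.Agent.Lib.SLA.Cen

/-!
# The module `V = Q / Z`
-/

set_option autoImplicit false
set_option linter.unusedSectionVars false

namespace CfsgLib.SLA

open CfsgLib.RGD CfsgLib.Stein Subgroup
open scoped commutatorElement Pointwise

universe u

variable {ι κ : Type} [Fintype κ] [DecidableEq κ] [Finite ι] {Φ : RootSys ι κ} {E : ER Φ}
  {F : Type} [Field F] [Finite F] [CharP F 2] {G : Type u} [Group G] [Finite G]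
  {S : StSys Φ F G}

open Classical in
/-- the commutator form on `Q` -/
noncomputable def bf (E : ER Φ) (S : StSys Φ F G) (u v : G) : F :=
  cf S (u * v * u⁻¹ * v⁻¹) E.θ

theorem vec_ne {r : ι} (h : ip Φ r E.θ = 1) : r ∉ ({E.θ} : Set ι) := fun e => by
  rw [Set.mem_singleton_iff.1 e, E.ip_self] at h
  omega

theorem vec_one {r : ι} (h : r ∈ {r | 1 ≤ ip Φ r E.θ}) (h' : r ∉ ({E.θ} : Set ι)) :
    ip Φ r E.θ = 1 := by
  by_contra e
  have h : 1 ≤ ip Φ r E.θ := h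
  exact h' (E.eq_of_ip (r := r) (by omega)).symm

theorem vec_mem {r : ι} (h : ip Φ r E.θ = 1) : r ∈ {r | 1 ≤ ip Φ r E.θ} := h.ge

theorem vec_stab {a : ι} (ha : ip Φ a E.θ = 0) :
    Stab Φ a {r | 1 ≤ ip Φ r E.θ} ∧ Stab Φ a {E.θ} := by
  refine ⟨⟨fun h => ?_, fun s hs k hk => ?_⟩, fun h => ?_, fun s hs k hk => ?_⟩
  · have h : 1 ≤ ip Φ (Φ.neg a) E.θ := h
    rw [ip_neg_left] at h
    omega
  · have hs : 1 ≤ ip Φ s E.θ := hs
    show 1 ≤ ip Φ k E.θ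
    rw [hk.ip_left]
    omega
  · have := E.ip_self E.θ
    rw [← Set.mem_singleton_iff.1 h, ip_neg_left, Set.mem_singleton_iff.1 h] at this
    omega
  · have := (E.radd_ip hk).1
    rw [Set.mem_singleton_iff.1 hs, ip_comm] at this
    omega

theorem vec_top {i : κ} (h : i ≠ E.i₀) (h' : i ≠ E.i₁) : ip Φ (Φ.simple i) E.θ = 0 := by
  rw [E.top, if_neg (not_or.2 ⟨h, h'⟩)]

namespace Amb

variable (A : Amb E S)
include A

theorem lay_Q : Lay Φ {r | 1 ≤ ip Φ r E.θ} {E.θ} := by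
  refine ⟨fun r hr => E.pos_of_θ hr, fun r hr => ?_, fun a ha b hb k hk => ?_⟩
  · show 1 ≤ ip Φ r E.θ
    rw [Set.mem_singleton_iff.1 hr, E.ip_self]
    omega
  · have ha : 1 ≤ ip Φ a E.θ := ha
    have hb : 1 ≤ ip Φ b E.θ := hb
    exact (E.eq_of_ip (r := k) (by rw [hk.ip_left]; omega)).symm

theorem Z_le_Q : S.X E.θ ≤ Q S E.θ := S.UU_mono A.lay_Q.sub

theorem vec_mul {u v : G} (hu : u ∈ Q S E.θ) (hv : v ∈ Q S E.θ) {r : ι} (hr : ip Φ r E.θ = 1) :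
    cf S (u * v) r = cf S u r + cf S v r := A.cf_mul A.lay_Q hu hv (vec_ne hr)

theorem vec_mem_Z {u v : G} (hu : u ∈ Q S E.θ) (hv : v ∈ Q S E.θ)
    (h : ∀ r, ip Φ r E.θ = 1 → cf S u r = cf S v r) : u * v⁻¹ ∈ S.X E.θ :=
  A.mul_inv_mem A.lay_Q hu hv fun r h1 h2 => h r (vec_one h1 h2)

theorem vec_Q_le_Y : Q S E.θ ≤ Y S E.θ := A.Q_le_U.trans A.U_le_Y

theorem vec_cZ {y z : G} (hy : y ∈ Y S E.θ) (hz : z ∈ S.X E.θ) : y * z * y⁻¹ = z :=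
  mul_inv_eq_iff_eq_mul.2 (mem_centralizer_iff.1 (A.Y_le_cent _ hy) z hz).symm

theorem vec_conj {y v : G} (hy : y ∈ Y S E.θ) (hv : v ∈ Q S E.θ) : y * v * y⁻¹ ∈ Q S E.θ :=
  (mem_normalizer_iff.1 (A.Y_norm_Q _ hy) v).1 hv

theorem comm_Q {u v : G} (hu : u ∈ Q S E.θ) (hv : v ∈ Q S E.θ) :
    u * v * u⁻¹ * v⁻¹ = S.x E.θ (bf E S u v) := by
  have := A.vec_mem_Z (mul_mem hu hv) (mul_mem hv hu) fun r hr => by
    rw [A.vec_mul hu hv hr, A.vec_mul hv hu hr, add_comm]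
  rw [mul_inv_rev, ← mul_assoc] at this
  obtain ⟨c, e⟩ := S.mem_X_iff.1 this
  rw [bf, e, A.cf_x_self E.pos_θ]

theorem sq_Q {u : G} (hu : u ∈ Q S E.θ) : u * u ∈ S.X E.θ := by
  have := A.vec_mem_Z hu (inv_mem hu) fun r hr => (A.cf_inv A.lay_Q hu (vec_ne hr)).symm
  rwa [inv_inv] at this

theorem center_Q {u : G} (hu : u ∈ Q S E.θ) (h : ∀ v ∈ Q S E.θ, u * v = v * u) : u ∈ S.X E.θ :=
  A.mem_Z_of_Q (A.Q_le_U hu) fun _ hr => h _ (S.x_mem_UU hr 1)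

theorem mem_Z_iff {u : G} (hu : u ∈ Q S E.θ) :
    u ∈ S.X E.θ ↔ ∀ r, ip Φ r E.θ = 1 → cf S u r = 0 := by
  refine ⟨fun h r hr => A.cf_eq_zero (StSys.closed_singleton _)
    (fun r hr => Set.mem_singleton_iff.1 hr ▸ E.pos_θ) h (vec_ne hr), fun h => ?_⟩
  simpa using A.vec_mem_Z hu (one_mem _) fun r hr => by rw [h r hr, A.cf_one]

theorem congr_iff {u v : G} (hu : u ∈ Q S E.θ) (hv : v ∈ Q S E.θ) :
    u * v⁻¹ ∈ S.X E.θ ↔ ∀ r, ip Φ r E.θ = 1 → cf S u r = cf S v r := by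
  refine ⟨fun h r hr => ?_, A.vec_mem_Z hu hv⟩
  have := A.vec_mul (A.Z_le_Q h) hv hr
  rwa [inv_mul_cancel_right, (A.mem_Z_iff (A.Z_le_Q h)).1 h r hr, zero_add] at this

theorem bf_mul_left {u u' v : G} (hu : u ∈ Q S E.θ) (hu' : u' ∈ Q S E.θ) (hv : v ∈ Q S E.θ) :
    bf E S (u * u') v = bf E S u v + bf E S u' v := by
  refine A.nd.x_injective E.θ ?_
  rw [← A.comm_Q (mul_mem hu hu') hv, add_comm, S.x_add,
    ← A.vec_cZ (A.vec_Q_le_Y hu) (S.x_mem_X E.θ (bf E S u' v)), ← A.comm_Q hu hv,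
    ← A.comm_Q hu' hv]
  group

theorem bf_comm {u v : G} (hu : u ∈ Q S E.θ) (hv : v ∈ Q S E.θ) : bf E S u v = bf E S v u := by
  refine A.nd.x_injective E.θ ?_
  rw [← A.x_inv E.θ (bf E S v u), ← A.comm_Q hu hv, ← A.comm_Q hv hu]
  group

theorem vec_bf_zero {u v : G} (h : u * v = v * u) : bf E S u v = 0 := by
  rw [bf, h, mul_inv_cancel_right, mul_inv_cancel, A.cf_one]

theorem bf_x {a b : ι} (h : RAdd Φ a b E.θ) {u : G} (hu : u ∈ Q S E.θ) (c : F) :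
    bf E S u (S.x b c) = c * cf S u a := by
  obtain ⟨-, ha, hb⟩ := E.radd_ip h
  have hx : S.x b c ∈ Q S E.θ := S.x_mem_UU (vec_mem hb) c
  refine S.UU_induction (p := fun u => bf E S u (S.x b c) = c * cf S u a) ?_ ?_ hu
  · rw [A.vec_bf_zero (by simp), A.cf_one, mul_zero]
  intro r hr t g hg ih
  have hr' : S.x r t ∈ Q S E.θ := S.x_mem_UU hr t
  rw [A.bf_mul_left hg hr' hx, A.vec_mul hg hr' ha, ih, mul_add]
  congr 1
  by_cases e : r = a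
  · subst e
    rw [bf, A.rel.cm _ _ _ h, A.cf_x_self E.pos_θ, A.cf_x_self (E.pos_of_θ hr), mul_comm]
  rw [A.cf_x_ne (E.pos_of_θ hr) (Ne.symm e), mul_zero]
  refine A.vec_bf_zero (A.com ?_ _ _)
  by_contra h0
  rcases E.ip_cases r b with ⟨-, e'⟩ | e' | e' | e' | ⟨e', -⟩
  · omega
  · omega
  · omega
  · obtain ⟨k, hk⟩ := E.exists_add e'
    have := Set.mem_singleton_iff.1 (A.lay_Q.add r hr b (vec_mem hb) k hk)
    exact e ((this ▸ hk).symm.unique h.symm)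
  · exact Φ.ne_neg_of_pos (E.pos_of_θ hr) (E.pos_of_θ hb.ge) e'

/-- every family of coordinates occurs -/
theorem exists_Q (t : ι → F) : ∃ v ∈ Q S E.θ, ∀ r, ip Φ r E.θ = 1 → cf S v r = t r := by
  obtain ⟨L, hL, m⟩ := StSys.exists_list {r | 1 ≤ ip Φ r E.θ}
  exact ⟨S.xprod L t, S.xprod_mem_UU (fun r hr => (m r).1 hr) t, fun r hr =>
    (A.cf_xprod A.lay_Q hL (fun r hr => (m r).1 hr) t (vec_ne hr)).1 ((m r).2 (vec_mem hr))⟩

/-- the action of a root element orthogonal to `θ` on `V` -/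
theorem cf_V {a : ι} (ha : ip Φ a E.θ = 0) (c : F) {u : G} (hu : u ∈ Q S E.θ) {k : ι}
    (hk : ip Φ k E.θ = 1) :
    (∀ s, RAdd Φ s a k → cf S (S.x a c * u * (S.x a c)⁻¹) k = cf S u k + c * cf S u s) ∧
      (ip Φ k a ≠ 1 → cf S (S.x a c * u * (S.x a c)⁻¹) k = cf S u k) :=
  ⟨fun _ hs => A.cf_conj_add A.lay_Q (vec_stab ha).1 (vec_stab ha).2 c hu hs (vec_ne hk),
    fun h => A.cf_conj_fix A.lay_Q (vec_stab ha).1 (vec_stab ha).2 c hu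
      (fun _ _ e => h (by rw [ip_comm]; exact (E.radd_ip e).2.2)) (vec_ne hk)⟩

/-- an element of `Q` which is fixed modulo `Z` by `x_a(1)` -/
theorem cf_eq_zero_of_fix {a : ι} (ha : ip Φ a E.θ = 0) {u : G} (hu : u ∈ Q S E.θ)
    (h : S.x a 1 * u * (S.x a 1)⁻¹ * u⁻¹ ∈ S.X E.θ) {s : ι} (hs : ip Φ s E.θ = 1)
    (h1 : ip Φ s a = -1) : cf S u s = 0 := by
  obtain ⟨k, hk⟩ := E.exists_add h1
  have k1 : ip Φ k E.θ = 1 := by rw [hk.ip_left, hs, ha, add_zero]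
  have := (A.congr_iff (A.x_conj_mem (vec_stab ha).1 1 hu) hu).1 h k k1
  rw [(A.cf_V ha 1 hu k1).1 s hk, one_mul] at this
  exact add_eq_left.1 this

/-- the action of the torus on `V` -/
theorem cf_H {a : G} {d : ι → F} (ha : ∀ r c, a * S.x r c * a⁻¹ = S.x r (d r * c)) {v : G} (hv : v ∈ Q S E.θ)
    {r : ι} (hr : ip Φ r E.θ = 1) : cf S (a * v * a⁻¹) r = d r * cf S v r := by
  have hg : ∀ u ∈ Q S E.θ, a * u * a⁻¹ ∈ Q S E.θ := fun u hu =>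
    S.UU_induction (p := fun u => a * u * a⁻¹ ∈ Q S E.θ) (by simp) (fun s hs t g _ ih => by
      rw [← conj_mul, ha]; exact mul_mem ih (S.x_mem_UU hs _)) hu
  refine A.eq_of_add (f := fun v => cf S (a * v * a⁻¹) r) (g := fun v => d r * cf S v r)
    (A.cf_conj_mul A.lay_Q hg (vec_ne hr)) (fun u hu v hv => by rw [A.vec_mul hu hv hr, mul_add])
    (fun s hs c => ?_) hv
  rw [ha]
  by_cases e : r = s
  · rw [e, A.cf_x_self (E.pos_of_θ hs), A.cf_x_self (E.pos_of_θ hs)]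
  · rw [A.cf_x_ne (E.pos_of_θ hs) e, A.cf_x_ne (E.pos_of_θ hs) e, mul_zero]

theorem bf_mul_right {u v v' : G} (hu : u ∈ Q S E.θ) (hv : v ∈ Q S E.θ) (hv' : v' ∈ Q S E.θ) :
    bf E S u (v * v') = bf E S u v + bf E S u v' := by
  rw [A.bf_comm hu (mul_mem hv hv'), A.bf_mul_left hv hv' hu, A.bf_comm hu hv, A.bf_comm hu hv']

theorem vec_comm_of_bf {u v : G} (hu : u ∈ Q S E.θ) (hv : v ∈ Q S E.θ) (h : bf E S u v = 0) : u * v = v * u := by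
  have := A.comm_Q hu hv
  rwa [h, S.x_zero, mul_inv_eq_one, mul_inv_eq_iff_eq_mul] at this

/-- the commutator form in coordinates -/
theorem bf_congr {u u' v : G} (hu : u ∈ Q S E.θ) (hu' : u' ∈ Q S E.θ) (hv : v ∈ Q S E.θ) (μ : F)
    (h : ∀ r, ip Φ r E.θ = 1 → cf S u' r = μ * cf S u r) : bf E S u' v = μ * bf E S u v := by
  refine A.eq_of_add (f := fun v => bf E S u' v) (g := fun v => μ * bf E S u v)
    (fun a ha b hb => A.bf_mul_right hu' ha hb) (fun a ha b hb => by rw [A.bf_mul_right hu ha hb, mul_add])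
    (fun s hs c => ?_) hv
  by_cases e : s ∈ ({E.θ} : Set ι)
  · have hz : S.x s c ∈ S.X E.θ := S.x_mem_UU e c
    rw [A.vec_bf_zero (mul_inv_eq_iff_eq_mul.1 (A.vec_cZ (A.vec_Q_le_Y hu) hz)),
      A.vec_bf_zero (mul_inv_eq_iff_eq_mul.1 (A.vec_cZ (A.vec_Q_le_Y hu') hz)), mul_zero]
  · obtain ⟨b, hb⟩ := E.exists_sub (vec_one hs e)
    rw [A.bf_x hb.symm hu', A.bf_x hb.symm hu, h b (E.radd_ip hb).2.2, mul_left_comm]

/-- **Schur**: an automorphism of `Q / Z` which fixes all perps is a scalar -/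
theorem scalar {k : G} (h1 : k ∈ normalizer (Q S E.θ : Set G)) (h2 : k ∈ normalizer (S.X E.θ : Set G))
    (h3 : ∀ v ∈ Q S E.θ, ∀ w ∈ Q S E.θ, w * v = v * w → w * (k * v * k⁻¹) = k * v * k⁻¹ * w) :
    ∃ μ : F, μ ≠ 0 ∧
      (∀ v ∈ Q S E.θ, ∀ r, ip Φ r E.θ = 1 → cf S (k * v * k⁻¹) r = μ * cf S v r) ∧
      ∀ c, k * S.x E.θ c * k⁻¹ = S.x E.θ (μ ^ 2 * c) := by
  have fQ : ∀ {v}, v ∈ Q S E.θ → k * v * k⁻¹ ∈ Q S E.θ := fun hv => (mem_normalizer_iff.1 h1 _).1 hv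
  have xQ : ∀ {r : ι}, ip Φ r E.θ = 1 → ∀ c, S.x r c ∈ Q S E.θ := fun hr c => S.x_mem_UU (vec_mem hr) c
  have key : ∀ v ∈ Q S E.θ, ∀ r s, ip Φ r E.θ = 1 → ip Φ s E.θ = 1 → ∀ e c, e * cf S v r + c * cf S v s = 0 →
      e * cf S (k * v * k⁻¹) r + c * cf S (k * v * k⁻¹) s = 0 := fun v hv r s hr hs e c h => by
    obtain ⟨a, ha⟩ := E.exists_sub hr
    obtain ⟨b, hb⟩ := E.exists_sub hs
    have m1 := xQ (E.radd_ip ha).2.2 e
    have m2 := xQ (E.radd_ip hb).2.2 c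
    have f : ∀ u ∈ Q S E.θ, bf E S u (S.x a e * S.x b c) = e * cf S u r + c * cf S u s := fun u hu => by
      rw [A.bf_mul_right hu m1 m2, A.bf_x ha hu, A.bf_x hb hu]
    rw [← f _ (fQ hv)]
    exact A.vec_bf_zero (h3 v hv _ (mul_mem m1 m2) (A.vec_comm_of_bf hv (mul_mem m1 m2) ((f v hv).trans h)).symm).symm
  have dep : ∀ v ∈ Q S E.θ, ∀ w ∈ Q S E.θ, ∀ r, ip Φ r E.θ = 1 → cf S v r = cf S w r →
      cf S (k * v * k⁻¹) r = cf S (k * w * k⁻¹) r := fun v hv w hw r hr e => by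
    have := key _ (mul_mem hv hw) r r hr hr 1 0 (by
      rw [A.vec_mul hv hw hr, e, CharTwo.add_self_eq_zero, mul_zero, mul_zero, add_zero])
    rwa [zero_mul, add_zero, one_mul, ← conj_mul, A.vec_mul (fQ hv) (fQ hw) hr, CharTwo.add_eq_zero] at this
  have two : ∀ v ∈ Q S E.θ, ∀ r s, ip Φ r E.θ = 1 → ip Φ s E.θ = 1 →
      cf S v s * cf S (k * v * k⁻¹) r = cf S v r * cf S (k * v * k⁻¹) s := fun v hv r s hr hs =>
    CharTwo.add_eq_zero.1 (key v hv r s hr hs _ _ (by rw [mul_comm, CharTwo.add_self_eq_zero]))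
  obtain ⟨v₁, m₁, e₁⟩ := A.exists_Q fun _ => 1
  have main : ∀ v ∈ Q S E.θ, ∀ r, ip Φ r E.θ = 1 →
      cf S (k * v * k⁻¹) r = cf S (k * v₁ * k⁻¹) E.α * cf S v r := fun v hv r hr => by
    classical
    obtain ⟨s, hs, ne⟩ : ∃ s, ip Φ s E.θ = 1 ∧ s ≠ r := by
      by_cases e : E.α = r
      · refine ⟨E.β, E.ip_βθ, fun e' => ?_⟩
        have := E.ip_αβ
        rw [e, e', E.ip_self] at this
        exact absurd this (by decide)
      · exact ⟨E.α, E.ip_αθ, e⟩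
    obtain ⟨w, hw, ew⟩ := A.exists_Q fun t => if t = s then 1 else cf S v r
    have a1 : cf S w s = 1 := by rw [ew s hs, if_pos rfl]
    have a2 : cf S w r = cf S v r := by rw [ew r hr, if_neg ne.symm]
    have a3 := two w hw r s hr hs
    have a4 := two v₁ m₁ s E.α hs E.ip_αθ
    rw [e₁ _ hs, e₁ _ E.ip_αθ, one_mul, one_mul] at a4
    rw [a1, one_mul, a2, dep w hw v hv r hr a2, dep w hw v₁ m₁ s hs (a1.trans (e₁ s hs).symm), a4] at a3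
    rw [a3, mul_comm]
  refine ⟨_, fun e => ?_, main, fun c => ?_⟩
  · have := (A.mem_Z_iff (xQ E.ip_βθ 1)).1 ((mem_normalizer_iff.1 h2 _).2
      ((A.mem_Z_iff (fQ (xQ E.ip_βθ 1))).2 fun r hr => by
        rw [main _ (xQ E.ip_βθ 1) r hr, e, zero_mul])) _ E.ip_βθ
    rw [A.cf_x_self E.pos_β] at this
    exact one_ne_zero this
  have u0 := xQ E.ip_αθ c
  have v0 := xQ E.ip_βθ 1
  have e1 : k * S.x E.θ c * k⁻¹ = k * S.x E.α c * k⁻¹ * (k * S.x E.β 1 * k⁻¹) *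
      (k * S.x E.α c * k⁻¹)⁻¹ * (k * S.x E.β 1 * k⁻¹)⁻¹ := by
    have := A.rel.cm _ _ _ E.hβ c 1
    rw [mul_one] at this
    rw [← this]
    group
  rw [e1, A.comm_Q (fQ u0) (fQ v0), A.bf_congr u0 (fQ u0) (fQ v0) _ (main _ u0), A.bf_comm u0 (fQ v0),
    A.bf_congr v0 (fQ v0) u0 _ (main _ v0), A.bf_x E.hβ.symm v0, A.cf_x_self E.pos_β, mul_one, pow_two,
    mul_assoc _ _ c]

/-- the action of `h_θ(μ)` -/
theorem h_θ {μ : F} (hμ : μ ≠ 0) :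
    (∀ v ∈ Q S E.θ, ∀ r, ip Φ r E.θ = 1 → cf S (S.h E.θ μ * v * (S.h E.θ μ)⁻¹) r = μ * cf S v r) ∧
      ∀ v ∈ Q S E.θ, ∀ w ∈ Q S E.θ, w * v = v * w →
        w * (S.h E.θ μ * v * (S.h E.θ μ)⁻¹) = S.h E.θ μ * v * (S.h E.θ μ)⁻¹ * w := by
  have a : ∀ v ∈ Q S E.θ, ∀ r, ip Φ r E.θ = 1 → cf S (S.h E.θ μ * v * (S.h E.θ μ)⁻¹) r = μ * cf S v r :=
    fun v hv r hr => by
      rw [A.cf_H (d := fun r => μ ^ ip Φ E.θ r) (fun r c => A.h_conj E.θ r hμ c) hv hr, ip_comm, hr, zpow_one]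
  refine ⟨a, fun v hv w hw e => ?_⟩
  have m : S.h E.θ μ * v * (S.h E.θ μ)⁻¹ ∈ Q S E.θ :=
    S.UU_induction (p := fun u => S.h E.θ μ * u * (S.h E.θ μ)⁻¹ ∈ Q S E.θ) (by simp) (fun s hs t g _ ih => by
      rw [← conj_mul, A.h_conj E.θ s hμ]; exact mul_mem ih (S.x_mem_UU hs _)) hv
  exact (A.vec_comm_of_bf m hw (by rw [A.bf_congr hv m hw μ (a v hv), A.vec_bf_zero e.symm, mul_zero])).symm

end Amb

end CfsgLib.SLA
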