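import Mathlib
import Cfsg.Agent.Lib.SLA.Vec
import Cfsg.Agent.Lib.SLA.Lev
import Cfsg.Agent.Lib.SLA.J3

/-!
# An element interchanging `t` and `t z`
-/

set_option autoImplicit false
set_option linter.unusedSectionVars false

namespace CfsgLib.SLA

open CfsgLib.RGD CfsgLib.Stein Subgroup
open scoped commutatorElement Pointwise

universe u

variable {ι κ : Type} [Fintype κ] [DecidableEq κ] [Finite ι] {Φ : RootSys ι κ} {E : ER Φ}
  {F : Type} [Field F] [Finite F] [CharP F 2] {G : Type u} [Group G] [Finite G]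
  {S : StSys Φ F G}

theorem CO.of_mem {t l : G} (hl : l ∈ S.grp) : CO S t l :=
  fun _ ho _ _ => mem_centralizer_iff.1 ho l hl

theorem CO.mul {t g g' : G} (h : CO S t g) (h' : CO S t g') : CO S t (g * g') :=
  fun o h1 h2 h3 => by rw [mul_assoc, h' o h1 h2 h3, ← mul_assoc, h o h1 h2 h3, mul_assoc]

theorem CO.inv {t g : G} (h : CO S t g) : CO S t g⁻¹ :=
  fun o h1 h2 h3 => (Commute.inv_left (h o h1 h2 h3)).eq

theorem a1_mem_cj {p x : G} {T : Set ι} (hx : x ∈ S.UU T) : p * x * p⁻¹ ∈ (cj S p).UU T :=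
  mem_cj_UU.2 (by simpa [mul_assoc] using hx)

theorem Amb.a1_sq (A : Amb E S) {g k : G} {r : ι} {c : F} (hk : k ∈ CL S) (e : g = S.x r c * k) :
    g * g ∈ CL S := by
  have := mem_centralizer_iff.1 hk _ (S.x_mem_grp r c)
  rw [e, mul_assoc, ← mul_assoc k, ← this, ← mul_assoc, ← mul_assoc, A.x_sq, one_mul]
  exact mul_mem hk hk

theorem Amb.a1_norm_Z (A : Amb E S) {p : G} (hp : p ∈ normalizer (S.U : Set G)) :
    p ∈ normalizer (S.X E.θ : Set G) := by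
  rw [← A.center_U]
  exact LAE.le_normalizer_inf le_rfl (LAE.normalizer_le_normalizer_centralizer _) hp

namespace Sit

variable {t : G} (h : Sit E S t)
include h

theorem a1_NL {p g : G} {c : F} (pt : p * t * p⁻¹ = t * S.x E.θ c) (h1 : g * t = t * g)
    (h2 : g * S.x E.θ c = S.x E.θ c * g) : g ∈ NL (SLA.cj S p) :=
  (h.cj p).CN (mem_centralizer_singleton_iff.2 (by
    rw [pt, ← mul_assoc, h1, mul_assoc, h2, mul_assoc]))

/-- an element moving `t` inside `t Z` and normalising `Z` normalises `Y` and `Q` -/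
theorem norm_of_swap {p : G} {c : F} (hc : c ≠ 0) (pt : p * t * p⁻¹ = t * S.x E.θ c)
    (pZ : p ∈ normalizer (S.X E.θ : Set G)) (nU : E.m = 3 → p ∈ normalizer (S.U : Set G)) :
    p ∈ normalizer (Y S E.θ : Set G) ∧
      p ∈ normalizer (Q S E.θ : Set G) ∧ ∀ l ∈ S.grp, CO S t (p * l * p⁻¹) := by
  have h' := h.cj p
  have cz : Y (SLA.cj S p) E.θ ≤ centralizer {S.x E.θ c} := fun y hy =>
    mem_centralizer_singleton_iff.2 (mem_centralizer_iff.1 (h'.amb.Y_le_cent E.θ hy) _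
      (mem_cj_UU.2 ((mem_normalizer_iff''.1 pZ _).1 (S.x_mem_X _ _)))).symm
  have le : Y (SLA.cj S p) E.θ ≤ Y S E.θ := by
    rcases E.three.eq_or_lt with h3 | h4
    · rw [h'.amb.Y_three h3.symm, h'.amb.Q_three h3.symm]
      exact fun y hy => h.amb.U_le_Y ((mem_normalizer_iff''.1 (nU h3.symm) _).2 (mem_cj_UU.1 hy))
    refine h.amb.pf_le_Y h.cyc (h'.amb.pf_Y h4 _) (fun y hy => h.CN ?_) hc cz
    have e1 := h'.com ((SLA.cj S p).UU_le_grp _ hy)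
    rw [pt, ← mul_assoc, mul_assoc t, ← mem_centralizer_singleton_iff.1 (cz hy), ← mul_assoc] at e1
    exact mem_centralizer_singleton_iff.2 (mul_right_cancel e1)
  have nY : p ∈ normalizer (Y S E.θ : Set G) :=
    mem_normalizer_fintype fun y hy => le (a1_mem_cj hy)
  refine ⟨nY, h.amb.norm_Q_of_Y nY, fun l hl o h1 h2 h3 => ?_⟩
  obtain ⟨c', k, hk, e⟩ := h'.amb.cen_Y E.θ
    (h.a1_NL pt h2 (mem_centralizer_iff.1 h1 _ (S.x_mem_grp _ _)).symm)
    (mem_centralizer_iff.2 fun y hy => mem_centralizer_iff.1 h1 y (S.UU_le_grp _ (le hy)))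
  obtain ⟨m, hm⟩ := h3
  have : o ∈ CL (SLA.cj S p) := by
    have := pow_mem (h'.amb.a1_sq hk e) (m + 1)
    rwa [← pow_two, ← pow_mul, show 2 * (m + 1) = orderOf o + 1 by omega, pow_succ,
      pow_orderOf_eq_one, one_mul] at this
  exact mem_centralizer_iff.1 this _ (a1_mem_cj hl)

theorem exists_sw (hf : IsConj t (t * S.x E.θ 1)) : ∃ p, Sw E S t p := by
  have A := h.amb
  obtain ⟨g, hg, le⟩ : ∃ g, g * t * g⁻¹ = t * S.x E.θ 1 ∧ S.U ≤ (SLA.cj S g).grp := by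
    rcases E.three.eq_or_lt with h3 | h4
    · obtain ⟨g, hg, hn⟩ := h.exists_cj hf (b1_pg A.pg_U h.t2 fun p hp => h.com (S.U_le_grp hp))
        (sup_le (zpowers_le.2 (mem_centralizer_singleton_iff.2 (by
          rw [mul_assoc, h.com (S.x_mem_grp _ _)]))) fun u hu => mem_centralizer_singleton_iff.2 (by
          rw [← mul_assoc, h.com (S.U_le_grp hu), mul_assoc, mul_assoc,
            mem_centralizer_iff.1 (A.Y_le_cent _ (A.U_le_Y hu)) _ (S.x_mem_X _ _)]))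
      exact ⟨g, hg, (h.sw3 h3.symm hg hn).ge.trans (SLA.cj S g).U_le_grp⟩
    · obtain ⟨g, hg⟩ := isConj_iff.1 hf
      have h' := h.cj g
      exact ⟨g, hg, A.U_le_Y.trans (h'.amb.pf_le h'.cyc (A.pf_Y h4 _) fun y hy =>
        h.a1_NL hg (h.com (S.UU_le_grp _ hy))
          (mem_centralizer_iff.1 (A.Y_le_cent _ hy) _ (S.x_mem_X _ _)).symm)⟩
  have h' := h.cj g
  obtain ⟨l, hl, e⟩ := h'.amb.eq_cj_U A.pg_U le A.card_U.ge
  rw [cj_cj] at e
  have nU : l * g ∈ normalizer (S.U : Set G) :=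
    mem_normalizer_fintype fun u hu => e.ge (a1_mem_cj hu)
  have nZ := A.a1_norm_Z nU
  obtain ⟨c, ec⟩ := S.mem_X_iff.1 ((mem_normalizer_iff''.1 nZ _).1 (S.x_mem_X E.θ 1))
  have c0 : c ≠ 0 := fun e => by
    rw [e, S.x_zero, mul_assoc, inv_mul_eq_one, eq_comm, mul_eq_right, A.x_eq_one] at ec
    exact one_ne_zero ec
  have pt : l * g * S.h E.α c * t * (l * g * S.h E.α c)⁻¹ = t * S.x E.θ 1 := by
    calc _ = l * (g * (S.h E.α c * t) * (S.h E.α c)⁻¹ * g⁻¹) * l⁻¹ := by group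
      _ = l * (g * t * g⁻¹) * l⁻¹ := by rw [h.com (S.h_mem_grp _ _)]; group
      _ = _ := by rw [h'.com hl, mul_inv_cancel_right, hg]
  have nU' := mul_mem nU (S.H_le_normalizer_UU _ (S.h_mem_H E.α c0))
  obtain ⟨nY, nQ, nO⟩ := h.norm_of_swap one_ne_zero pt (A.a1_norm_Z nU') fun _ => nU'
  refine ⟨_, pt, ?_, nU', nY, nQ, nO⟩
  have := A.h_conj E.α E.θ c0 1
  rw [E.ip_αθ, zpow_one, mul_one, ← ec] at this
  calc _ = l * g * (S.h E.α c * S.x E.θ 1 * (S.h E.α c)⁻¹) * (l * g)⁻¹ := by group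
    _ = _ := by rw [this]; group

theorem sw_Z {p : G} (hp : Sw E S t p) : p ∈ normalizer (S.X E.θ : Set G) :=
  h.amb.a1_norm_Z hp.nU

theorem two_of_sw {p : G} (hp : Sw E S t p) : Two S := by
  refine h.two_of fun c hc e => ?_
  have h' := h.cj p
  obtain ⟨c', k, hk, e'⟩ := h'.amb.cen_U
    (h.a1_NL hp.pt (by rw [← e, mul_assoc]) (mem_centralizer_iff.1 hc _ (S.x_mem_grp _ _)).symm)
    (mem_centralizer_iff.2 fun u hu => mem_centralizer_iff.1 hc u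
      (S.U_le_grp ((mem_normalizer_iff''.1 hp.nU _).2 (mem_cj_UU.1 hu))))
  rcases h'.eq_t (e ▸ h'.amb.a1_sq hk e') h.t2 (by
    rw [hp.pt, mul_assoc, h.com (S.x_mem_grp _ _)]) with e1 | e1
  · exact h.t1 e1
  · rw [hp.pt, left_eq_mul, h.amb.x_eq_one] at e1
    exact one_ne_zero e1

/-- the case `q > 2` -/
theorem tv_of_sw (hq : 2 < Nat.card F) {p : G} (hp : Sw E S t p) : ∃ p', Tv E S t p' := by
  have A := h.amb
  obtain ⟨l, l0, l1⟩ : ∃ l : F, l ≠ 0 ∧ l ≠ 1 := by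
    by_contra! hc
    refine hq.ne' ((Nat.card_eq_two_iff' (0 : F)).2 ⟨1, one_ne_zero, hc⟩)
  have nH : ∀ {c : F}, c ≠ 0 → ∀ T, S.h E.θ c ∈ normalizer (S.UU T : Set G) := fun hc T =>
    S.H_le_normalizer_UU _ (S.h_mem_H E.θ hc)
  have hZ : ∀ {c : F}, c ≠ 0 → ∀ u, S.h E.θ c * S.x E.θ u * (S.h E.θ c)⁻¹ = S.x E.θ (c ^ 2 * u) :=
    fun hc u => by rw [A.h_conj _ _ hc, E.ip_self]; norm_cast
  obtain ⟨k, ek⟩ : ∃ k, k = p * S.h E.θ l * p⁻¹ := ⟨_, rfl⟩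
  have kn : ∀ T, p ∈ normalizer (S.UU T : Set G) → k ∈ normalizer (S.UU T : Set G) :=
    fun T hT => ek ▸ mul_mem (mul_mem hT (nH l0 T)) (inv_mem hT)
  obtain ⟨μ, μ0, m1, m2⟩ := A.scalar (kn _ hp.nQ) (kn _ (h.sw_Z hp)) fun v hv w hw e => by
    have := (A.h_θ l0).2 _ ((mem_normalizer_iff''.1 hp.nQ _).1 hv) _
      ((mem_normalizer_iff''.1 hp.nQ _).1 hw) (by
        calc _ = p⁻¹ * (w * v) * p := by group
          _ = _ := by rw [e]; group)
    rw [ek]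
    calc _ = p * (p⁻¹ * w * p * (S.h E.θ l * (p⁻¹ * v * p) * (S.h E.θ l)⁻¹)) * p⁻¹ := by group
      _ = _ := by rw [this]; group
  have two : (1 : F) + 1 = 0 := CharTwo.add_self_eq_zero 1
  refine ⟨k * (S.h E.θ μ)⁻¹, ⟨1 + μ ^ 2, fun e => l1 ?_, ?_⟩, mem_centralizer_iff.2 fun z hz => ?_,
    mul_mem (kn _ hp.nY) (inv_mem (nH μ0 _)), fun v hv => ?_,
    (ek ▸ hp.nO _ (S.h_mem_grp _ _)).mul (CO.of_mem (S.h_mem_grp _ _)).inv⟩
  · have e1 := m2 1
    rw [show μ ^ 2 = 1 by linear_combination e - two, mul_one, ek, ← hp.pz] at e1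
    have e2 : S.h E.θ l * S.x E.θ 1 * (S.h E.θ l)⁻¹ = S.x E.θ 1 := by
      calc _ = p⁻¹ * (p * S.h E.θ l * p⁻¹ * (p * S.x E.θ 1 * p⁻¹) * (p * S.h E.θ l * p⁻¹)⁻¹) * p := by
            group
        _ = _ := by rw [e1]; group
    rw [hZ l0] at e2
    have e3 := A.nd.x_injective _ e2
    exact sub_eq_zero.1 (pow_eq_zero_iff two_ne_zero |>.1
      (show (l - 1) ^ 2 = 0 by linear_combination e3 + (1 - l) * two))
  · have e1 : k * (t * S.x E.θ 1) * k⁻¹ = t * S.x E.θ 1 := by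
      rw [← hp.pt, ek, (h.cj p).com (a1_mem_cj (S.h_mem_grp _ _)), mul_inv_cancel_right]
    calc _ = k * ((S.h E.θ μ)⁻¹ * t) * S.h E.θ μ * k⁻¹ := by group
      _ = k * (t * (S.x E.θ 1 * S.x E.θ 1)) * k⁻¹ := by
        rw [h.com (inv_mem (S.h_mem_grp _ _)), A.x_sq]; group
      _ = k * (t * S.x E.θ 1) * k⁻¹ * (k * S.x E.θ 1 * k⁻¹) := by group
      _ = _ := by rw [e1, m2, mul_one, S.x_add, mul_assoc]
  · obtain ⟨c, rfl⟩ := S.mem_X_iff.1 hz
    obtain ⟨c, rfl⟩ : ∃ c', c = μ ^ 2 * c' := ⟨c / μ ^ 2, by field_simp⟩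
    calc _ = k * S.x E.θ c * k⁻¹ * (k * (S.h E.θ μ)⁻¹) := by rw [m2]
      _ = k * (S.h E.θ μ)⁻¹ * (S.h E.θ μ * S.x E.θ c * (S.h E.θ μ)⁻¹) := by group
      _ = _ := by rw [hZ μ0]
  · have hv' := (mem_normalizer_iff''.1 (nH μ0 _) v).1 hv
    have := (A.congr_iff ((mem_normalizer_iff.1 (kn _ hp.nQ) _).1 hv')
      ((mem_normalizer_iff.1 (nH μ0 _) _).1 hv')).2 fun r hr => by
        rw [m1 _ hv' r hr, (A.h_θ μ0).1 _ hv' r hr]
    convert this using 1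
    group

end Sit

end CfsgLib.SLA
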