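import Mathlib
import Cfsg.Agent.Lib.SLA.A1

/-!
# The case q = 2
-/

set_option autoImplicit false
set_option linter.unusedSectionVars false
set_option linter.unusedVariables false

namespace CfsgLib.SLA

open CfsgLib.RGD CfsgLib.Stein Subgroup
open scoped commutatorElement Pointwise

universe u

variable {ι κ : Type} [Fintype κ] [DecidableEq κ] [Finite ι] {Φ : RootSys ι κ} {E : ER Φ}
  {F : Type} [Field F] [Finite F] [CharP F 2] {G : Type u} [Group G] [Finite G]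
  {S : StSys Φ F G}

theorem a2_one (hq : Nat.card F = 2) (c : F) : c = 0 ∨ c = 1 := by
  obtain ⟨y, -, hy⟩ := (Nat.card_eq_two_iff' (0 : F)).1 hq
  by_cases h : c = 0
  · exact .inl h
  · exact .inr ((hy c h).trans (hy 1 one_ne_zero).symm)

theorem AA_flip_flip (E : ER Φ) (S : StSys Φ F G) : AA E.flip.flip S = AA E S := by
  rw [AA_flip]
  refine congrArg S.UU (Set.ext fun r => ?_)
  have := E.bd r
  show E.m - 1 - E.lo r + 1 = E.m ↔ E.lo r = 0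
  omega

theorem Z_le_AA (E : ER Φ) (S : StSys Φ F G) : S.X E.θ ≤ AA E S :=
  S.UU_mono fun _ hr => (Set.mem_singleton_iff.1 hr).symm ▸ E.lo_θ

theorem AA_le_Q (E : ER Φ) (S : StSys Φ F G) : AA E S ≤ Q S E.θ :=
  S.UU_mono fun _ hr => E.one_le_iff.2 (.inl (Eq.trans hr E.lo_θ.symm))

theorem Amb.Y_norm_AA (A : Amb E S) : Y S E.θ ≤ normalizer (AA E S : Set G) := by
  refine (closure_le _).2 ?_
  rintro _ ⟨r, hr, c, rfl⟩
  have := E.co
  have hr : 0 ≤ ip Φ r E.θ := hr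
  rw [E.nonneg_iff] at hr
  refine mem_normalizer_fintype fun u hu => A.x_conj_mem ⟨fun h => ?_, fun s hs k hk => ?_⟩ c hu
  · have h : E.lo _ = 0 := h
    rw [E.lo_neg] at h; omega
  · have hs : E.lo s = 0 := hs
    rw [E.radd_iff] at hk
    show E.lo k = 0
    omega

theorem Amb.AA_ne (A : Amb E S) : AA E S ≠ AA E.flip S := fun e => by
  have := E.co
  have h1 : S.x E.α 1 ∈ AA E S := S.x_mem_UU E.lo_α 1
  rw [e] at h1
  have h2 := A.cf_eq_zero (E.closed_of_idl E.flip.idl_AA) E.flip.idl_AA.1 h1 (r := E.α) fun h => by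
    have h : E.m - 1 - E.hi E.α = 0 := h
    omega
  rw [A.cf_x_self (r := E.α) (Φ.pos_simple _)] at h2
  exact one_ne_zero h2

/-- commutators with the Levi factor -/
theorem Amb.a2_cf (A : Amb E S) {a : ι} (ha : ip Φ a E.θ = 0) {u : G} (hu : u ∈ Q S E.θ) {k : ι}
    (hk : ip Φ k E.θ = 1) :
    (∀ s, RAdd Φ s a k → cf S (S.x a 1 * u * (S.x a 1)⁻¹ * u⁻¹) k = cf S u s) ∧
      (ip Φ k a ≠ 1 → cf S (S.x a 1 * u * (S.x a 1)⁻¹ * u⁻¹) k = 0) := by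
  have h1 := A.vec_conj (S.x_mem_UU ha.ge 1) hu
  obtain ⟨h2, h3⟩ := A.cf_V ha 1 hu hk
  rw [A.vec_mul h1 (inv_mem hu) hk, A.cf_inv A.lay_Q hu (vec_ne hk)]
  refine ⟨fun s hs => ?_, fun h => ?_⟩
  · rw [h2 s hs, one_mul, add_right_comm, CharTwo.add_self_eq_zero, zero_add]
  · rw [h3 h, CharTwo.add_self_eq_zero]

/-- the `Y`-invariant subgroups between `Z` and `Q` for `q = 2` -/
theorem Amb.inv_AB (A : Amb E S) (hq : Nat.card F = 2) {K : Subgroup G} (h1 : S.X E.θ ≤ K)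
    (h2 : K ≤ Q S E.θ) (h3 : Y S E.θ ≤ normalizer (K : Set G)) :
    AA E S ≤ K ∨ K ≤ AA E.flip S := by
  rw [or_iff_not_imp_right]
  intro hK
  obtain ⟨v, hv, hv'⟩ := SetLike.not_le_iff_exists.1 hK
  have co := E.co
  have h5 := A.five hq
  have D : ∀ a, ip Φ a E.θ = 0 → ∀ u ∈ K, S.x a 1 * u * (S.x a 1)⁻¹ * u⁻¹ ∈ K := fun a ha u hu =>
    mul_mem ((mem_normalizer_iff.1 (h3 (S.x_mem_UU ha.ge 1)) u).1 hu) (inv_mem hu)
  obtain ⟨r, r1, r2, r3⟩ : ∃ r, Φ.Pos r ∧ E.hi r + 1 ≠ E.m ∧ cf S v r ≠ 0 := by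
    by_contra! k
    exact hv' (AA_flip E S ▸ A.mem_of_cf (A.Q_le_U (h2 hv)) k)
  have r4 : E.lo r = 0 := by
    by_contra k
    refine r3 (A.cf_eq_zero (E.closed_of_idl E.idl_Q) E.idl_Q.1 (h2 hv) fun h => ?_)
    have h : 1 ≤ ip Φ r E.θ := h
    rw [E.one_le_iff] at h; omega
  replace r2 : 0 < E.hi r ∧ E.hi r + 1 < E.m := by have := E.bd r; omega
  obtain ⟨k, k', k1, k2, k3, k4, k5, k6, k7⟩ : ∃ k k', 0 < k ∧ k < k' ∧ k' + 1 < E.m ∧ k ≠ E.hi r ∧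
      k' ≠ E.hi r ∧ E.lo E.θ = 0 ∧ E.hi E.θ + 1 = E.m := by
    by_cases c1 : E.hi r = 1
    · exact ⟨2, 3, by omega⟩
    by_cases c2 : E.hi r = 2
    · exact ⟨1, 3, by omega⟩
    · exact ⟨1, 2, by omega⟩
  clear co
  obtain ⟨a, a1, a2⟩ := E.exists_e (i := E.hi r) (j := k) (by omega) (by omega) (by omega)
  obtain ⟨a', a3, a4⟩ := E.exists_e (i := k) (j := k') (by omega) (by omega) (by omega)
  obtain ⟨b, b1, b2⟩ := E.exists_e (i := 0) (j := k) (by omega) (by omega) (by omega)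
  obtain ⟨b', b3, b4⟩ := E.exists_e (i := 0) (j := k') (by omega) (by omega) (by omega)
  obtain ⟨d, d1, d2⟩ := E.exists_e (i := k') (j := E.m - 1) (by omega) (by omega) (by omega)
  have ha : ip Φ a E.θ = 0 := by rw [E.ip_zero_iff]; omega
  have ha' : ip Φ a' E.θ = 0 := by rw [E.ip_zero_iff]; omega
  have hb' : ip Φ b' E.θ = 1 := by rw [E.ip_one_iff]; omega
  have m1 := D a ha v hv
  have m2 := D a' ha' _ m1
  have xb : S.x b' 1 ∈ K := by
    have := A.vec_mem_Z (S.x_mem_UU hb'.ge 1) (h2 m2) fun s hs => by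
      obtain ⟨c1, c2⟩ := A.a2_cf ha' (h2 m1) hs
      have := E.bd s
      by_cases e : s = b'
      · rw [e, A.cf_x_self (E.pos_of_θ hb'.ge), ← e, c1 b (by rw [E.radd_iff, e]; omega),
          (A.a2_cf ha (h2 hv) (by rw [E.ip_one_iff]; omega)).1 r (by rw [E.radd_iff]; omega)]
        exact ((a2_one hq _).resolve_left r3).symm
      rw [A.cf_x_ne (E.pos_of_θ hb'.ge) e]
      rw [E.eq_iff] at e; rw [E.ip_one_iff] at hs
      by_cases e' : ip Φ s a' = 1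
      · rw [E.ip_one_iff] at e'
        rw [c1 d (by rw [E.radd_iff]; omega), (A.a2_cf ha (h2 hv) (by rw [E.ip_one_iff]; omega)).2
          (by rw [Ne, E.ip_one_iff]; omega)]
      · rw [c2 e']
    simpa only [inv_mul_cancel_right] using mul_mem (h1 this) m2
  refine (closure_le _).2 ?_
  rintro _ ⟨s, hs, c, rfl⟩
  have hs : E.lo s = 0 := hs
  have := E.bd s
  rcases a2_one hq c with rfl | rfl
  · rw [S.x_zero]; exact one_mem K
  by_cases e : s = E.θ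
  · exact h1 (e ▸ S.x_mem_X _ _)
  by_cases e' : s = b'
  · exact e' ▸ xb
  rw [E.eq_iff] at e e'
  obtain ⟨f, f1, f2⟩ := E.exists_e (i := k') (j := E.hi s) (by omega) (by omega) (by omega)
  have := D f (by rw [E.ip_zero_iff]; omega) _ xb
  rwa [A.rel.cm f b' s (by rw [E.radd_iff]; omega), one_mul] at this

theorem Amb.a2_img (A : Amb E S) (hq : Nat.card F = 2) {p : G} (nY : p ∈ normalizer (Y S E.θ : Set G))
    (nQ : p ∈ normalizer (Q S E.θ : Set G)) (nZ : p ∈ normalizer (S.X E.θ : Set G)) :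
    MulAut.conj p • AA E S = AA E S ∨ MulAut.conj p • AA E S = AA E.flip S := by
  have m : ∀ {x}, x ∈ MulAut.conj p • AA E S ↔ p⁻¹ * x * p ∈ AA E S := fun {x} => by
    rw [mem_pointwise_smul_iff_inv_smul_mem]; simp [MulAut.smul_def]
  have c : Nat.card (MulAut.conj p • AA E S : Subgroup G) = Nat.card (AA E S) :=
    Nat.card_congr (equivSMul (MulAut.conj p) (AA E S)).toEquiv.symm
  refine (A.inv_AB hq (fun z hz => m.2 (Z_le_AA E S ((mem_normalizer_iff''.1 nZ _).1 hz)))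
    (fun x hx => (mem_normalizer_iff''.1 nQ _).2 (AA_le_Q E S (m.1 hx)))
    fun y hy => mem_normalizer_fintype fun x hx => m.2 ?_).imp
    (fun h => (eq_of_le_of_card_ge h c.le).symm)
    fun h => eq_of_le_of_card_ge h (by rw [c, A.card_AA, A.flip.card_AA]; rfl)
  have := (mem_normalizer_iff.1 (A.Y_norm_AA ((mem_normalizer_iff''.1 nY _).1 hy)) _).1 (m.1 hx)
  convert this using 1
  group

/-- an element of `N(Y)` permutes `A` and `B` -/
theorem Amb.norm_AB (A : Amb E S) (hq : Nat.card F = 2) {p : G} (nY : p ∈ normalizer (Y S E.θ : Set G))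
    (nQ : p ∈ normalizer (Q S E.θ : Set G)) (nZ : p ∈ normalizer (S.X E.θ : Set G)) :
    (MulAut.conj p • AA E S = AA E S ∧ MulAut.conj p • AA E.flip S = AA E.flip S) ∨
      (MulAut.conj p • AA E S = AA E.flip S ∧ MulAut.conj p • AA E.flip S = AA E S) := by
  have h2 := A.flip.a2_img hq nY nQ nZ
  rw [AA_flip_flip] at h2
  have n : MulAut.conj p • AA E S ≠ MulAut.conj p • AA E.flip S := fun e =>
    A.AA_ne (MulAction.injective _ e)
  rcases A.a2_img hq nY nQ nZ with h1 | h1 <;> rcases h2 with h2 | h2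
  · exact .inl ⟨h1, h2⟩
  · exact absurd (h1.trans h2.symm) n
  · exact absurd (h1.trans h2.symm) n
  · exact .inr ⟨h1, h2⟩

/-- a transvection on `A` which moves `z` -/
theorem Amb.tr (A : Amb E S) (hq : Nat.card F = 2) : ∃ x ∈ S.grp, ∃ w ∈ AA E S, w ≠ 1 ∧
    x * S.x E.θ 1 * x⁻¹ = S.x E.θ 1 * w ∧ x * w = w * x ∧
      ∀ a ∈ AA E S, x * a * x⁻¹ * a⁻¹ = 1 ∨ x * a * x⁻¹ * a⁻¹ = w := by
  have co := E.co
  have h1 : RAdd Φ (Φ.neg E.α') E.θ E.β' := by rw [E.radd_iff, E.lo_neg, E.hi_neg]; omega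
  refine ⟨S.x (Φ.neg E.α') 1, S.x_mem_grp _ _, S.x E.β' 1, S.x_mem_UU E.lo_β' 1,
    fun e => one_ne_zero (A.x_eq_one.1 e), by rw [A.conj_x h1, one_mul],
    A.com (by rw [E.nonneg_iff, E.lo_neg, E.hi_neg]; omega) _ _, fun a ha => ?_⟩
  have : S.x (Φ.neg E.α') 1 * a * (S.x (Φ.neg E.α') 1)⁻¹ * a⁻¹ ∈ S.X E.β' := by
    refine S.UU_induction (p := fun a => S.x (Φ.neg E.α') 1 * a * (S.x (Φ.neg E.α') 1)⁻¹ * a⁻¹ ∈ S.X E.β')
      (by simp) (fun r hr c g hg ih => ?_) ha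
    have k : ∃ e, S.x (Φ.neg E.α') 1 * S.x r c * (S.x (Φ.neg E.α') 1)⁻¹ * (S.x r c)⁻¹ = S.x E.β' e := by
      by_cases e : r = E.θ
      · exact ⟨_, e ▸ A.rel.cm _ _ _ h1 1 c⟩
      · have hr : E.lo r = 0 := hr
        have := E.bd r
        rw [E.eq_iff] at e
        exact ⟨0, by rw [A.com (by rw [E.nonneg_iff, E.lo_neg, E.hi_neg]; omega), S.x_zero]; group⟩
    obtain ⟨e, k⟩ := k
    have := mul_mem ih (S.x_mem_X E.β' e)
    rw [← mul_inv_cancel_right (S.x E.β' e) g, ← A.AA_comm hg (S.x_mem_UU E.lo_β' e), ← k] at this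
    convert this using 1
    group
  obtain ⟨c, hc⟩ := S.mem_X_iff.1 this
  rcases a2_one hq c with rfl | rfl
  · exact .inl (hc.trans (S.x_zero _))
  · exact .inr hc

theorem Sit.tv_two {t : G} (h : Sit E S t) (hq : Nat.card F = 2) {p : G} (hp : Sw E S t p) :
    ∃ p', Tv E S t p' := by
  have A := h.amb
  have h5 := A.five hq
  have mm : ∀ {p x : G} {C : Subgroup G}, x ∈ MulAut.conj p • C ↔ p⁻¹ * x * p ∈ C := fun {p x C} => by
    rw [mem_pointwise_smul_iff_inv_smul_mem]; simp [MulAut.smul_def]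
  obtain ⟨C, hC, x, hx, w, hw, w1, x1, x2, x3⟩ : ∃ C : Subgroup G, MulAut.conj p • C = AA E S ∧
      ∃ x ∈ S.grp, ∃ w ∈ C, w ≠ 1 ∧ x * S.x E.θ 1 * x⁻¹ = S.x E.θ 1 * w ∧ x * w = w * x ∧
        ∀ a ∈ C, x * a * x⁻¹ * a⁻¹ = 1 ∨ x * a * x⁻¹ * a⁻¹ = w := by
    rcases A.norm_AB hq hp.nY hp.nQ (h.sw_Z hp) with e | e
    · exact ⟨_, e.1, A.tr hq⟩
    · exact ⟨_, e.2, A.flip.tr hq⟩
  obtain ⟨l, hl, nl, el⟩ := A.AA_conj (a := p * w * p⁻¹) (hC ▸ mm.2 (by simpa [mul_assoc] using hw))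
    fun e => w1 (by rwa [mul_inv_eq_one, mul_eq_left] at e)
  obtain ⟨k, ek⟩ : ∃ k, k = l⁻¹ * (p * x * p⁻¹) * l := ⟨_, rfl⟩
  have ez : S.x E.θ 1 = l⁻¹ * (p * w * p⁻¹) * l := by rw [← el]; group
  have pt : k * t * k⁻¹ = t * S.x E.θ 1 := by
    have e1 : p * x * p⁻¹ * (t * S.x E.θ 1) * (p * x * p⁻¹)⁻¹ = t * S.x E.θ 1 := by
      rw [← hp.pt, (h.cj p).com (a1_mem_cj hx), mul_inv_cancel_right]
    have e2 : p * x * p⁻¹ * S.x E.θ 1 * (p * x * p⁻¹)⁻¹ = S.x E.θ 1 * (p * w * p⁻¹) := by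
      calc _ = p * (x * (p⁻¹ * (p * S.x E.θ 1 * p⁻¹) * p) * x⁻¹) * p⁻¹ := by rw [hp.pz]; group
        _ = p * (x * S.x E.θ 1 * x⁻¹) * p⁻¹ := by group
        _ = p * S.x E.θ 1 * p⁻¹ * (p * w * p⁻¹) := by rw [x1]; group
        _ = _ := by rw [hp.pz]
    calc _ = l⁻¹ * (p * x * p⁻¹ * (l * t) * l⁻¹ * (p * x * p⁻¹)⁻¹) * l := by rw [ek]; group
      _ = l⁻¹ * (p * x * p⁻¹ * (t * (S.x E.θ 1 * S.x E.θ 1)) * (p * x * p⁻¹)⁻¹) * l := by
        rw [h.com hl, A.x_sq]; group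
      _ = l⁻¹ * (p * x * p⁻¹ * (t * S.x E.θ 1) * (p * x * p⁻¹)⁻¹ *
          (p * x * p⁻¹ * S.x E.θ 1 * (p * x * p⁻¹)⁻¹)) * l := by group
      _ = (l⁻¹ * t) * (S.x E.θ 1 * S.x E.θ 1) * (p * w * p⁻¹) * l := by rw [e1, e2]; group
      _ = t * (l⁻¹ * (p * w * p⁻¹) * l) := by rw [h.com (inv_mem hl), A.x_sq]; group
      _ = _ := by rw [← ez]
  have pz : k ∈ centralizer (S.X E.θ : Set G) := mem_centralizer_iff.2 fun z hz => by
    obtain ⟨c, rfl⟩ := S.mem_X_iff.1 hz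
    rcases a2_one hq c with rfl | rfl
    · rw [S.x_zero, one_mul, mul_one]
    · rw [ez, ek]
      calc _ = l⁻¹ * p * (w * x) * p⁻¹ * l := by group
        _ = _ := by rw [← x2]; group
  have nZ : k ∈ normalizer (S.X E.θ : Set G) := centralizer_le_normalizer _ pz
  obtain ⟨nY, nQ, -⟩ := h.norm_of_swap one_ne_zero pt nZ fun h3 => by omega
  have kA : ∀ a ∈ AA E S, k * a * k⁻¹ * a⁻¹ ∈ S.X E.θ := fun a ha => by
    have e : k * a * k⁻¹ * a⁻¹ = l⁻¹ * (p * (x * (p⁻¹ * (l * a * l⁻¹) * p) * x⁻¹ *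
        (p⁻¹ * (l * a * l⁻¹) * p)⁻¹) * p⁻¹) * l := by rw [ek]; group
    rcases x3 _ (mm.1 (hC ▸ (mem_normalizer_iff.1 nl a).1 ha)) with e' | e'
    · rw [e, e']; simp
    · rw [e, e', ← ez]; exact S.x_mem_X _ _
  have nA : k ∈ normalizer (AA E S : Set G) := mem_normalizer_fintype fun a ha => by
    simpa using mul_mem (Z_le_AA E S (kA a ha)) ha
  have nB : ∀ b ∈ AA E.flip S, k * b * k⁻¹ ∈ AA E.flip S := fun b hb => by
    rcases A.norm_AB hq nY nQ nZ with e | e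
    · exact e.2 ▸ mm.2 (by simpa [mul_assoc] using hb)
    · refine absurd (e.1.symm.trans ?_).symm A.AA_ne
      ext a
      rw [mm]
      exact (mem_normalizer_iff''.1 nA a).symm
  have BQ : AA E.flip S ≤ Q S E.θ := AA_le_Q E.flip S
  have kB : ∀ b ∈ AA E.flip S, k * b * k⁻¹ * b⁻¹ ∈ S.X E.θ := fun b hb => by
    have m1 := mul_mem (nB b hb) (inv_mem hb)
    refine A.mem_Z_of_Q (A.flip.AA_le_U m1) fun r hr => ?_
    have co := E.co
    rcases E.one_le_iff.1 hr with e | e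
    · have ha : S.x r 1 ∈ AA E S := S.x_mem_UU (e.trans E.lo_θ) 1
      generalize S.x r 1 = a at ha
      have ha' := (mem_normalizer_iff''.1 nA a).1 ha
      have z1 : (k⁻¹ * a * k)⁻¹ * a ∈ S.X E.θ := by
        rw [A.AA_comm (inv_mem ha') ha]
        simpa [mul_assoc] using kA _ ha'
      have z2 := mem_centralizer_iff.1 pz _ (A.comm_Q (BQ hb) (AA_le_Q E S ha') ▸ S.x_mem_X _ _)
      have z3 := A.vec_cZ (inv_mem (A.vec_Q_le_Y (BQ hb))) z1
      have e1 : k * b * k⁻¹ * a * (k * b * k⁻¹)⁻¹ = b * a * b⁻¹ := by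
        calc _ = k * (b * (k⁻¹ * a * k) * b⁻¹ * (k⁻¹ * a * k)⁻¹) * k⁻¹ * a := by group
          _ = b * (k⁻¹ * a * k) * b⁻¹ * (k⁻¹ * a * k)⁻¹ * a := by rw [← z2]; group
          _ = b * (k⁻¹ * a * k) * (b⁻¹ * ((k⁻¹ * a * k)⁻¹ * a) * b⁻¹⁻¹) * b⁻¹ := by group
          _ = _ := by rw [z3]; group
      rw [A.flip.AA_comm (nB b hb) (inv_mem hb)]
      calc _ = b⁻¹ * (k * b * k⁻¹ * a * (k * b * k⁻¹)⁻¹) * (k * b * k⁻¹) := by group
        _ = _ := by rw [e1]; group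
    · exact A.flip.AA_comm m1 (AA_flip E S ▸ S.x_mem_UU (by rw [Set.mem_setOf_eq]; omega) 1)
  refine ⟨k, ⟨1, one_ne_zero, pt⟩, pz, nY, fun v hv => ?_,
    ek ▸ ((CO.of_mem hl).inv.mul (hp.nO x hx)).mul (CO.of_mem hl)⟩
  refine S.UU_induction (p := fun v => k * v * k⁻¹ * v⁻¹ ∈ S.X E.θ) (by simp)
    (fun r hr c g hg ih => ?_) hv
  have z : k * S.x r c * k⁻¹ * (S.x r c)⁻¹ ∈ S.X E.θ := by
    have co := E.co
    rcases E.one_le_iff.1 hr with e | e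
    · exact kA _ (S.x_mem_UU (e.trans E.lo_θ) c)
    · exact kB _ (AA_flip E S ▸ S.x_mem_UU (by rw [Set.mem_setOf_eq]; omega) c)
  have := mul_mem ih z
  rw [← A.vec_cZ (A.vec_Q_le_Y hg) z] at this
  convert this using 1
  group

end CfsgLib.SLA
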