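import Mathlib
import Cfsg.Agent.Lib.SLA.A2

/-!
# An element centralising `Y` and moving `t`
-/

set_option autoImplicit false
set_option linter.unusedSectionVars false

namespace CfsgLib.SLA

open CfsgLib.RGD CfsgLib.Stein Subgroup
open scoped commutatorElement Pointwise

universe u

variable {ι κ : Type} [Fintype κ] [DecidableEq κ] [Finite ι] {Φ : RootSys ι κ} {E : ER Φ}
  {F : Type} [Field F] [Finite F] [CharP F 2] {G : Type u} [Group G] [Finite G]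
  {S : StSys Φ F G}

omit [Finite ι] [Finite F] [CharP F 2] [Finite G] in
/-- `g` centralises `Y_r` and moves `t` to `t x_r(c)` -/
def InT (S : StSys Φ F G) (t : G) (r : ι) (c : F) (g : G) : Prop :=
  g ∈ centralizer (Y S r : Set G) ∧ g * t * g⁻¹ = t * S.x r c

omit [Finite ι] [Finite F] [CharP F 2] [Finite G] in
/-- the result of part II -/
structure Mv (E : ER Φ) (S : StSys Φ F G) (t : G) : Prop extends Sit E S t where
  two : Two S
  ex : ∃ c g, c ≠ 0 ∧ InT S t E.θ c g ∧ CO S t g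

theorem Amb.a3_fin (A : Amb E S) {p : G} (pz : p ∈ centralizer (S.X E.θ : Set G))
    (lin : ∀ r, ∃ a, ip Φ r E.θ = 1 → ∀ c, p * S.x r c * p⁻¹ = S.x E.θ (c * a) * S.x r c) :
    ∃ v ∈ Q S E.θ, v * p ∈ centralizer (Q S E.θ : Set G) := by
  have cY : ∀ {y : G}, y ∈ Y S E.θ → ∀ c, y * S.x E.θ c = S.x E.θ c * y := fun hy c =>
    mul_inv_eq_iff_eq_mul.1 (A.vec_cZ hy (S.x_mem_X _ _))
  have cp : ∀ c, S.x E.θ c * p = p * S.x E.θ c := fun c =>
    mem_centralizer_iff.1 pz _ (S.x_mem_X _ _)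
  choose a ha using lin
  have op : ∀ r, ∃ r', ip Φ r E.θ = 1 → RAdd Φ r r' E.θ := fun r => by
    by_cases hr : ip Φ r E.θ = 1
    · exact (E.exists_sub hr).imp fun _ h _ => h
    · exact ⟨r, fun h => absurd h hr⟩
  choose σ hσ using op
  obtain ⟨v, hv, ev⟩ := A.exists_Q fun r => a (σ r)
  refine ⟨v, hv, mem_cent_UU.2 fun r hr c => ?_⟩
  by_cases e : r ∈ ({E.θ} : Set ι)
  · rw [Set.mem_singleton_iff.1 e, ← mul_assoc, ← cY (A.vec_Q_le_Y hv), mul_assoc, cp, mul_assoc]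
  have r1 := vec_one hr e
  have s1 := (E.radd_ip (hσ r r1)).2.2
  have e1 := A.comm_Q hv (S.x_mem_UU (vec_mem r1) c)
  rw [A.bf_x (hσ r r1).symm hv, ev _ s1, (hσ _ s1).unique (hσ r r1).symm] at e1
  symm
  calc v * p * S.x r c = v * (p * S.x r c * p⁻¹) * p := by group
    _ = v * S.x E.θ (c * a r) * S.x r c * p := by rw [ha r r1]; group
    _ = S.x E.θ (c * a r) * (v * S.x r c * v⁻¹ * (S.x r c)⁻¹) * (S.x r c * (v * p)) := by
      rw [cY (A.vec_Q_le_Y hv)]; group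
    _ = _ := by rw [e1, A.x_sq, one_mul]

theorem Amb.a3_cen_Q (A : Amb E S) (h4 : 4 ≤ E.m) {p : G} (pz : p ∈ centralizer (S.X E.θ : Set G))
    (nY : p ∈ normalizer (Y S E.θ : Set G))
    (nQ : ∀ v ∈ Q S E.θ, p * v * p⁻¹ * v⁻¹ ∈ S.X E.θ) :
    ∃ v ∈ Q S E.θ, v * p ∈ centralizer (Q S E.θ : Set G) := by
  obtain ⟨f, hf⟩ : ∃ f : G → F, ∀ v ∈ Q S E.θ, p * v * p⁻¹ = S.x E.θ (f v) * v := by
    have : ∀ v, ∃ c, v ∈ Q S E.θ → p * v * p⁻¹ = S.x E.θ c * v := fun v => by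
      by_cases hv : v ∈ Q S E.θ
      · obtain ⟨c, e⟩ := S.mem_X_iff.1 (nQ v hv)
        exact ⟨c, fun _ => mul_inv_eq_iff_eq_mul.1 e⟩
      · exact ⟨0, fun h => absurd h hv⟩
    choose f hf using this
    exact ⟨f, hf⟩
  have cY : ∀ {y : G}, y ∈ Y S E.θ → ∀ c, y * S.x E.θ c = S.x E.θ c * y := fun hy c =>
    mul_inv_eq_iff_eq_mul.1 (A.vec_cZ hy (S.x_mem_X _ _))
  have cp : ∀ c, S.x E.θ c * p = p * S.x E.θ c := fun c =>
    mem_centralizer_iff.1 pz _ (S.x_mem_X _ _)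
  have add : ∀ v ∈ Q S E.θ, ∀ v' ∈ Q S E.θ, f (v * v') = f v + f v' := fun v hv v' hv' => by
    refine A.nd.x_injective E.θ (mul_right_cancel (b := v * v') ?_)
    rw [← hf _ (mul_mem hv hv'), S.x_add]
    calc p * (v * v') * p⁻¹ = p * v * p⁻¹ * (p * v' * p⁻¹) := by group
      _ = S.x E.θ (f v) * (v * S.x E.θ (f v')) * v' := by rw [hf v hv, hf v' hv']; group
      _ = _ := by rw [cY (A.vec_Q_le_Y hv)]; group
  have xQ : ∀ {r : ι}, ip Φ r E.θ = 1 → ∀ c, S.x r c ∈ Q S E.θ := fun hr c =>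
    S.x_mem_UU (vec_mem hr) c
  have key : ∀ y ∈ Y S E.θ, ∃ v₀ ∈ Q S E.θ, ∀ v ∈ Q S E.θ,
      f (y * v * y⁻¹) = f v + bf E S v₀ v := fun y hy => by
    have e : ∀ v ∈ Q S E.θ, p⁻¹ * y⁻¹ * p * y * v * (p⁻¹ * y⁻¹ * p * y)⁻¹ * v⁻¹ =
        S.x E.θ (f (y * v * y⁻¹) - f v) := fun v hv => by
      have e1 : p⁻¹ * v * p = (S.x E.θ (f v))⁻¹ * v := by
        calc _ = p⁻¹ * (S.x E.θ (f v))⁻¹ * (S.x E.θ (f v) * v) * p := by group
          _ = (S.x E.θ (f v) * p)⁻¹ * p * v := by rw [← hf v hv]; group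
          _ = _ := by rw [cp]; group
      calc _ = p⁻¹ * y⁻¹ * (p * (y * v * y⁻¹) * p⁻¹) * y * p * v⁻¹ := by group
        _ = p⁻¹ * (y⁻¹ * S.x E.θ (f (y * v * y⁻¹))) * y * p * (p⁻¹ * v * p) * v⁻¹ := by
          rw [hf _ (A.vec_conj hy hv)]; group
        _ = p⁻¹ * (S.x E.θ (f (y * v * y⁻¹)) * p) * (S.x E.θ (f v))⁻¹ := by
          rw [cY (inv_mem hy), e1]; group
        _ = _ := by rw [cp, S.x_sub]; group
    obtain ⟨v₀, h₀, k, hk, ek⟩ := A.cen_V (le_normalizer (S.UU_le_grp _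
      (mul_mem ((mem_normalizer_iff''.1 nY _).1 (inv_mem hy)) hy))) fun v hv => by
        rw [e v hv]
        exact S.x_mem_X _ _
    refine ⟨v₀, h₀, fun v hv => ?_⟩
    have := e v hv
    rw [ek, mul_assoc v₀, ← mem_centralizer_iff.1 hk v (S.UU_le_grp _ hv), mul_inv_rev,
      ← mul_assoc, ← mul_assoc, mul_inv_cancel_right, A.comm_Q h₀ hv] at this
    rw [A.nd.x_injective _ this]
    ring
  have lin : ∀ r, ∃ a, ip Φ r E.θ = 1 → ∀ c, f (S.x r c) = c * a := fun r => by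
    by_cases hr : ip Φ r E.θ = 1
    swap
    · exact ⟨0, fun h => absurd h hr⟩
    obtain ⟨e, e1, e2⟩ := E.ex2' h4 hr
    obtain ⟨s, hs⟩ := E.exists_sub e1
    obtain ⟨e', he'⟩ := E.exists_sub e2
    have s0 : 0 ≤ ip Φ s E.θ := by
      have := hs.ip_left E.θ
      omega
    obtain ⟨v₀, h₀, e₀⟩ := key _ (S.x_mem_UU s0 1)
    refine ⟨cf S v₀ e', fun _ c => ?_⟩
    have := e₀ _ (xQ e2 c)
    rw [A.conj_x hs.symm, add _ (xQ e2 c) _ (xQ hr _), one_mul, A.bf_x he'.symm h₀] at this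
    exact add_left_cancel this
  exact A.a3_fin pz fun r => (lin r).imp fun a ha hr c => by rw [hf _ (xQ hr c), ha hr]

omit [Finite F] in
theorem a3_lin {φ : F → F} (add : ∀ u v, φ (u + v) = φ u + φ v) {ω : F} (w0 : ω ≠ 0) (w1 : ω ≠ 1)
    (h1 : ∀ b, b ≠ 0 → ∃ a, ∀ u, φ u + φ (u * b ^ 3) = u * a)
    (h2 : ∀ s, s ≠ 0 → 1 + s ≠ 0 → ∃ a, ∀ u, φ u + s ^ 2 * φ (u / s) + (1 + s) ^ 2 * φ (u / (1 + s)) = u * a) :
    ∃ a, ∀ u, φ u = u * a := by
  have two : (2 : F) = 0 := CharTwo.two_eq_zero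
  by_cases hb : ∃ b : F, b ≠ 0 ∧ 1 + b ^ 3 ≠ 0
  · obtain ⟨b, b0, b1⟩ := hb
    obtain ⟨a, ha⟩ := h1 b b0
    refine ⟨a / (1 + b ^ 3), fun u => ?_⟩
    have := ha (u / (1 + b ^ 3))
    rw [← add, show u / (1 + b ^ 3) + u / (1 + b ^ 3) * b ^ 3 = u by field_simp] at this
    rw [this]; ring
  push Not at hb
  have w2 : 1 + ω ≠ 0 := fun e => w1 (by linear_combination e - two)
  have w3 : ω ^ 2 + ω + 1 = 0 := mul_left_cancel₀ w2 (by linear_combination hb ω w0 + (ω ^ 2 + ω) * two)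
  obtain ⟨a, ha⟩ := h2 ω w0 w2
  have e1 := ha 1
  have e2 := ha ω
  rw [show 1 / ω = 1 + ω by field_simp; linear_combination two - w3,
    show 1 / (1 + ω) = ω by field_simp; linear_combination two - w3, add] at e1
  rw [div_self w0, show ω / (1 + ω) = 1 + ω by field_simp; linear_combination -w3, add] at e2
  have e3 : φ ω = ω * φ 1 := by
    have a0 : a = 0 := mul_left_cancel₀ (mul_ne_zero w0 w2) (by
      linear_combination e2 - ω ^ 2 * e1 + ((ω ^ 2 - ω - 1) * φ 1 + (2 * ω ^ 2 - 2) * φ ω) * w3 + a * ω * two)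
    linear_combination e1 + a0 - (φ 1 + 2 * φ ω) * w3 + φ ω * two
  have e0 : φ 0 = 0 := by simpa using add 0 0
  refine ⟨φ 1, fun u => ?_⟩
  by_cases u0 : u = 0
  · rw [u0, e0, zero_mul]
  have : (u - 1) * (u - ω) * (u - (1 + ω)) = 0 := by
    linear_combination hb u u0 + (u - 1) * w3 - (u ^ 2 + u ^ 2 * ω - u * ω) * two
  rcases mul_eq_zero.1 this with h | h
  · rcases mul_eq_zero.1 h with h | h <;> rw [sub_eq_zero.1 h]
    exacts [(one_mul _).symm, e3]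
  · rw [sub_eq_zero.1 h, add, e3]; ring

omit [Finite ι] [Finite F] [CharP F 2] [Finite G] in
/-- `p` is trivial on `Z` and `Q / Z`, moves `t` by `c` and `x_r(u)` by `φ u` -/
structure A3G (E : ER Φ) (S : StSys Φ F G) (t : G) (r : ι) (p : G) (c : F) (φ : F → F) : Prop where
  pz : p ∈ centralizer (S.X E.θ : Set G)
  nQ : ∀ v ∈ Q S E.θ, p * v * p⁻¹ * v⁻¹ ∈ S.X E.θ
  pt : p * t * p⁻¹ = t * S.x E.θ c
  px : ∀ u, p * S.x r u * p⁻¹ = S.x E.θ (φ u) * S.x r u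

namespace A3G

variable {t p p' : G} {r : ι} {c c' : F} {φ φ' : F → F}

theorem cz (g : A3G E S t r p c φ) {z : G} (hz : z ∈ S.X E.θ) : p * z * p⁻¹ = z := by
  rw [← mem_centralizer_iff.1 g.pz z hz, mul_inv_cancel_right]

theorem mul (g : A3G E S t r p c φ) (g' : A3G E S t r p' c' φ') :
    A3G E S t r (p * p') (c + c') fun u => φ u + φ' u := by
  refine ⟨mul_mem g.pz g'.pz, fun v hv => ?_, ?_, fun u => ?_⟩
  · convert mul_mem (g'.nQ v hv) (g.nQ v hv) using 1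
    rw [← g.cz (g'.nQ v hv)]; group
  · calc _ = p * (p' * t * p'⁻¹) * p⁻¹ := by group
      _ = _ := by rw [g'.pt, ← conj_mul, g.pt, g.cz (S.x_mem_X _ _), S.x_add, mul_assoc]
  · calc _ = p * (p' * S.x r u * p'⁻¹) * p⁻¹ := by group
      _ = _ := by rw [g'.px, ← conj_mul, g.px, g.cz (S.x_mem_X _ _), add_comm, S.x_add, mul_assoc]

theorem conj (h : Sit E S t) (g : A3G E S t r p c φ) {a : G} (ha : a ∈ S.H) {ν l : F} (l0 : l ≠ 0)
    (h1 : ∀ u, a * S.x E.θ u * a⁻¹ = S.x E.θ (ν * u)) (h2 : ∀ u, a * S.x r u * a⁻¹ = S.x r (l * u)) :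
    A3G E S t r (a * p * a⁻¹) (ν * c) fun u => ν * φ (u / l) := by
  have nH : ∀ T, a ∈ normalizer (S.UU T : Set G) := fun T => S.H_le_normalizer_UU _ ha
  have ct := h.com (S.H_le_grp ha)
  refine ⟨(mem_normalizer_iff.1 (LAE.normalizer_le_normalizer_centralizer _ (nH _)) _).1 g.pz, fun v hv => ?_, ?_,
    fun u => ?_⟩
  · rw [show a * p * a⁻¹ * v * (a * p * a⁻¹)⁻¹ * v⁻¹ = a * (p * (a⁻¹ * v * a) * p⁻¹ * (a⁻¹ * v * a)⁻¹) * a⁻¹ by group]
    exact (mem_normalizer_iff.1 (nH _) _).1 (g.nQ _ ((mem_normalizer_iff''.1 (nH _) v).1 hv))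
  · calc _ = a * (p * (a⁻¹ * (t * a)) * p⁻¹) * a⁻¹ := by group
      _ = _ := by rw [← ct, inv_mul_cancel_left, g.pt, ← conj_mul, h1, ct, mul_inv_cancel_right]
  · have e : S.x r u = a * S.x r (u / l) * a⁻¹ := by rw [h2, mul_div_cancel₀ _ l0]
    calc _ = a * (p * S.x r (u / l) * p⁻¹) * a⁻¹ := by rw [e]; group
      _ = _ := by rw [g.px, ← conj_mul, h1, ← e]

theorem lin (h : Sit E S t) (hr : ip Φ r E.θ = 1) (g : A3G E S t r p c φ) (c0 : c = 0) : ∃ a, ∀ u, φ u = u * a := by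
  have A := h.amb
  have e := g.pt
  rw [c0, S.x_zero, mul_one, mul_inv_eq_iff_eq_mul] at e
  obtain ⟨v, hv, k, hk, ek⟩ := A.cen_V (h.CN (mem_centralizer_singleton_iff.2 e)) g.nQ
  obtain ⟨s, hs⟩ := E.exists_sub hr
  refine ⟨cf S v s, fun u => ?_⟩
  have e1 := A.comm_Q hv (S.x_mem_UU (vec_mem hr) u)
  rw [A.bf_x hs.symm hv, mul_inv_eq_iff_eq_mul] at e1
  have e2 := g.px u
  rw [ek, mul_assoc v, ← mem_centralizer_iff.1 hk _ (S.x_mem_grp _ _), mul_inv_rev, ← mul_assoc, ← mul_assoc,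
    mul_inv_cancel_right, e1] at e2
  exact (A.nd.x_injective _ (mul_right_cancel e2)).symm

theorem add (A : Amb E S) (hr : ip Φ r E.θ = 1) (g : A3G E S t r p c φ) (u v : F) : φ (u + v) = φ u + φ v := by
  refine A.nd.x_injective E.θ (mul_right_cancel (b := S.x r (u + v)) ?_)
  rw [← g.px, S.x_add, S.x_add, ← conj_mul, g.px, g.px, mul_assoc, ← mul_assoc (S.x r u), A.com (hr ▸ zero_le_one)]
  group

end A3G

/-- the case `m = 3` -/
theorem Sit.a3_three {t : G} (h : Sit E S t) (h3 : E.m = 3) {p : G} (hp : Tv E S t p) :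
    ∃ v ∈ Q S E.θ, v * p ∈ centralizer (Q S E.θ : Set G) := by
  have A := h.amb
  have two : (2 : F) = 0 := CharTwo.two_eq_zero
  obtain ⟨c, -, pt⟩ := hp.pt
  refine A.a3_fin hp.pz fun r => ?_
  by_cases hr : ip Φ r E.θ = 1
  swap
  · exact ⟨0, fun h => absurd h hr⟩
  have hr' : ip Φ E.θ r = 1 := by rw [ip_comm, hr]
  have : ∀ u, ∃ e, p * S.x r u * p⁻¹ = S.x E.θ e * S.x r u := fun u =>
    (S.mem_X_iff.1 (hp.nQ _ (S.x_mem_UU (vec_mem hr) u))).imp fun _ e => mul_inv_eq_iff_eq_mul.1 e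
  choose φ hφ using this
  have g : A3G E S t r p c φ := ⟨hp.pz, hp.nQ, pt, hφ⟩
  have gθ : ∀ {s : F}, s ≠ 0 → A3G E S t r (S.h E.θ s * p * (S.h E.θ s)⁻¹) (s ^ 2 * c) fun u => s ^ 2 * φ (u / s) :=
    fun s0 => g.conj h (S.h_mem_H _ s0) s0 (fun u => by rw [A.h_conj _ _ s0, E.ip_self]; norm_cast)
      fun u => by rw [A.h_conj _ _ s0, hr', zpow_one]
  obtain ⟨ω, w0, w1⟩ := A.exists_ne (A.two_lt (by omega))
  obtain ⟨a, ha⟩ := a3_lin (g.add A hr) w0 w1 (fun b b0 => by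
    have b2 : (b ^ 2)⁻¹ ≠ 0 := inv_ne_zero (pow_ne_zero _ b0)
    obtain ⟨a, ha⟩ := (g.mul ((gθ b0).conj h (S.h_mem_H r b2) (pow_ne_zero 2 b2) (ν := (b ^ 2)⁻¹)
      (fun u => by rw [A.h_conj _ _ b2, hr, zpow_one]) fun u => by
        rw [A.h_conj _ _ b2, E.ip_self]; norm_cast)).lin h hr (by field_simp; linear_combination c * two)
    refine ⟨a, fun u => ?_⟩
    rw [← ha, show u / (b ^ 2)⁻¹ ^ 2 / b = u * b ^ 3 by field_simp, inv_mul_cancel_left₀ (pow_ne_zero _ b0)])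
    fun s s0 s1 => ((g.mul (gθ s0)).mul (gθ s1)).lin h hr (by linear_combination (1 + s + s ^ 2) * c * two)
  exact ⟨a, fun _ u => by rw [hφ, ha]⟩

theorem Sit.inT_of_tv {t : G} (h : Sit E S t) {p : G} (hp : Tv E S t p) :
    ∃ c g, c ≠ 0 ∧ InT S t E.θ c g ∧ CO S t g := by
  have A := h.amb
  obtain ⟨c, c0, pt⟩ := hp.pt
  obtain ⟨v, hv, cQ⟩ := E.three.eq_or_lt.elim (fun h3 => h.a3_three h3.symm hp)
    fun h4 => A.a3_cen_Q h4 hp.pz hp.nY hp.nQ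
  have nY := mul_mem (le_normalizer (A.vec_Q_le_Y hv)) hp.nY
  refine ⟨c, v * p, c0, ⟨?_, ?_⟩, (CO.of_mem (S.UU_le_grp _ hv)).mul hp.co⟩
  · rcases E.three.eq_or_lt with h3 | h4
    · exact A.Y_three h3.symm E.θ ▸ cQ
    generalize v * p = g at cQ nY
    have key : ∀ y ∈ Y S E.θ, ∃ k ∈ Y S E.θ, k ∈ centralizer (Y S E.θ : Set G) ∧
        g * y * g⁻¹ = k * y := fun y hy => by
      have m : g * y * g⁻¹ * y⁻¹ ∈ Y S E.θ := mul_mem ((mem_normalizer_iff.1 nY y).1 hy) (inv_mem hy)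
      refine ⟨_, m, ?_, by group⟩
      obtain ⟨c, k, hk, e⟩ := A.cen_Q E.θ (le_normalizer (S.UU_le_grp _ m)) (by
        convert mul_mem cQ ((mem_normalizer_iff.1
          (LAE.normalizer_le_normalizer_centralizer _ (A.Y_norm_Q _ hy)) _).1 (inv_mem cQ)) using 1
        group)
      rw [e]
      exact mul_mem (mem_centralizer_iff.2 fun y hy =>
        (mem_centralizer_iff.1 (A.Y_le_cent _ hy) _ (S.x_mem_X _ _)).symm)
        (centralizer_le (S.UU_le_grp _) hk)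
    have : ⁅Y S E.θ, Y S E.θ⁆ ≤ centralizer {g} := commutator_le.2 fun y hy y' hy' => by
      obtain ⟨k, -, c1, e1⟩ := key y hy
      obtain ⟨k', m2, c2, e2⟩ := key y' hy'
      refine mem_centralizer_singleton_iff.2 (mul_inv_eq_iff_eq_mul.1 ?_).symm
      have a1 := mem_centralizer_iff.1 c1 _ (mul_mem (mul_mem hy (mul_mem m2 hy')) (inv_mem hy))
      have a2 := mem_centralizer_iff.1 c2 _ (mul_mem (mul_mem hy' (inv_mem hy)) (inv_mem hy'))
      rw [conjugate_commutatorElement, e1, e2, commutatorElement_def, commutatorElement_def]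
      calc _ = k * (y * (k' * y') * y⁻¹) * k⁻¹ * y'⁻¹ * k'⁻¹ := by group
        _ = y * (k' * (y' * y⁻¹ * y'⁻¹)) * k'⁻¹ := by rw [← a1]; group
        _ = _ := by rw [← a2]; group
    exact mem_centralizer_iff.2 fun y hy =>
      mem_centralizer_singleton_iff.1 (this ((A.pf_Y h4 _).1 hy))
  · calc _ = v * (p * t * p⁻¹) * v⁻¹ := by group
      _ = v * t * v⁻¹ * (v * S.x E.θ c * v⁻¹) := by rw [pt]; group
      _ = _ := by
        rw [h.com (S.UU_le_grp _ hv), A.vec_cZ (A.vec_Q_le_Y hv) (S.x_mem_X _ _),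
          mul_inv_cancel_right]

theorem Sit.mv {t : G} (h : Sit E S t) (hf : IsConj t (t * S.x E.θ 1)) : Mv E S t := by
  obtain ⟨p, hp⟩ := h.exists_sw hf
  refine ⟨h, h.two_of_sw hp, ?_⟩
  have h2 : 2 ≤ Nat.card F := Finite.one_lt_card
  rcases h2.eq_or_lt with hq | hq
  · obtain ⟨p', hp'⟩ := h.tv_two hq.symm hp
    exact h.inT_of_tv hp'
  · obtain ⟨p', hp'⟩ := h.tv_of_sw hq hp
    exact h.inT_of_tv hp'

end CfsgLib.SLA
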