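import Mathlib
import Cfsg.Agent.Lib.SLA.Cen
import Cfsg.Agent.Lib.SLA.Pfc

/-!
# Graph involutions
-/

set_option autoImplicit false
set_option linter.unusedSectionVars false
set_option linter.unusedVariables false

namespace CfsgLib.SLA

open CfsgLib.RGD CfsgLib.Stein Subgroup
open scoped commutatorElement Pointwise

universe u

variable {ι κ : Type} [Fintype κ] [DecidableEq κ] [Finite ι] {Φ : RootSys ι κ} {E : ER Φ}
  {F : Type} [Field F] [Finite F] [CharP F 2] {G : Type u} [Group G] [Finite G]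
  {S : StSys Φ F G}

namespace Amb

variable (A : Amb E S) {s : G} {π : Equiv.Perm ι}
include A

omit A in
theorem gr_lay {m : ℤ} (hm : 1 ≤ m) :
    Lay Φ {r | Φ.Pos r ∧ m ≤ Φ.ht r} {r | Φ.Pos r ∧ m + 1 ≤ Φ.ht r} :=
  ⟨fun _ h => h.1, fun _ h => ⟨h.1, by have := h.2; omega⟩, fun a ha b hb k hk =>
    ⟨radd_pos hk ha.1 hb.1, by have := ha.2; have := hb.2; have := radd_ht hk; omega⟩⟩

theorem gr_comm {m n : ℤ} {u v : G} (hu : u ∈ S.UU {r | Φ.Pos r ∧ m ≤ Φ.ht r})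
    (hv : v ∈ S.UU {r | Φ.Pos r ∧ n ≤ Φ.ht r}) :
    u * v * u⁻¹ * v⁻¹ ∈ S.UU {r | Φ.Pos r ∧ m + n ≤ Φ.ht r} :=
  A.comm_mem_wt Φ.ht (fun _ => Φ.ht_pos) (fun _ _ _ => radd_ht) hu hv

/-- `U` acts trivially on the height layers -/
theorem gr_conj {m : ℤ} (hm : 1 ≤ m) {u v : G} (hu : u ∈ S.U)
    (hv : v ∈ S.UU {r | Φ.Pos r ∧ m ≤ Φ.ht r}) : u * v * u⁻¹ ∈ S.UU {r | Φ.Pos r ∧ m ≤ Φ.ht r} ∧
      ∀ r, Φ.ht r = m → cf S (u * v * u⁻¹) r = cf S v r := by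
  have h1 := A.gr_comm (m := 1) (S.UU_mono (fun r hr => And.intro hr (Φ.ht_pos hr)) hu) hv
  rw [add_comm] at h1
  have h2 := S.UU_mono (gr_lay (Φ := Φ) hm).sub h1
  rw [← inv_mul_cancel_right (u * v * u⁻¹) v]
  refine ⟨mul_mem h2 hv, fun r hr => ?_⟩
  have h3 : r ∉ {r | Φ.Pos r ∧ m + 1 ≤ Φ.ht r} := fun h => by have := h.2; omega
  rw [A.cf_mul (gr_lay hm) h2 hv h3, A.cf_eq_zero (E.closed_of_idl (E.idl_ht _)) (fun _ h => h.1) h1 h3,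
    zero_add]

theorem gr_exists {T T' Ψ : Set ι} (h : Lay Φ T T') (hΨ : Ψ ⊆ T) (t : ι → F) :
    ∃ a ∈ S.UU Ψ, ∀ r, r ∉ T' → (r ∈ Ψ → cf S a r = t r) ∧ (r ∉ Ψ → cf S a r = 0) := by
  obtain ⟨L, hL, hm⟩ := StSys.exists_list Ψ
  refine ⟨S.xprod L t, S.xprod_mem_UU (fun r hr => (hm r).1 hr) t, fun r hr => ?_⟩
  rw [← hm]
  exact A.cf_xprod h hL (fun r hr => hΨ ((hm r).1 hr)) t hr

theorem gr_d {δ : G} {d : ι → F} (h : StdD S δ E.γ d 1) (h2 : δ * δ = 1) (r : ι) :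
    d (E.γ r) * d r = 1 := by
  have e : δ * (δ * S.x r 1 * δ⁻¹) * δ⁻¹ = S.x r 1 := by
    rw [show δ * (δ * S.x r 1 * δ⁻¹) * δ⁻¹ = (δ * δ) * S.x r 1 * (δ * δ)⁻¹ by group, h2]; group
  rw [h.2, h.2] at e
  have := (A.x_inj one_ne_zero e.symm).2
  simpa using this.symm

theorem gr_cent {δ : G} {d : ι → F} (h : StdD S δ E.γ d 1) (h2 : δ * δ = 1) {v : G}
    (hv : v ∈ S.UU {r | Φ.Pos r ∧ E.γ r = r}) : δ * v = v * δ := by
  refine (mem_cent_UU.2 fun r hr c => ?_ : δ ∈ centralizer _) v hv |>.symm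
  have h1 := A.gr_d h h2 r
  rw [hr.2] at h1
  have h3 : d r = 1 := by
    rcases mul_self_eq_one_iff.1 h1 with e | e
    · exact e
    · rw [e, CharTwo.neg_eq]
  have := h.2 r c
  rw [hr.2, h3, one_mul, mul_inv_eq_iff_eq_mul] at this
  exact this.symm

theorem gr_closed : Φ.Closed {r | Φ.Pos r ∧ E.γ r = r} :=
  E.closed_of (fun _ h => h.1) fun a ha b hb k hk => ⟨radd_pos hk ha.1 hb.1, by
    have := E.γa a b k hk
    rw [ha.2, hb.2] at this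
    exact this.unique' hk⟩

theorem gr_std (h : Typ S s E.γ 1) (s2 : s * s = 1) (hU : s ∈ normalizer (S.U : Set G)) :
    ∃ v ∈ S.U, ∃ δ d, StdD S δ E.γ d 1 ∧ δ * δ = 1 ∧ s = v * δ := by
  obtain ⟨u, hu, ⟨d, hd⟩, h2⟩ := A.exists_std_inv h (Or.inr rfl) hU s2
  exact ⟨u⁻¹, inv_mem hu, u * s, d, hd, h2, by group⟩

theorem gr_step {δ v y : G} {d : ι → F} (h : StdD S δ E.γ d 1) (h2 : δ * δ = 1) {m : ℤ} (hm : 1 ≤ m)
    (hv : v ∈ S.UU {r | Φ.Pos r ∧ E.γ r = r}) (hy : y ∈ S.UU {r | Φ.Pos r ∧ m ≤ Φ.ht r})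
    (e : v * y * δ * (v * y * δ) = 1) : ∃ a ∈ S.U, ∃ v' ∈ S.UU {r | Φ.Pos r ∧ E.γ r = r},
      ∃ y' ∈ S.UU {r | Φ.Pos r ∧ m + 1 ≤ Φ.ht r}, a * (v * y * δ) * a⁻¹ = v' * y' * δ := by
  have L := gr_lay (Φ := Φ) hm
  have nm : ∀ r, Φ.ht r = m → r ∉ {r | Φ.Pos r ∧ m + 1 ≤ Φ.ht r} := fun r hr h => by
    have := h.2; omega
  have inv : ∀ n r, E.γ r ∈ {r | Φ.Pos r ∧ n ≤ Φ.ht r} ↔ r ∈ {r | Φ.Pos r ∧ n ≤ Φ.ht r} := fun n r => by
    simp only [Set.mem_setOf_eq, E.γ_pos, E.γ_ht]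
  have hvU : v ∈ S.U := S.UU_le_U (fun _ h => h.1) hv
  have cm : ∀ {a}, a ∈ S.UU {r | Φ.Pos r ∧ m ≤ Φ.ht r} → δ * a * δ⁻¹ ∈ S.UU {r | Φ.Pos r ∧ m ≤ Φ.ht r} :=
    fun ha => h.conj_mem (fun r hr => (inv m r).2 hr) ha
  have cs : ∀ {a}, a ∈ S.UU {r | Φ.Pos r ∧ m ≤ Φ.ht r} → ∀ r, Φ.ht r = m →
      cf S (δ * a * δ⁻¹) r = d (E.γ r) * cf S a (E.γ r) := fun ha r hr => by
    have := A.cf_std L h (inv _) (inv _) ha (nm (E.γ r) ((E.γ_ht r).trans hr))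
    rwa [E.γ2] at this
  have e1 : y * (v * (δ * y * δ⁻¹) * v⁻¹) = (v * v)⁻¹ := by
    have c := A.gr_cent h h2 hv
    have i : δ⁻¹ = δ := inv_eq_of_mul_eq_one_right h2
    calc y * (v * (δ * y * δ⁻¹) * v⁻¹) = v⁻¹ * (v * y * (v * δ) * y * δ⁻¹) * v⁻¹ := by group
      _ = v⁻¹ * (v * y * δ * (v * y * δ)) * v⁻¹ := by rw [← c, i]; group
      _ = _ := by rw [e]; group
  have k1 : ∀ r, Φ.ht r = m → E.γ r ≠ r → cf S y r + d (E.γ r) * cf S y (E.γ r) = 0 := fun r hr hr' => by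
    obtain ⟨a1, a2⟩ := A.gr_conj hm hvU (cm hy)
    rw [← cs hy r hr, ← a2 r hr, ← A.cf_mul L hy a1 (nm r hr), e1]
    exact A.cf_eq_zero A.gr_closed (fun _ h => h.1) (inv_mem (mul_mem hv hv)) fun h => hr' h.2
  let f := Finite.equivFin ι
  obtain ⟨a, ha, ca⟩ := A.gr_exists L (Ψ := {r | (Φ.Pos r ∧ m ≤ Φ.ht r) ∧ f r < f (E.γ r)})
    (fun _ h => h.1) (cf S y)
  have ha' := S.UU_mono (fun _ h => h.1) ha
  obtain ⟨b1, b2⟩ := A.gr_conj hm (inv_mem hvU) (inv_mem ha')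
  have hy₁ := mul_mem (mul_mem b1 hy) (cm ha')
  obtain ⟨b, hb, cb⟩ := A.gr_exists L (Ψ := {r | (Φ.Pos r ∧ m ≤ Φ.ht r) ∧ E.γ r = r})
    (fun _ h => h.1) (cf S (v⁻¹ * a⁻¹ * v⁻¹⁻¹ * y * (δ * a * δ⁻¹)))
  have hb' := S.UU_mono (fun _ h => h.1) hb
  refine ⟨a⁻¹, inv_mem (S.UU_le_U (fun _ h => h.1) ha'), v * b,
    mul_mem hv (S.UU_mono (fun _ h => And.intro h.1.1 h.2) hb), _,
    A.mul_inv_mem L (inv_mem hb') (inv_mem hy₁) fun r hr hr' => ?_, by group⟩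
  have hm' : Φ.ht r = m := le_antisymm (by by_contra h3; exact hr' ⟨hr.1, by omega⟩) hr.2
  rw [A.cf_inv L hb' hr', A.cf_inv L hy₁ hr']
  by_cases h3 : E.γ r = r
  · exact (cb r hr').1 ⟨hr, h3⟩
  have hr2 := nm (E.γ r) ((E.γ_ht r).trans hm')
  rw [(cb r hr').2 fun h => h3 h.2, A.cf_mul L (mul_mem b1 hy) (cm ha') hr', A.cf_mul L b1 hy hr',
    b2 r hm', A.cf_inv L ha' hr', cs ha' r hm']
  rcases lt_or_gt_of_ne (fun h4 => h3 (f.injective h4).symm : f r ≠ f (E.γ r)) with h4 | h4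
  · rw [(ca r hr').1 ⟨hr, h4⟩, (ca _ hr2).2 fun h => absurd h.2 (by rw [E.γ2]; exact not_lt.2 h4.le),
      CharTwo.add_self_eq_zero, mul_zero, add_zero]
  · rw [(ca r hr').2 fun h => absurd h.2 (not_lt.2 h4.le), (ca _ hr2).1 ⟨(inv m r).2 hr, by rwa [E.γ2]⟩,
      zero_add, k1 r hm' h3]

/-- a graph involution `v δ` is conjugate to `w δ` with `w` a product of fixed root elements -/
theorem graph_form {δ v : G} {d : ι → F} (hd : StdD S δ E.γ d 1) (h2 : δ * δ = 1) (hv : v ∈ S.U)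
    (s2 : v * δ * (v * δ) = 1) : ∃ u ∈ S.U, ∃ w ∈ S.UU {r | Φ.Pos r ∧ E.γ r = r},
      u * (v * δ) * u⁻¹ = w * δ := by
  have key : ∀ n : ℕ, ∃ u ∈ S.U, ∃ w ∈ S.UU {r | Φ.Pos r ∧ E.γ r = r},
      ∃ y ∈ S.UU {r | Φ.Pos r ∧ (n : ℤ) + 1 ≤ Φ.ht r}, u * (v * δ) * u⁻¹ = w * y * δ := fun n => by
    induction n with
    | zero => exact ⟨1, one_mem _, 1, one_mem _, v,
        S.UU_mono (fun r hr => And.intro hr (by have := Φ.ht_pos hr; omega)) hv, by group⟩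
    | succ n ih =>
      obtain ⟨u, hu, w, hw, y, hy, e1⟩ := ih
      obtain ⟨a, ha, w', hw', y', hy', e2⟩ := A.gr_step hd h2 (by omega) hw hy (by
        rw [← e1, conj_mul, s2]; group)
      exact ⟨a * u, mul_mem ha hu, w', hw', y', by push_cast; exact hy', by rw [← e2, ← e1]; group⟩
  obtain ⟨u, hu, w, hw, y, hy, e1⟩ := key (Φ.ht E.θ).toNat
  have h3 : y = 1 := by
    have := S.UU_mono (Ψ' := ∅) (fun k hk => by
      have := hk.2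
      by_cases h6 : k = E.θ
      · rw [h6] at this; omega
      · have := E.ht_lt_θ h6; omega) hy
    rwa [S.UU_empty, mem_bot] at this
  rw [h3, mul_one] at e1
  exact ⟨u, hu, w, hw, e1⟩

theorem gr_cc {T T' : Set ι} (h : ∀ a ∈ T, ∀ b ∈ T', 0 ≤ ip Φ a b) {u v : G} (hu : u ∈ S.UU T)
    (hv : v ∈ S.UU T') : u * v = v * u :=
  (mem_cent_UU.2 fun r hr c => ((mem_cent_UU.2 fun s hs e => (A.com (h r hr s hs) c e).symm :
    S.x r c ∈ centralizer (S.UU T' : Set G)) v hv).symm : v ∈ centralizer (S.UU T : Set G)) u hu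

theorem gr_xc {T : Set ι} {a : ι} (h : ∀ b ∈ T, 0 ≤ ip Φ a b) (c : F) {v : G} (hv : v ∈ S.UU T) :
    S.x a c * v = v * S.x a c :=
  ((mem_cent_UU.2 fun s hs e => (A.com (h s hs) c e).symm :
    S.x a c ∈ centralizer (S.UU T : Set G)) v hv).symm

theorem gr_d1 {δ : G} {d : ι → F} (h : StdD S δ E.γ d 1) (h2 : δ * δ = 1) {r : ι} (hr : E.γ r = r) :
    d r = 1 := by
  have h1 := A.gr_d h h2 r
  rw [hr] at h1
  rcases mul_self_eq_one_iff.1 h1 with e | e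
  · exact e
  · rw [e, CharTwo.neg_eq]

omit A in
theorem gr_sqrt (c : F) : ∃ a : F, a * a = c := by
  obtain ⟨a, ha⟩ := FiniteField.isSquare_of_char_two (ringChar.eq F 2) c
  exact ⟨a, ha.symm⟩

omit A in
theorem gr_fx {a b : ι} (ha : a ∈ {r | Φ.Pos r ∧ E.γ r = r}) (hb : b ∈ {r | Φ.Pos r ∧ E.γ r = r}) :
    0 ≤ ip Φ a b := by
  obtain ⟨a1, a2⟩ := ha
  obtain ⟨b1, b2⟩ := hb
  rw [E.pos_iff] at a1 b1; rw [E.γ_fix_iff] at a2 b2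
  rw [E.nonneg_iff]; omega

theorem gr_sq {w : G} (hw : w ∈ S.UU {r | Φ.Pos r ∧ E.γ r = r}) : w * w = 1 := by
  refine S.UU_induction (p := fun a => a * a = 1) (one_mul 1) (fun k hk t g hg h6 => ?_) hw
  rw [mul_assoc, ← mul_assoc _ g, A.gr_xc (fun b hb => gr_fx hk hb) t hg, mul_assoc, A.x_sq, mul_one, h6]

theorem gr_op_odd (hm : Odd E.m) {δ : G} {d : ι → F} (hd : StdD S δ E.γ d 1) (h2 : δ * δ = 1) {r : ι}
    (hr : r ∈ {r | Φ.Pos r ∧ E.γ r = r}) (c : F) : ∃ u ∈ S.U,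
      (∀ w ∈ S.UU {r | Φ.Pos r ∧ E.γ r = r}, u * w = w * u) ∧ u * δ * u⁻¹ = S.x r c * δ := by
  obtain ⟨l, hl⟩ := hm
  obtain ⟨r1, r2⟩ := hr
  have := E.bd r
  rw [E.pos_iff] at r1; rw [E.γ_fix_iff] at r2
  obtain ⟨ρ, p1, p2⟩ := E.exists_e (i := E.lo r) (j := l) (by omega) (by omega) (by omega)
  have g1 := E.γ_co ρ
  obtain ⟨a, ha⟩ := gr_sqrt (c / d ρ)
  have d0 := hd.ne_zero ρ
  have e1 : δ * S.x ρ a * δ⁻¹ = S.x (E.γ ρ) (d ρ * a) := hd.2 ρ a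
  have e2 : δ * S.x (E.γ ρ) (d ρ * a) * δ⁻¹ = S.x ρ a := by
    rw [← e1, show δ * (δ * S.x ρ a * δ⁻¹) * δ⁻¹ = (δ * δ) * S.x ρ a * (δ * δ)⁻¹ by group, h2]; group
  have e3 := A.rel.cm ρ (E.γ ρ) r (by rw [E.radd_iff]; omega) a (d ρ * a)
  rw [show a * (d ρ * a) = c by rw [mul_left_comm, ha]; field_simp] at e3
  have k : ∀ s, 2 * E.lo s + 1 = E.m ∨ 2 * E.hi s + 1 = E.m → E.lo s < E.hi s → ∀ e,
      ∀ w ∈ S.UU {r | Φ.Pos r ∧ E.γ r = r}, S.x s e * w = w * S.x s e := fun s h1 h3 e w hw =>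
    A.gr_xc (fun b hb => by
      obtain ⟨b1, b2⟩ := hb
      rw [E.pos_iff] at b1; rw [E.γ_fix_iff] at b2
      rw [E.nonneg_iff]; omega) e hw
  refine ⟨S.x ρ a * S.x (E.γ ρ) (d ρ * a), mul_mem (S.x_mem_UU (E.pos_iff.2 (by omega)) _)
    (S.x_mem_UU (E.pos_iff.2 (by omega)) _), fun w hw => ?_, ?_⟩
  · rw [mul_assoc, k _ (by omega) (by omega) _ w hw, ← mul_assoc, k _ (by omega) (by omega) _ w hw,
      mul_assoc]
  · rw [← e3]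
    calc _ = S.x ρ a * S.x (E.γ ρ) (d ρ * a) * (δ * S.x (E.γ ρ) (d ρ * a) * δ⁻¹)⁻¹ *
          (δ * S.x ρ a * δ⁻¹)⁻¹ * δ := by group
      _ = _ := by rw [e1, e2]

theorem gr_odd (hm : Odd E.m) {δ w : G} {d : ι → F} (hd : StdD S δ E.γ d 1) (h2 : δ * δ = 1)
    (hw : w ∈ S.UU {r | Φ.Pos r ∧ E.γ r = r}) : ∃ u ∈ S.U, u * (w * δ) * u⁻¹ = δ := by
  refine S.UU_induction (p := fun w => ∃ u ∈ S.U, u * (w * δ) * u⁻¹ = δ) ⟨1, one_mem _, by group⟩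
    (fun r hr c g hg ih => ?_) hw
  obtain ⟨u, hu, e⟩ := ih
  obtain ⟨u', hu', c1, c2⟩ := A.gr_op_odd hm hd h2 hr c
  refine ⟨u * u'⁻¹, mul_mem hu (inv_mem hu'), ?_⟩
  rw [mul_assoc g, ← c2, ← mul_assoc g, ← mul_assoc g, ← c1 g hg]
  calc _ = u * (g * δ) * u⁻¹ := by group
    _ = _ := e

/-- odd dimension: one class -/
theorem graph_odd (hm : Odd E.m) {δ v : G} {d : ι → F} (hd : StdD S δ E.γ d 1) (h2 : δ * δ = 1)
    (hv : v ∈ S.U) (s2 : v * δ * (v * δ) = 1) : ∃ u ∈ S.U, u * (v * δ) * u⁻¹ = δ := by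
  obtain ⟨u, hu, w, hw, e⟩ := A.graph_form hd h2 hv s2
  obtain ⟨u', hu', e'⟩ := A.gr_odd hm hd h2 hw
  refine ⟨u' * u, mul_mem hu' hu, ?_⟩
  calc _ = u' * (u * (v * δ) * u⁻¹) * u'⁻¹ := by group
    _ = _ := by rw [e, e']

theorem gr_op_even (hm : Even E.m) {δ : G} {d : ι → F} (hd : StdD S δ E.γ d 1) (h2 : δ * δ = 1)
    {r r' : ι} (hr : r ∈ {r | Φ.Pos r ∧ E.γ r = r}) (hr' : r' ∈ {r | Φ.Pos r ∧ E.γ r = r})
    (hn : r ≠ r') {c : F} (hc : c ≠ 0) (e : F) {w : G}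
    (hw : w ∈ S.UU {s | (Φ.Pos s ∧ E.γ s = s) ∧ s ≠ r}) :
    ∃ g ∈ S.grp, g * (S.x r c * w * δ) * g⁻¹ = S.x r c * S.x r' e * w * δ := by
  obtain ⟨l, hl⟩ := hm
  have d1 := A.gr_d1 hd h2 hr.2
  obtain ⟨r1, r2⟩ := hr
  obtain ⟨r3, r4⟩ := hr'
  have := E.bd r; have := E.bd r'
  rw [E.pos_iff] at r1 r3; rw [E.γ_fix_iff] at r2 r4; rw [Ne, E.eq_iff] at hn
  obtain ⟨ρ, p1, p2⟩ := E.exists_e (i := E.lo r') (j := E.lo r) (by omega) (by omega) (by omega)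
  obtain ⟨σ, q1, q2⟩ := E.exists_e (i := E.lo r') (j := E.hi r) (by omega) (by omega) (by omega)
  have g1 := E.γ_co ρ; have g2 := E.γ_co σ
  have d0 := hd.ne_zero ρ
  obtain ⟨a, ha⟩ := gr_sqrt (e / (d ρ * c))
  have a1 : RAdd Φ ρ r σ := by rw [E.radd_iff]; omega
  have a2 : RAdd Φ (E.γ ρ) r (E.γ σ) := by rw [E.radd_iff]; omega
  have a3 : RAdd Φ ρ (E.γ σ) r' := by rw [E.radd_iff]; omega
  have d2 : d σ = d ρ := by rw [A.d_add hd (E.gp (.inr rfl)) a1, d1, mul_one]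
  have e1 : δ * S.x ρ a * δ⁻¹ = S.x (E.γ ρ) (d ρ * a) := hd.2 ρ a
  have e2 : δ * S.x (E.γ ρ) (d ρ * a) * δ⁻¹ = S.x ρ a := by
    rw [← e1, show δ * (δ * S.x ρ a * δ⁻¹) * δ⁻¹ = (δ * δ) * S.x ρ a * (δ * δ)⁻¹ by group, h2]; group
  have e3 : δ * S.x σ (a * c) * δ⁻¹ = S.x (E.γ σ) (d ρ * a * c) := by
    rw [hd.2 σ, d2, mul_assoc]; rfl
  have c1 : S.x ρ a * S.x (E.γ ρ) (d ρ * a) = S.x (E.γ ρ) (d ρ * a) * S.x ρ a :=
    A.com (by rw [E.nonneg_iff]; omega) _ _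
  have k : ∀ s, (∀ b, E.lo b < E.hi b → E.lo b + E.hi b + 1 = E.m → E.lo b ≠ E.lo r →
      E.lo s ≠ E.hi b ∧ E.hi s ≠ E.lo b) → ∀ e, S.x s e * w = w * S.x s e := fun s h1 e =>
    A.gr_xc (fun b hb => by
      obtain ⟨⟨b1, b2⟩, b3⟩ := hb
      rw [E.pos_iff] at b1; rw [E.γ_fix_iff] at b2; rw [Ne, E.eq_iff] at b3
      rw [E.nonneg_iff]; exact h1 b b1 b2 (by omega)) e hw
  have k1 := k ρ (fun b _ _ _ => by omega) a
  have k2 := k (E.γ ρ) (fun b _ _ _ => by omega) (d ρ * a)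
  have k3 := k σ (fun b _ _ _ => by omega) (a * c)
  have k4 := k (E.γ σ) (fun b _ _ _ => by omega) (d ρ * a * c)
  have f1 := A.conj_x a1 a c
  have f2 := A.conj_x a2 (d ρ * a) c
  have f3 := A.conj_x a3 a (d ρ * a * c)
  rw [show a * (d ρ * a * c) = e by
    rw [show a * (d ρ * a * c) = a * a * (d ρ * c) by ring, ha]; field_simp] at f3
  have m1 : S.x σ (a * c) * S.x r c = S.x r c * S.x σ (a * c) := A.com (by rw [E.nonneg_iff]; omega) _ _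
  have m2 : S.x (E.γ σ) (d ρ * a * c) * S.x r' e = S.x r' e * S.x (E.γ σ) (d ρ * a * c) :=
    A.com (by rw [E.nonneg_iff]; omega) _ _
  have m3 := A.x_sq (E.γ σ) (d ρ * a * c)
  refine ⟨(S.x σ (a * c))⁻¹ * (S.x ρ a * S.x (E.γ ρ) (d ρ * a)), mul_mem (inv_mem (S.x_mem_grp _ _))
    (mul_mem (S.x_mem_grp _ _) (S.x_mem_grp _ _)), ?_⟩
  generalize S.x ρ a = x at *
  generalize S.x (E.γ ρ) (d ρ * a) = x' at *
  generalize S.x σ (a * c) = y at *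
  generalize S.x (E.γ σ) (d ρ * a * c) = y' at *
  generalize S.x r c = X at *
  generalize S.x r' e = Z at *
  have n1 : x * x' * δ * (x * x')⁻¹ = δ := by
    calc _ = x * x' * ((δ * x * δ⁻¹) * (δ * x' * δ⁻¹))⁻¹ * δ := by group
      _ = _ := by rw [e1, e2, ← c1]; group
  have n2 : x * x' * w * (x * x')⁻¹ = w := by
    rw [mul_assoc x, k2, ← mul_assoc x, k1]; group
  have n3 : x * x' * X * (x * x')⁻¹ = y * X * (Z * y') := by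
    calc _ = x * (x' * X * x'⁻¹) * x⁻¹ := by group
      _ = (x * X * x⁻¹) * (x * y' * x⁻¹) := by rw [f2]; group
      _ = _ := by rw [f1, f3, m1, m2]
  calc _ = y⁻¹ * ((x * x' * X * (x * x')⁻¹) * (x * x' * w * (x * x')⁻¹) * (x * x' * δ * (x * x')⁻¹)) *
        y := by group
    _ = X * Z * (y' * w) * (δ * y * δ⁻¹) * δ := by rw [n1, n2, n3]; group
    _ = X * Z * w * (y' * y') * δ := by rw [e3, k4]; group
    _ = _ := by rw [m3, mul_one]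

theorem gr_even (hm : Even E.m) {δ : G} {d : ι → F} (hd : StdD S δ E.γ d 1) (h2 : δ * δ = 1)
    (L : List ι) (hL : L.Nodup) (h1 : ∀ r ∈ L, (Φ.Pos r ∧ E.γ r = r) ∧ r ≠ E.θ) (t : ι → F) (c : F) :
    ∃ g ∈ S.grp, ∃ c', g * (S.x E.θ c * S.xprod L t * δ) * g⁻¹ = S.x E.θ c' * δ := by
  have hθ : E.θ ∈ {r | Φ.Pos r ∧ E.γ r = r} := ⟨E.pos_θ, E.γ_θ⟩
  induction L generalizing c with
  | nil => exact ⟨1, one_mem _, c, by simp [StSys.xprod]⟩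
  | cons r L ih =>
    rw [List.nodup_cons] at hL
    replace ih := ih hL.2 fun s hs => h1 s (List.mem_cons_of_mem _ hs)
    obtain ⟨r1, r2⟩ := h1 r List.mem_cons_self
    have e : S.xprod (r :: L) t = S.x r (t r) * S.xprod L t := by simp [StSys.xprod]
    rw [e]
    have key : ∀ c, c ≠ 0 → ∃ g ∈ S.grp, ∃ c',
        g * (S.x E.θ c * (S.x r (t r) * S.xprod L t) * δ) * g⁻¹ = S.x E.θ c' * δ := fun c hc => by
      obtain ⟨g, hg, e1⟩ := A.gr_op_even hm hd h2 hθ r1 r2.symm hc (t r)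
        (S.xprod_mem_UU (fun s hs => h1 s (List.mem_cons_of_mem _ hs)) t)
      obtain ⟨g', hg', c', e2⟩ := ih c
      refine ⟨g' * g⁻¹, mul_mem hg' (inv_mem hg), c', ?_⟩
      rw [← mul_assoc (S.x E.θ c), ← e1, ← e2]; group
    by_cases hc : c = 0
    · by_cases ht : t r = 0
      · rw [ht, S.x_zero, one_mul]; exact ih c
      obtain ⟨g, hg, e1⟩ := A.gr_op_even hm hd h2 r1 hθ r2 ht 1 (w := S.xprod L t)
        (S.xprod_mem_UU (fun s hs => And.intro (h1 s (List.mem_cons_of_mem _ hs)).1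
          fun e : s = r => hL.1 (e ▸ hs)) t)
      obtain ⟨g', hg', c', e2⟩ := key 1 one_ne_zero
      refine ⟨g' * g, mul_mem hg' hg, c', ?_⟩
      rw [A.com (gr_fx r1 hθ), mul_assoc (S.x E.θ 1)] at e1
      rw [hc, S.x_zero, one_mul, ← e2, ← e1]; group
    · exact key c hc

/-- even dimension: two classes -/
theorem graph_even (hm : Even E.m) {δ v : G} {d : ι → F} (hd : StdD S δ E.γ d 1) (h2 : δ * δ = 1)
    (hv : v ∈ S.U) (s2 : v * δ * (v * δ) = 1) :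
    ∃ g ∈ S.grp, ∃ c, g * (v * δ) * g⁻¹ = S.x E.θ c * δ := by
  obtain ⟨u, hu, w, hw, e⟩ := A.graph_form hd h2 hv s2
  obtain ⟨L, hL, hm'⟩ := StSys.exists_list {r | (Φ.Pos r ∧ E.γ r = r) ∧ r ≠ E.θ}
  obtain ⟨t, -, rfl⟩ := S.exists_xprod (L := E.θ :: L) A.gr_closed (fun _ h => h.1)
    (List.nodup_cons.2 ⟨fun h => ((hm' _).1 h).2 rfl, hL⟩) (fun r hr => by
      by_cases h : r = E.θ
      · exact h ▸ List.mem_cons_self
      · exact List.mem_cons_of_mem _ ((hm' r).2 ⟨hr, h⟩)) hw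
  obtain ⟨g, hg, c, e'⟩ := A.gr_even hm hd h2 L hL (fun r hr => (hm' r).1 hr) t (t E.θ)
  refine ⟨g * u, mul_mem hg (S.U_le_grp hu), c, ?_⟩
  rw [← e', show S.x E.θ (t E.θ) * S.xprod L t = S.xprod (E.θ :: L) t by simp [StSys.xprod], ← e]
  group

end Amb

end CfsgLib.SLA
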