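import Mathlib
import Cfsg.Agent.Lib.SLA.Gr

/-!
# Graph involutions: four groups of conjugates
-/

set_option autoImplicit false
set_option linter.unusedSectionVars false
set_option linter.unusedVariables false

namespace CfsgLib.SLA

open CfsgLib.RGD CfsgLib.Stein Subgroup
open scoped commutatorElement Pointwise

universe u

variable {ι κ : Type} [Fintype κ] [DecidableEq κ] [Finite ι] {Φ : RootSys ι κ} {E : ER Φ}
  {F : Type} [Field F] [Finite F] [CharP F 2] {G : Type u} [Group G] [Finite G]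
  {S : StSys Φ F G}

theorem Amb.four_of (A : Amb E S) {s : G} (h : Typ S s E.γ 1) (s2 : s * s = 1)
    (hU : s ∈ normalizer (S.U : Set G)) {r r' : ι} {c c' : F} (hr : E.γ r ≠ r) (hr' : E.γ r' ≠ r')
    (h4 : Φ.ht E.θ < 2 * Φ.ht r') (hc : c ≠ 0) (hc' : c' ≠ 0)
    (h3 : Φ.ht r' < Φ.ht r ∨ (r = r' ∧ c ≠ c')) : ∃ e₁ ∈ S.U, ∃ e₂ ∈ S.U, e₁ ≠ 1 ∧ e₂ ≠ 1 ∧ e₁ ≠ e₂ ∧
      ∀ e, e = e₁ ∨ e = e₂ ∨ e = e₁ * e₂ → e * e = 1 ∧ e * s = s * e ∧
        ∃ u ∈ S.U, s * e = u * s * u⁻¹ := by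
  obtain ⟨v, hv, δ, d, hd, h2, e⟩ := A.gr_std h s2 hU
  have h5 := Φ.ht_pos E.pos_θ
  have h3' : Φ.ht r' ≤ Φ.ht r := h3.elim le_of_lt fun h => h.1 ▸ le_rfl
  have ph : ∀ r, 0 < Φ.ht r → Φ.Pos r := fun r h => pos_iff_ht.2 h
  have is : s⁻¹ = s := inv_eq_of_mul_eq_one_right s2
  have cm : ∀ {m a}, 1 ≤ m → a ∈ S.UU {r | Φ.Pos r ∧ m ≤ Φ.ht r} →
      s * a * s⁻¹ ∈ S.UU {r | Φ.Pos r ∧ m ≤ Φ.ht r} := fun hm ha => by
    rw [e, show ∀ a, v * δ * a * (v * δ)⁻¹ = v * (δ * a * δ⁻¹) * v⁻¹ from fun a => by group]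
    exact (A.gr_conj hm hv (hd.conj_mem
      (fun r hr => And.intro ((E.γ_pos r).2 hr.1) (hr.2.trans (E.γ_ht r).ge)) ha)).1
  have xm : ∀ {m r}, 1 ≤ m → m ≤ Φ.ht r → ∀ c, S.x r c ∈ S.UU {r | Φ.Pos r ∧ m ≤ Φ.ht r} :=
    fun hm hr c => S.x_mem_UU (And.intro (ph _ (by omega)) hr) c
  have lead : ∀ r c, E.γ r ≠ r → 1 ≤ Φ.ht r → cf S (S.x r c * (s * S.x r c * s⁻¹)) r = c :=
    fun r c hr hm => by
    rw [A.cf_mul (Amb.gr_lay hm) (xm hm le_rfl c) (cm hm (xm hm le_rfl c))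
        fun h => by have := h.2; omega,
      A.cf_x_self (ph r hm), e, show v * δ * S.x r c * (v * δ)⁻¹ = v * (δ * S.x r c * δ⁻¹) * v⁻¹ by group,
      hd.2, (A.gr_conj hm hv (xm hm (E.γ_ht r).ge _)).2 r rfl,
      A.cf_x_ne ((E.γ_pos r).2 (ph r hm)) hr.symm, add_zero]
  have m1 : 1 ≤ Φ.ht r' := by omega
  have ab : ∀ a ∈ S.UU {k | Φ.Pos k ∧ Φ.ht r' ≤ Φ.ht k}, ∀ b ∈ S.UU {k | Φ.Pos k ∧ Φ.ht r' ≤ Φ.ht k},
      a * b = b * a := fun a ha b hb => by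
    have := S.UU_mono (Ψ' := ∅) (fun k hk => by
      have := hk.2
      by_cases h6 : k = E.θ
      · rw [h6] at this; omega
      · have := E.ht_lt_θ h6; omega) (A.gr_comm ha hb)
    rw [S.UU_empty, mem_bot] at this
    exact commutatorElement_eq_one_iff_mul_comm.1 this
  have sq : ∀ a ∈ S.UU {k | Φ.Pos k ∧ Φ.ht r' ≤ Φ.ht k}, a * a = 1 := fun a ha => by
    refine S.UU_induction (p := fun a => a * a = 1) (one_mul 1) (fun k hk t g hg h6 => ?_) ha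
    rw [mul_assoc, ← mul_assoc _ g, ← ab g hg _ (S.x_mem_UU hk t), mul_assoc, A.x_sq, mul_one, h6]
  have key : ∀ a ∈ S.UU {k | Φ.Pos k ∧ Φ.ht r' ≤ Φ.ht k}, ∀ x, x = a * (s * a * s⁻¹) →
      x * x = 1 ∧ x * s = s * x ∧ ∃ u ∈ S.U, s * x = u * s * u⁻¹ := by
    rintro a ha _ rfl
    have c := ab a ha _ (cm m1 ha)
    refine ⟨sq _ (mul_mem ha (cm m1 ha)), ?_, a, S.UU_le_U (fun _ h => h.1) ha, ?_⟩
    · calc a * (s * a * s⁻¹) * s = (s * a * s⁻¹) * a * s := by rw [c]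
        _ = _ := by rw [is]; simp only [mul_assoc]
    · rw [c, inv_eq_of_mul_eq_one_right (sq a ha), ← mul_assoc, ← mul_assoc, ← mul_assoc, s2, one_mul, is]
  have x1 := xm m1 h3' c
  have x2 := xm m1 (le_refl (Φ.ht r')) c'
  have U := S.UU_le_U (Ψ := {k | Φ.Pos k ∧ Φ.ht r' ≤ Φ.ht k}) fun _ h => h.1
  refine ⟨_, U (mul_mem x1 (cm m1 x1)), _, U (mul_mem x2 (cm m1 x2)), fun h6 => ?_, fun h6 => ?_,
    fun h6 => ?_, ?_⟩
  · have := lead r c hr (by omega)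
    rw [h6, A.cf_one] at this
    exact hc this.symm
  · have := lead r' c' hr' m1
    rw [h6, A.cf_one] at this
    exact hc' this.symm
  · have := lead r' c' hr' m1
    rcases h3 with h3 | ⟨rfl, h3⟩
    · have x3 := xm (m := Φ.ht r) (by omega) le_rfl c
      rw [← h6, A.cf_eq_zero (E.closed_of_idl (E.idl_ht _)) (fun _ h => h.1)
        (mul_mem x3 (cm (by omega) x3)) fun h => by have := h.2; omega] at this
      exact hc' this.symm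
    · rw [← h6, lead r c hr m1] at this
      exact h3 this
  · rintro _ (rfl | rfl | rfl)
    · exact key _ x1 _ rfl
    · exact key _ x2 _ rfl
    · refine key _ (mul_mem x1 x2) _ ?_
      rw [mul_assoc, ← mul_assoc (s * S.x r c * s⁻¹), ← ab _ x2 _ (cm m1 x1)]; group

theorem Amb.exists_four (A : Amb E S) {s : G} (h : Typ S s E.γ 1) (s2 : s * s = 1)
    (hU : s ∈ normalizer (S.U : Set G)) : ∃ e₁ ∈ S.U, ∃ e₂ ∈ S.U, e₁ ≠ 1 ∧ e₂ ≠ 1 ∧ e₁ ≠ e₂ ∧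
      ∀ e, e = e₁ ∨ e = e₂ ∨ e = e₁ * e₂ → e * e = 1 ∧ e * s = s * e ∧
        ∃ u ∈ S.U, s * e = u * s * u⁻¹ := by
  have co := E.co
  rcases Nat.even_or_odd E.m with hm | hm
  · obtain ⟨l, hl⟩ := hm
    have hβ : E.γ E.β ≠ E.β := by rw [Ne, E.γ_fix_iff]; omega
    by_cases h4 : E.m ≤ 4
    · obtain ⟨ω, w0, w1⟩ := A.exists_ne (A.two_lt h4)
      exact A.four_of h s2 hU hβ hβ (by rw [E.ht_eq, E.ht_eq]; omega) w0 one_ne_zero (.inr ⟨rfl, w1⟩)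
    · obtain ⟨r, r1, r2⟩ := E.exists_e (i := 0) (j := E.m - 3) (by omega) (by omega) (by omega)
      exact A.four_of h s2 hU (r' := r) hβ (by rw [Ne, E.γ_fix_iff]; omega)
        (by rw [E.ht_eq, E.ht_eq]; omega) one_ne_zero one_ne_zero (.inl (by rw [E.ht_eq, E.ht_eq]; omega))
  obtain ⟨v, hv, δ, d, hd, h2, rfl⟩ := A.gr_std h s2 hU
  obtain ⟨u, hu, e⟩ := A.graph_odd hm hd h2 hv s2
  have hθ : E.θ ∈ {r | Φ.Pos r ∧ E.γ r = r} := ⟨E.pos_θ, E.γ_θ⟩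
  obtain ⟨w, hw, w1, w2⟩ : ∃ w ∈ S.UU {r | Φ.Pos r ∧ E.γ r = r}, w ≠ 1 ∧ S.x E.θ 1 ≠ w := by
    rcases A.two_or with hq | hq
    · have := A.five hq
      obtain ⟨r, r1, r2⟩ := E.exists_e (i := 1) (j := E.m - 2) (by omega) (by omega) (by omega)
      refine ⟨S.x r 1, S.x_mem_UU (And.intro (E.pos_iff.2 (by omega)) (E.γ_fix_iff.2 (by omega))) _,
        fun e => one_ne_zero (A.x_eq_one.1 e), fun e => ?_⟩
      have := E.eq_iff.1 (A.x_inj one_ne_zero e).1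
      omega
    · obtain ⟨ω, w0, w1⟩ := A.exists_ne hq
      exact ⟨S.x E.θ ω, S.x_mem_UU hθ _, fun e => w0 (A.x_eq_one.1 e),
        fun e => w1 (A.x_inj one_ne_zero e).2.symm⟩
  have e' : v * δ = u⁻¹ * δ * u := by
    calc _ = u⁻¹ * (u * (v * δ) * u⁻¹) * u := by group
      _ = _ := by rw [e]
  have U := S.UU_le_U (Ψ := {r | Φ.Pos r ∧ E.γ r = r}) fun _ h => h.1
  have key : ∀ a ∈ S.UU {r | Φ.Pos r ∧ E.γ r = r}, ∀ x, x = u⁻¹ * a * u →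
      x * x = 1 ∧ x * (v * δ) = v * δ * x ∧ ∃ u ∈ S.U, v * δ * x = u * (v * δ) * u⁻¹ := by
    rintro a ha _ rfl
    have c := A.gr_cent hd h2 ha
    obtain ⟨u', hu', e1⟩ := A.gr_odd hm hd h2 ha
    rw [e']
    refine ⟨?_, ?_, u⁻¹ * u'⁻¹ * u, mul_mem (mul_mem (inv_mem hu) (inv_mem hu')) hu, ?_⟩
    · calc _ = u⁻¹ * (a * a) * u := by group
        _ = 1 := by rw [A.gr_sq ha]; group
    · calc _ = u⁻¹ * (a * δ) * u := by group
        _ = _ := by rw [← c]; group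
    · calc _ = u⁻¹ * u'⁻¹ * (u' * (δ * a) * u'⁻¹) * u' * u := by group
        _ = _ := by rw [c, e1]; group
  have x1 := S.x_mem_UU hθ (1 : F)
  have cu : ∀ a ∈ S.U, u⁻¹ * a * u ∈ S.U := fun a ha => mul_mem (mul_mem (inv_mem hu) ha) hu
  refine ⟨_, cu _ (U x1), _, cu _ (U hw), fun h6 => ?_, fun h6 => w1 ?_, fun h6 => w2 ?_, ?_⟩
  · refine one_ne_zero (A.x_eq_one (r := E.θ).1 ?_)
    rwa [mul_assoc, inv_mul_eq_one, eq_comm, mul_eq_right] at h6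
  · rwa [mul_assoc, inv_mul_eq_one, eq_comm, mul_eq_right] at h6
  · exact mul_left_cancel (mul_right_cancel h6)
  · rintro _ (rfl | rfl | rfl)
    · exact key _ x1 _ rfl
    · exact key _ hw _ rfl
    · exact key _ (mul_mem x1 hw) _ (by group)

end CfsgLib.SLA
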