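import Mathlib
import Cfsg.Agent.Lib.SLA.Pfc

/-!
# Semilinear involutions
-/

set_option autoImplicit false
set_option linter.unusedSectionVars false

namespace CfsgLib.SLA

open CfsgLib.RGD CfsgLib.Stein Subgroup
open scoped commutatorElement Pointwise

universe u

section ChainCount

variable {G : Type u} [Group G] {t : G} {U : Subgroup G} {k : ℕ} {M : ℕ → Subgroup G}

theorem sm_chain_trunc (c : UFP.Chain t U (k + 1) M) : UFP.Chain t (M k) k M where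
  zero := c.zero
  top := rfl
  mono i hi := c.mono i (by omega)
  tn i hi := c.tn i (by omega)
  cen i hi u hu x hx := c.cen i (by omega) u (c.le (by omega) hu) x hx
  sq i hi := c.sq i (by omega)
  free i hi := c.free i (by omega)

theorem sm_conj_mem {K : Subgroup G} {g x : G} (hg : g ∈ normalizer (K : Set G)) (hx : x ∈ K) :
    g * x * g⁻¹ ∈ K := (mem_normalizer_iff.1 hg x).1 hx

/-- a free action along a chain: the fixed points have order the square root -/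
theorem sm_chain_card [Finite G] (t2 : t * t = 1) (c : UFP.Chain t U k M) :
    Nat.card (U ⊓ centralizer {t} : Subgroup G) ^ 2 = Nat.card U := by
  induction k generalizing U with
  | zero =>
    have : U = ⊥ := c.top.symm.trans c.zero
    subst this
    simp
  | succ k ih =>
    have c' := sm_chain_trunc c
    have h0 := ih c'
    have hU : M (k + 1) = U := c.top
    have hNU : M k ≤ U := c.le (by omega)
    have ti : t⁻¹ = t := inv_eq_of_mul_eq_one_right t2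
    have cen : ∀ u ∈ U, ∀ x ∈ U, u * x * u⁻¹ * x⁻¹ ∈ M k := fun u hu x hx =>
      c.cen k (by omega) u hu x (hU ▸ hx)
    have tU : ∀ x ∈ U, t * x * t⁻¹ * x⁻¹ ∈ U := fun x hx =>
      U.mul_mem (sm_conj_mem c.tU hx) (U.inv_mem hx)
    have lift : ∀ x ∈ U, t * x * t⁻¹ * x⁻¹ ∈ M k → ∃ n ∈ M k, x * n ∈ centralizer {t} := by
      intro x hx h
      have h1 : x⁻¹ * (t * x * t⁻¹) ∈ M k := by
        have := sm_conj_mem (c.norm (by omega : k ≤ k + 1) (U.inv_mem hx)) h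
        rwa [show x⁻¹ * (t * x * t⁻¹ * x⁻¹) * x⁻¹⁻¹ = x⁻¹ * (t * x * t⁻¹) by group] at this
      obtain ⟨v, hv, e⟩ := c'.conj t2 h1 (by
        rw [show x⁻¹ * (t * x * t⁻¹) * t * (x⁻¹ * (t * x * t⁻¹) * t) = x⁻¹ * (t * t) * x by group, t2]
        group)
      refine ⟨v, hv, mem_centralizer_singleton_iff.2 ?_⟩
      calc x * v * t = x * (v * t * v⁻¹) * v := by group
        _ = t * (x * v) := by rw [← e]; group
    haveI hN : ((M k).subgroupOf U).Normal :=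
      (normal_subgroupOf_iff_le_normalizer hNU).2 (c.norm (by omega))
    let p := QuotientGroup.mk' ((M k).subgroupOf U)
    have peq : ∀ a b : U, p a = p b ↔ (a : G)⁻¹ * b ∈ M k := fun a b => QuotientGroup.eq
    let φ : U →* U ⧸ (M k).subgroupOf U := MonoidHom.mk' (fun x => p ⟨_, tU x x.2⟩) (by
      intro x y
      rw [← map_mul, peq]
      have := cen x x.2 _ (U.inv_mem (tU y y.2))
      convert this using 1
      simp only [coe_mul]
      group)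
    have hφ : ∀ x : U, φ x = p ⟨_, tU x x.2⟩ := fun _ => rfl
    have pk : ∀ a : U, p a = 1 ↔ (a : G) ∈ M k := fun a => QuotientGroup.eq_one_iff a
    let C := (centralizer {t}).subgroupOf U
    have l2 : ∀ x : U, t * x * t⁻¹ * (x : G)⁻¹ ∈ M k → p x ∈ C.map p := by
      intro x h
      obtain ⟨n, hn, hc⟩ := lift x x.2 h
      refine ⟨x * ⟨n, hNU hn⟩, hc, ?_⟩
      rw [map_mul, (pk ⟨n, hNU hn⟩).2 hn, mul_one]
    have e1 : φ.range = C.map p := by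
      apply le_antisymm
      · rintro _ ⟨x, rfl⟩
        apply l2
        have := (M k).inv_mem (c.sq k (by omega) _ (hU.ge (tU x x.2)))
        convert this using 1
        calc t * (t * x * t⁻¹ * (x : G)⁻¹) * t⁻¹ * (t * x * t⁻¹ * (x : G)⁻¹)⁻¹
            = (t * t) * x * t⁻¹ * (x : G)⁻¹ * t⁻¹ * (t * x * t⁻¹ * (x : G)⁻¹)⁻¹ := by group
          _ = x * t * (x : G)⁻¹ * t⁻¹ * (t * x * t⁻¹ * (x : G)⁻¹)⁻¹ := by rw [t2, one_mul, ti]
          _ = _ := by group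
      · rintro _ ⟨x, hx, rfl⟩
        have hx' : (x : G) * t = t * x := mem_centralizer_singleton_iff.1 hx
        obtain ⟨y, hy, hm⟩ := c.free k (by omega) x (hU.ge x.2) (by
          rw [← hx']; simp)
        refine ⟨(⟨y, hU.le hy⟩ : U)⁻¹, ?_⟩
        rw [map_inv, inv_eq_iff_eq_inv, eq_inv_iff_mul_eq_one, ← eq_inv_iff_mul_eq_one,
          ← inv_eq_iff_eq_inv, inv_eq_iff_mul_eq_one, ← mul_eq_one_comm, hφ, ← map_mul, pk]
        exact hm
    have e2 : φ.ker.map p = C.map p := by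
      apply le_antisymm
      · rintro _ ⟨x, hx, rfl⟩
        exact l2 x ((pk _).1 hx)
      · apply map_mono
        intro x hx
        have hx' : (x : G) * t = t * x := mem_centralizer_singleton_iff.1 hx
        rw [MonoidHom.mem_ker, hφ, pk]
        show t * x * t⁻¹ * (x : G)⁻¹ ∈ M k
        rw [← hx']; simp
    have n1 := Core.card_map_mul_card_inf_ker φ ⊤
    have n2 := Core.card_map_mul_card_inf_ker p φ.ker
    have n3 := Core.card_map_mul_card_inf_ker p C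
    have e3 : φ.ker ⊓ p.ker = (M k).subgroupOf U := by
      rw [QuotientGroup.ker_mk']
      refine inf_eq_right.2 fun x hx => ?_
      rw [MonoidHom.mem_ker, hφ, pk]
      exact (M k).mul_mem (sm_conj_mem (c.tn k (by omega)) hx) ((M k).inv_mem hx)
    have e4 : C ⊓ p.ker = (M k ⊓ centralizer {t}).subgroupOf U := by
      rw [QuotientGroup.ker_mk', inf_comm]; rfl
    rw [← MonoidHom.range_eq_map, e1, top_inf_eq, card_top] at n1
    rw [e2, e3, Core.card_subgroupOf_of_le hNU] at n2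
    rw [e4, Core.card_subgroupOf_of_le (inf_le_left.trans hNU)] at n3
    have e5 : Nat.card C = Nat.card (U ⊓ centralizer {t} : Subgroup G) := by
      rw [← Core.card_subgroupOf_of_le (inf_le_left : U ⊓ centralizer {t} ≤ U), inf_comm,
        inf_subgroupOf_right]
    rw [← e5, ← n3, ← n1, ← n2, ← h0]
    ring

end ChainCount

theorem sm_comm_mul_mul {G : Type u} [Group G] {a a' b b' : G} (h1 : a * a' = a' * a) (h2 : a * b' = b' * a)
    (h3 : b * a' = a' * b) (h4 : b * b' = b' * b) :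
    ⁅a * a', b * b'⁆ = a * b * a⁻¹ * b⁻¹ * (a' * b' * a'⁻¹ * b'⁻¹) := by
  have c1 : Commute a a' := h1
  have c2 : Commute a b' := h2
  have c3 : Commute b a' := h3
  have c4 : Commute b b' := h4
  have k1 : Commute a⁻¹ (a' * b' * a'⁻¹ * b'⁻¹) :=
    (((c1.mul_right c2).mul_right c1.inv_right).mul_right c2.inv_right).inv_left
  have k2 : Commute b⁻¹ (a' * b' * a'⁻¹ * b'⁻¹) :=
    (((c3.mul_right c4).mul_right c3.inv_right).mul_right c4.inv_right).inv_left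
  calc ⁅a * a', b * b'⁆ = a * (a' * b) * b' * a'⁻¹ * (a⁻¹ * b'⁻¹) * b⁻¹ := by
        rw [commutatorElement_def]; group
    _ = a * b * ((a' * b' * a'⁻¹ * b'⁻¹) * a⁻¹) * b⁻¹ := by
        rw [← h3, c2.inv_inv.eq]; group
    _ = a * b * a⁻¹ * ((a' * b' * a'⁻¹ * b'⁻¹) * b⁻¹) := by rw [← k1.eq]; group
    _ = _ := by rw [← k2.eq]; group

variable {ι κ : Type} [Fintype κ] [DecidableEq κ] [Finite ι] {Φ : RootSys ι κ} {E : ER Φ}
  {F : Type} [Field F] [Finite F] [CharP F 2] {G : Type u} [Group G] [Finite G]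
  {S : StSys Φ F G}

omit [Finite F] [CharP F 2] [Finite G] in
/-- the data for a semilinear involution `s` normalising `U` -/
structure SemiD (E : ER Φ) (S : StSys Φ F G) (s : G) : Prop where
  card : Nat.card (S.U ⊓ centralizer {s} : Subgroup G) ^ 2 = Nat.card F ^ NP Φ
  conj : ∀ u ∈ S.U, u * s * (u * s) = 1 → ∃ v ∈ S.U, u * s = v * s * v⁻¹
  z0 : ∃ c, c ≠ 0 ∧ S.x E.θ c ∈ ⁅S.U ⊓ centralizer {s}, S.U ⊓ centralizer {s}⁆ ∧
    ∃ n ∈ CS S s, ¬ IsPGroup 2 (zpowers (S.x E.θ c * (n * S.x E.θ c * n⁻¹)))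
  cen : ∀ g ∈ NL S, g * g = 1 → g * s = s * g →
    g ∈ centralizer ((S.U ⊓ centralizer {s} : Subgroup G) : Set G) →
    ∃ c, ∃ k ∈ CL S, g = S.x E.θ c * k ∨ g = s * S.x E.θ c * k
  PM : 4 ≤ E.m → S.U ⊓ centralizer {s} ≤ PfC S s

/-- the positive roots of height at least `m` -/
abbrev SmH (Φ : RootSys ι κ) (m : ℤ) : Set ι := {r | Φ.Pos r ∧ m ≤ Φ.ht r}

theorem sm_lay (m : ℤ) : Lay Φ (SmH Φ m) (SmH Φ (m + 1)) where
  pos _ h := h.1
  sub _ h := ⟨h.1, by have := h.2; omega⟩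
  add a ha b hb k h := ⟨radd_pos h ha.1 hb.1, by
    have := radd_ht h; have := ha.2; have := Φ.ht_pos hb.1; omega⟩

omit [Finite ι] [Finite F] [CharP F 2] [Finite G] in
theorem sm_UU_one : S.UU (SmH Φ 1) = S.U := by
  have : SmH Φ 1 = {r | Φ.Pos r} := Set.ext fun r => ⟨fun h => h.1, fun h => ⟨h, Φ.ht_pos h⟩⟩
  rw [this]; rfl

omit [Finite ι] [Finite F] [CharP F 2] [Finite G] in
theorem sm_UU_le (m : ℤ) : S.UU (SmH Φ m) ≤ S.U := S.UU_le_U fun _ h => h.1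

theorem sm_UU_mono {m n : ℤ} (h : m ≤ n) : S.UU (SmH Φ n) ≤ S.UU (SmH Φ m) :=
  S.UU_mono fun _ hk => ⟨hk.1, h.trans hk.2⟩

theorem ER.Gp.sm_mem {π : Equiv.Perm ι} (h : E.Gp π) (m : ℤ) (r : ι) : π r ∈ SmH Φ m ↔ r ∈ SmH Φ m :=
  and_congr (h.pos r) (by rw [h.ht])

omit [Finite ι] [Finite F] [CharP F 2] [Finite G] in
theorem sm_twG_mono {π : Equiv.Perm ι} {d : ι → F} {σ : F ≃+* F} {Ψ Ψ' : Set ι} (h : Ψ ⊆ Ψ') :
    twG S π d σ Ψ ≤ twG S π d σ Ψ' :=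
  closure_mono fun _ ⟨r, hr, hc⟩ => ⟨r, h hr, hc⟩

namespace Amb

variable (A : Amb E S) {s : G} {π : Equiv.Perm ι} {d : ι → F} {σ : F ≃+* F}
include A

theorem sm_key (h : StdD S s π d σ) (hπ : E.Gp π) (s2 : s * s = 1) (r : ι) (c : F) :
    d (π r) * σ (d r * σ c) = c := by
  apply A.nd.x_injective r
  have e := h.2 (π r) (d r * σ c)
  rw [hπ.sq, ← h.2 r c] at e
  rw [← e, show s * (s * S.x r c * s⁻¹) * s⁻¹ = (s * s) * S.x r c * (s * s)⁻¹ by group, s2]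
  group

theorem sm_d (h : StdD S s π d σ) (hπ : E.Gp π) (s2 : s * s = 1) (r : ι) :
    d (π r) * σ (d r) = 1 := by
  simpa using A.sm_key h hπ s2 r 1

theorem sm_σ (h : StdD S s π d σ) (hπ : E.Gp π) (s2 : s * s = 1) : σ * σ = 1 := by
  ext c
  have e := A.sm_key h hπ s2 E.θ c
  rw [map_mul, ← mul_assoc, A.sm_d h hπ s2, one_mul] at e
  exact e

theorem sm_omega (h : StdD S s π d σ) (hπ : E.Gp π) (hσ : σ ≠ 1) (s2 : s * s = 1) :
    ∃ ω : F, ω + σ ω = 1 := by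
  obtain ⟨q₀, -, -, -, -, -, -, h7⟩ := aut_two (A.sm_σ h hπ s2) hσ
  obtain ⟨a, ha⟩ := (h7 1 (by simp)).2 1 (by simp)
  exact ⟨a, by simpa using ha.symm⟩

theorem sm_fixv (h : StdD S s π d σ) (hπ : E.Gp π) (hσ : σ ≠ 1) (s2 : s * s = 1) {r : ι}
    (hr : π r = r) : ∃ c, c ≠ 0 ∧ d r * σ c = c := by
  obtain ⟨q₀, -, -, -, -, -, -, h7⟩ := aut_two (A.sm_σ h hπ s2) hσ
  have := A.sm_d h hπ s2 r
  rw [hr] at this
  exact (h7 _ this).1

theorem sm_scale {T T' : Set ι} (h : Lay Φ T T') (ω : F) {u : G} (hu : u ∈ S.UU T) :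
    ∃ y ∈ S.UU T, ∀ k, k ∉ T' → cf S y k = ω * cf S u k := by
  refine S.UU_induction (p := fun u => ∃ y ∈ S.UU T, ∀ k, k ∉ T' → cf S y k = ω * cf S u k)
    ⟨1, one_mem _, fun k _ => by rw [A.cf_one, mul_zero]⟩ ?_ hu
  rintro r hr t g hg ⟨y, hy, e⟩
  refine ⟨y * S.x r (ω * t), mul_mem hy (S.x_mem_UU hr _), fun k hk => ?_⟩
  rw [A.cf_mul h hy (S.x_mem_UU hr _) hk, A.cf_mul h hg (S.x_mem_UU hr _) hk, e k hk, mul_add]
  congr 1
  by_cases hkr : k = r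
  · rw [hkr, A.cf_x_self (h.pos r hr), A.cf_x_self (h.pos r hr)]
  · rw [A.cf_x_ne (h.pos r hr) hkr, A.cf_x_ne (h.pos r hr) hkr, mul_zero]

theorem sm_cf_std (h : StdD S s π d σ) (hπ : E.Gp π) {m : ℤ} {u : G} (hu : u ∈ S.UU (SmH Φ m))
    {k : ι} (hk : k ∉ SmH Φ (m + 1)) : cf S (s * u * s⁻¹) k = d (π k) * σ (cf S u (π k)) := by
  have := A.cf_std (sm_lay m) h (hπ.sm_mem m) (hπ.sm_mem (m + 1)) hu
    (r := π k) (mt (hπ.sm_mem _ k).1 hk)
  rwa [hπ.sq] at this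

theorem sm_std_mem (h : StdD S s π d σ) (hπ : E.Gp π) {m : ℤ} {u : G} (hu : u ∈ S.UU (SmH Φ m)) :
    s * u * s⁻¹ ∈ S.UU (SmH Φ m) :=
  h.conj_mem (fun r hr => (hπ.sm_mem m r).2 hr) hu

theorem sm_cf_zero {m : ℤ} {u : G} (hu : u ∈ S.UU (SmH Φ m)) {k : ι} (hk : k ∉ SmH Φ m) :
    cf S u k = 0 :=
  A.cf_eq_zero (E.closed_of_idl (E.idl_ht m)) (fun _ h => h.1) hu hk

theorem sm_comm_mem {m n : ℤ} {u v : G} (hu : u ∈ S.UU (SmH Φ m)) (hv : v ∈ S.UU (SmH Φ n)) :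
    u * v * u⁻¹ * v⁻¹ ∈ S.UU (SmH Φ (m + n)) :=
  A.comm_mem_wt Φ.ht (fun _ h => Φ.ht_pos h) (fun _ _ _ h => radd_ht h) hu hv

/-- the trace of a scaled element -/
theorem sm_trace (h : StdD S s π d σ) (hπ : E.Gp π) (hσ : σ ≠ 1) (s2 : s * s = 1) {m : ℤ}
    {x : G} (hx : x ∈ S.UU (SmH Φ m)) (hf : s * x * s⁻¹ * x⁻¹ ∈ S.UU (SmH Φ (m + 1))) :
    ∃ y ∈ S.UU (SmH Φ m), ∀ k, k ∉ SmH Φ (m + 1) →
      cf S x k = cf S y k + cf S (s * y * s⁻¹) k := by
  obtain ⟨ω, hω⟩ := A.sm_omega h hπ hσ s2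
  obtain ⟨y, hy, e⟩ := A.sm_scale (sm_lay m) ω hx
  refine ⟨y, hy, fun k hk => ?_⟩
  have h1 := A.sm_cf_zero hf hk
  rw [A.cf_mul (sm_lay m) (A.sm_std_mem h hπ hx) (inv_mem hx) hk, A.cf_inv (sm_lay m) hx hk,
    A.sm_cf_std h hπ hx hk] at h1
  rw [A.sm_cf_std h hπ hy hk, e k hk, e _ (mt (hπ.sm_mem _ k).1 hk), map_mul]
  have h2 : (2 : F) = 0 := CharTwo.two_eq_zero
  linear_combination (-σ ω) * h1 - cf S x k * hω + (σ ω * cf S x k) * h2

/-- a chain on which a standard semilinear involution acts freely -/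
theorem chain_ht (h : StdD S s π d σ) (hπ : π = 1 ∨ π = E.γ) (hσ : σ ≠ 1) (s2 : s * s = 1) :
    UFP.Chain s S.U (Φ.ht E.θ).toNat fun i => S.UU (SmH Φ (Φ.ht E.θ + 1 - i)) := by
  have gp := E.gp hπ
  have h2 : (2 : F) = 0 := CharTwo.two_eq_zero
  have e : ∀ i : ℕ, Φ.ht E.θ + 1 - (i : ℤ) = Φ.ht E.θ + 1 - ((i + 1 : ℕ) : ℤ) + 1 := fun i => by
    push_cast; ring
  refine ⟨?_, ?_, ?_, ?_, ?_, ?_, ?_⟩
  · have : SmH Φ (Φ.ht E.θ + 1 - ((0 : ℕ) : ℤ)) = ∅ := by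
      refine Set.eq_empty_of_forall_notMem fun r hr => ?_
      have h1 := hr.2
      by_cases h0 : r = E.θ
      · rw [h0] at h1; omega
      · have := E.ht_lt_θ h0; omega
    simp only [this, S.UU_empty]
  · have := Φ.ht_pos E.pos_θ
    simp only [show Φ.ht E.θ + 1 - ((Φ.ht E.θ).toNat : ℤ) = 1 by omega, sm_UU_one]
  · intro i _
    simp only [e i]
    exact S.UU_mono (sm_lay _).sub
  · intro i _
    exact A.std_norm ⟨d, h⟩ fun r hr => (gp.sm_mem _ r).2 hr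
  · intro i _ u hu x hx
    simp only [e i]
    rw [add_comm _ (1 : ℤ)]
    exact A.sm_comm_mem (sm_UU_one (S := S) ▸ hu) hx
  · intro i _ x hx
    simp only [e i]
    refine A.mem_of_cf (sm_UU_le _ (mul_mem hx hx)) fun r _ hr => ?_
    rw [A.cf_mul (sm_lay _) hx hx hr, CharTwo.add_self_eq_zero]
  · intro i _ x hx hf
    simp only [e i] at hf ⊢
    obtain ⟨y, hy, hk⟩ := A.sm_trace h gp hσ s2 hx hf
    have hs := A.sm_std_mem h gp hy
    refine ⟨y, hy, A.mem_of_cf (sm_UU_le _ (mul_mem hx (mul_mem hs (inv_mem hy)))) fun r _ hr => ?_⟩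
    rw [A.cf_mul (sm_lay _) hx (mul_mem hs (inv_mem hy)) hr, A.cf_mul (sm_lay _) hs (inv_mem hy) hr,
      A.cf_inv (sm_lay _) hy hr, hk r hr]
    linear_combination (cf S y r + cf S (s * y * s⁻¹) r) * h2

theorem exists_chain (h : StdD S s π d σ) (hπ : π = 1 ∨ π = E.γ) (hσ : σ ≠ 1) (s2 : s * s = 1) :
    ∃ k M, UFP.Chain s S.U k M := ⟨_, _, A.chain_ht h hπ hσ s2⟩

theorem sm_UU_bot {m : ℤ} (hm : Φ.ht E.θ < m) : S.UU (SmH Φ m) = ⊥ := by
  rw [← S.UU_empty]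
  refine congrArg S.UU (Set.eq_empty_of_forall_notMem fun r hr => ?_)
  have h1 := hr.2
  by_cases h0 : r = E.θ
  · rw [h0] at h1; omega
  · have := E.ht_lt_θ h0; omega

/-- fixed points modulo `U_{≥ m}` lift -/
theorem sm_lift0 (h : StdD S s π d σ) (hπ : π = 1 ∨ π = E.γ) (hσ : σ ≠ 1) (s2 : s * s = 1) {m : ℤ}
    (hm : 1 ≤ m) {x : G} (hx : x ∈ S.U) (hf : s * x * s⁻¹ * x⁻¹ ∈ S.UU (SmH Φ m)) :
    ∃ n ∈ S.UU (SmH Φ m), x * n ∈ centralizer {s} := by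
  by_cases h0 : Φ.ht E.θ < m
  · rw [A.sm_UU_bot h0, mem_bot, mul_inv_eq_one, mul_inv_eq_iff_eq_mul] at hf
    exact ⟨1, one_mem _, by rw [mul_one]; exact mem_centralizer_singleton_iff.2 hf.symm⟩
  have c := A.chain_ht h hπ hσ s2
  have key : ∀ j k, k + j = (Φ.ht E.θ).toNat → UFP.Chain s (S.UU (SmH Φ (Φ.ht E.θ + 1 - k))) k
      fun i => S.UU (SmH Φ (Φ.ht E.θ + 1 - i)) := by
    intro j
    induction j with
    | zero => intro k hk; rw [add_zero] at hk; rw [hk, c.top]; exact c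
    | succ j ih => intro k hk; exact sm_chain_trunc (ih (k + 1) (by omega))
  have c' := key (m - 1).toNat (Φ.ht E.θ + 1 - m).toNat (by omega)
  rw [show Φ.ht E.θ + 1 - ((Φ.ht E.θ + 1 - m).toNat : ℤ) = m by omega] at c'
  have h1 : x⁻¹ * (s * x * s⁻¹) ∈ S.UU (SmH Φ m) := by
    have := sm_conj_mem (S.UU_le_normalizer (StSys.ideal_ht Φ.closed_pos (fun _ h => h) m)
      (inv_mem hx)) hf
    rwa [show x⁻¹ * (s * x * s⁻¹ * x⁻¹) * x⁻¹⁻¹ = x⁻¹ * (s * x * s⁻¹) by group] at this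
  obtain ⟨v, hv, e⟩ := c'.conj s2 h1 (by
    rw [show x⁻¹ * (s * x * s⁻¹) * s * (x⁻¹ * (s * x * s⁻¹) * s) = x⁻¹ * (s * s) * x by group, s2]
    group)
  refine ⟨v, hv, mem_centralizer_singleton_iff.2 ?_⟩
  calc x * v * s = x * (v * s * v⁻¹) * v := by group
    _ = s * (x * v) := by rw [← e]; group

/-- a fixed element with prescribed leading term -/
theorem sm_lift (h : StdD S s π d σ) (hπ : π = 1 ∨ π = E.γ) (hσ : σ ≠ 1) (s2 : s * s = 1) {r : ι}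
    (hr : Φ.Pos r) (c : F) : ∃ p ∈ S.U ⊓ centralizer {s}, ∃ y ∈ S.UU (SmH Φ (Φ.ht r + 1)),
      p = S.x r c * S.x (π r) (d r * σ c) * y := by
  have gp := E.gp hπ
  have h0 := Φ.ht_pos hr
  have h1 : S.x r c ∈ S.UU (SmH Φ (Φ.ht r)) := S.x_mem_UU (show r ∈ SmH Φ (Φ.ht r) from ⟨hr, le_rfl⟩) c
  have h2 := A.sm_std_mem h gp h1
  obtain ⟨n, hn, e⟩ := A.sm_lift0 h hπ hσ s2 (m := Φ.ht r + 1) (by omega)
    (sm_UU_le _ (mul_mem h1 h2)) (by
      have := inv_mem (A.sm_comm_mem h1 h2)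
      refine sm_UU_mono (n := Φ.ht r + Φ.ht r) (by omega) (by
        convert this using 1
        calc _ = s * S.x r c * s⁻¹ * (s * s * S.x r c * (s * s)⁻¹) * (S.x r c * (s * S.x r c * s⁻¹))⁻¹ := by
              group
          _ = _ := by rw [s2]; group))
  exact ⟨_, ⟨mul_mem (sm_UU_le _ (mul_mem h1 h2)) (sm_UU_le _ hn), e⟩, n, hn, by rw [h.2]⟩

/-- a subgroup containing fixed elements with all leading terms contains `C_U(s)` -/
theorem fix_le_of (h : StdD S s π d σ) (hπ : π = 1 ∨ π = E.γ) (hσ : σ ≠ 1) (s2 : s * s = 1)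
    {K : Subgroup G} (hK : ∀ r, Φ.Pos r → ∀ c, ∃ p ∈ K, p ∈ centralizer {s} ∧
      ∃ y ∈ S.UU (SmH Φ (Φ.ht r + 1)), p = S.x r c * S.x (π r) (d r * σ c) * y) :
    S.U ⊓ centralizer {s} ≤ K := by
  have gp := E.gp hπ
  have tw : ∀ {m : ℤ} {y : G}, y ∈ S.UU (SmH Φ m) → ∃ z ∈ K, z ∈ centralizer {s} ∧ z ∈ S.UU (SmH Φ m) ∧
      ∀ k, k ∉ SmH Φ (m + 1) → cf S z k = cf S y k + cf S (s * y * s⁻¹) k := by
    intro m y hy
    refine S.UU_induction (p := fun y => ∃ z ∈ K, z ∈ centralizer {s} ∧ z ∈ S.UU (SmH Φ m) ∧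
        ∀ k, k ∉ SmH Φ (m + 1) → cf S z k = cf S y k + cf S (s * y * s⁻¹) k)
      ⟨1, one_mem _, one_mem _, one_mem _, fun k _ => by simp [A.cf_one]⟩ ?_ hy
    rintro r hr t g hg ⟨z, z1, z2, z3, e⟩
    obtain ⟨p, p1, p2, y, hy, rfl⟩ := hK r hr.1 t
    have hx := S.x_mem_UU hr t
    have hs := A.sm_std_mem h gp hx
    have hy' : y ∈ S.UU (SmH Φ (m + 1)) := sm_UU_mono (by have := hr.2; omega) hy
    have hy'' := S.UU_mono (sm_lay (Φ := Φ) m).sub hy'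
    rw [← h.2] at p1 p2
    refine ⟨_, mul_mem z1 p1, mul_mem z2 p2, mul_mem z3 (mul_mem (mul_mem hx hs) hy''), fun k hk => ?_⟩
    rw [A.cf_mul (sm_lay m) z3 (mul_mem (mul_mem hx hs) hy'') hk, A.cf_mul (sm_lay m) (mul_mem hx hs) hy'' hk,
      A.sm_cf_zero hy' hk, A.cf_mul (sm_lay m) hx hs hk, e k hk,
      A.cf_mul (sm_lay m) hg hx hk, show s * (g * S.x r t) * s⁻¹ = s * g * s⁻¹ * (s * S.x r t * s⁻¹) by
        group, A.cf_mul (sm_lay m) (A.sm_std_mem h gp hg) hs hk]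
    ring
  have key : ∀ n : ℕ, ∀ u ∈ S.UU (SmH Φ (Φ.ht E.θ + 1 - n)), u ∈ centralizer {s} → u ∈ K := by
    intro n
    induction n with
    | zero =>
      intro u hu _
      rw [A.sm_UU_bot (by omega), mem_bot] at hu
      rw [hu]; exact one_mem _
    | succ n ih =>
      intro u hu hc
      have e : Φ.ht E.θ + 1 - (n : ℤ) = Φ.ht E.θ + 1 - ((n + 1 : ℕ) : ℤ) + 1 := by
        push_cast; ring
      have hc' : u * s = s * u := mem_centralizer_singleton_iff.1 hc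
      obtain ⟨y, hy, e1⟩ := A.sm_trace h gp hσ s2 hu (by rw [← hc']; simp)
      obtain ⟨z, z1, z2, z3, e2⟩ := tw hy
      have h3 := ih (u * z⁻¹) (by
        rw [e]
        exact A.mul_inv_mem (sm_lay _) hu z3 fun r _ hr => by rw [e1 r hr, e2 r hr])
        (mul_mem hc (inv_mem z2))
      have := mul_mem h3 z1
      rwa [inv_mul_cancel_right] at this
  intro u hu
  have := Φ.ht_pos E.pos_θ
  refine key (Φ.ht E.θ).toNat u ?_ hu.2
  rw [show Φ.ht E.θ + 1 - ((Φ.ht E.θ).toNat : ℤ) = 1 by omega, sm_UU_one]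
  exact hu.1

theorem card_fix (h : StdD S s π d σ) (hπ : π = 1 ∨ π = E.γ) (hσ : σ ≠ 1) (s2 : s * s = 1) :
    Nat.card (S.U ⊓ centralizer {s} : Subgroup G) ^ 2 = Nat.card F ^ NP Φ := by
  obtain ⟨k, M, c⟩ := A.exists_chain h hπ hσ s2
  rw [sm_chain_card s2 c, A.card_U]

theorem sm_fix_cent (h : StdD S s π d σ) {r : ι} (h1 : π r = r) {c : F} (hc : d r * σ c = c) :
    S.x r c ∈ centralizer {s} := by
  have := h.2 r c
  rw [h1, hc] at this
  exact mem_centralizer_singleton_iff.2 (mul_inv_eq_iff_eq_mul.1 this).symm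

theorem sm_pair_cent (h : StdD S s π d σ) (hπ : E.Gp π) (s2 : s * s = 1) {r : ι}
    (h1 : 0 ≤ ip Φ r (π r)) (c : F) : S.x r c * S.x (π r) (d r * σ c) ∈ centralizer {s} := by
  have e1 := h.2 r c
  have e2 := h.2 (π r) (d r * σ c)
  rw [hπ.sq, A.sm_key h hπ s2] at e2
  refine mem_centralizer_singleton_iff.2 (Eq.symm ?_)
  rw [← mul_inv_eq_iff_eq_mul, show s * (S.x r c * S.x (π r) (d r * σ c)) * s⁻¹ =
    (s * S.x r c * s⁻¹) * (s * S.x (π r) (d r * σ c) * s⁻¹) by group, e1, e2, A.com h1]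

/-- a semilinear involution normalising `U` is conjugate to a standard one -/
theorem exists_conj_std (h : Typ S s π σ) (hπ : π = 1 ∨ π = E.γ) (hσ : σ ≠ 1) (s2 : s * s = 1)
    (hU : s ∈ normalizer (S.U : Set G)) : ∃ v ∈ S.U, ∃ u ∈ S.U, v * s * v⁻¹ = u * s ∧
      Std S (u * s) π σ := by
  obtain ⟨u, hu, ⟨d, hd⟩, e⟩ := A.exists_std_inv h hπ hU s2
  obtain ⟨k, M, c⟩ := A.exists_chain hd hπ hσ e
  obtain ⟨v, hv, e'⟩ := c.conj e (inv_mem hu) (by rw [inv_mul_cancel_left, s2])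
  rw [inv_mul_cancel_left] at e'
  refine ⟨v⁻¹, inv_mem hv, u, hu, ?_, d, hd⟩
  nth_rewrite 1 [e']
  group

theorem sm_h_pow (r : ι) {c : F} (hc : c ≠ 0) (n : ℕ) : S.h r c ^ n = S.h r (c ^ n) := by
  induction n with
  | zero => rw [pow_zero, pow_zero, S.h_one]
  | succ n ih => rw [pow_succ, ih, A.r3 _ _ _ (pow_ne_zero n hc) hc, pow_succ]

end Amb

end CfsgLib.SLA
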