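import Mathlib
import Cfsg.Agent.Lib.SLA.SemiA
import Cfsg.Agent.Lib.RGD.Coef
import Cfsg.Agent.Lib.Tech.Invol

/-!
# Semilinear involutions: the centraliser of the fixed points
-/

set_option autoImplicit false
set_option linter.unusedSectionVars false
set_option linter.unusedVariables false

namespace CfsgLib.SLA

open CfsgLib.RGD CfsgLib.Stein Subgroup
open scoped commutatorElement Pointwise

universe u

variable {ι κ : Type} [Fintype κ] [DecidableEq κ] [Finite ι] {Φ : RootSys ι κ} {E : ER Φ}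
  {F : Type} [Field F] [Finite F] [CharP F 2] {G : Type u} [Group G] [Finite G]
  {S : StSys Φ F G}

omit [Finite ι] in
theorem sb_not_mem {r : ι} {m : ℤ} (h : Φ.ht r = m) : r ∉ SmH Φ (m + 1) := fun h' => by
  have := h'.2; omega

omit [Finite F] [CharP F 2] in
theorem sb_indep {σ : F ≃+* F} (hσ : σ ≠ 1) {a b : F} (h : ∀ c, c * a = σ c * b) : a = 0 := by
  by_contra ha
  apply hσ
  ext c
  have h1 := h 1
  have h2 := h c
  rw [map_one, one_mul, one_mul] at h1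
  rw [← h1] at h2
  exact (mul_right_cancel₀ ha h2).symm

namespace Amb

variable (A : Amb E S) {s : G} {π : Equiv.Perm ι} {d : ι → F} {σ : F ≃+* F}
include A

theorem sb_lift (h : StdD S s π d σ) (hπ : π = 1 ∨ π = E.γ) (hσ : σ ≠ 1) (s2 : s * s = 1) {r : ι}
    (hr : Φ.Pos r) (c : F) : ∃ p ∈ S.U ⊓ centralizer {s}, ∀ k, Φ.ht k = Φ.ht r →
      cf S p k = cf S (S.x r c) k + cf S (S.x (π r) (d r * σ c)) k := by
  obtain ⟨p, hp, y, hy, rfl⟩ := A.sm_lift h hπ hσ s2 hr c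
  refine ⟨_, hp, fun k hk => ?_⟩
  have m0 : r ∈ SmH Φ (Φ.ht r) := ⟨hr, le_rfl⟩
  have m1 := S.x_mem_UU m0 c
  have m2 := S.x_mem_UU (((E.gp hπ).sm_mem _ r).2 m0) (d r * σ c)
  rw [A.cf_mul (sm_lay _) (mul_mem m1 m2) (S.UU_mono (sm_lay _).sub hy) (sb_not_mem hk),
    A.cf_mul (sm_lay _) m1 m2 (sb_not_mem hk), A.sm_cf_zero hy (sb_not_mem hk), add_zero]

theorem sb_ne (h : StdD S s π d σ) (hπ : π = 1 ∨ π = E.γ) (hσ : σ ≠ 1) (s2 : s * s = 1) {r : ι}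
    (hr : Φ.Pos r) : ∃ p ∈ S.U ⊓ centralizer {s}, cf S p r ≠ 0 := by
  by_contra! k
  have p' := ((E.gp hπ).pos r).2 hr
  by_cases e : π r = r
  · refine one_ne_zero (sb_indep hσ (b := d r) fun c => ?_)
    obtain ⟨p, hp, h1⟩ := A.sb_lift h hπ hσ s2 hr c
    have := h1 r rfl
    rw [k p hp, e, A.cf_x_self hr, A.cf_x_self hr, eq_comm, CharTwo.add_eq_zero] at this
    rw [mul_one, mul_comm, ← this]
  · obtain ⟨p, hp, h1⟩ := A.sb_lift h hπ hσ s2 hr 1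
    have := h1 r rfl
    rw [k p hp, A.cf_x_self hr, A.cf_x_ne p' (Ne.symm e), add_zero] at this
    exact one_ne_zero this.symm

theorem sb_comm_mul {m : ℤ} {u v w : G} (hu : u ∈ S.UU (SmH Φ m)) (hv : v ∈ S.UU (SmH Φ 1))
    (hw : w ∈ S.UU (SmH Φ 1)) {k : ι} (hk : Φ.ht k = m + 1) :
    cf S (u * (v * w) * u⁻¹ * (v * w)⁻¹) k = cf S (u * v * u⁻¹ * v⁻¹) k + cf S (u * w * u⁻¹ * w⁻¹) k := by
  have w1 := A.sm_comm_mem hu hv
  have w2 := A.sm_comm_mem hu hw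
  have w3 := A.sm_comm_mem hv w2
  rw [add_comm (1 : ℤ)] at w3
  have w4 := S.UU_mono (sm_lay (Φ := Φ) (m + 1)).sub w3
  rw [show u * (v * w) * u⁻¹ * (v * w)⁻¹ = u * v * u⁻¹ * v⁻¹ * (v * (u * w * u⁻¹ * w⁻¹) * v⁻¹ *
    (u * w * u⁻¹ * w⁻¹)⁻¹) * (u * w * u⁻¹ * w⁻¹) by group,
    A.cf_mul (sm_lay _) (mul_mem w1 w4) w2 (sb_not_mem hk), A.cf_mul (sm_lay _) w1 w4 (sb_not_mem hk),
    A.sm_cf_zero w3 (sb_not_mem hk), add_zero]

/-- the centraliser of `C_U(s)` in `U` -/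
theorem sm_mem_Z (h : StdD S s π d σ) (hπ : π = 1 ∨ π = E.γ) (hσ : σ ≠ 1) (s2 : s * s = 1) {u : G}
    (hu : u ∈ S.U) (hc : u ∈ centralizer ((S.U ⊓ centralizer {s} : Subgroup G) : Set G)) :
    u ∈ S.X E.θ := by
  have gp := E.gp hπ
  have hp : ∀ r, Φ.Pos r → 0 < Φ.ht r := fun _ h => Φ.ht_pos h
  have ha : ∀ a b k, RAdd Φ a b k → Φ.ht k = Φ.ht a + Φ.ht b := fun _ _ _ h => radd_ht h
  have key : ∀ n : ℕ, ∀ r, Φ.Pos r → r ≠ E.θ → Φ.ht r < n → cf S u r = 0 := by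
    intro n
    induction n with
    | zero => intro r hr _ h0; have := hp r hr; omega
    | succ n ih =>
      intro r hr hθ hn
      have hm : u ∈ S.UU (SmH Φ (Φ.ht r)) := by
        refine A.mem_of_cf hu fun r' h1 h2 => ?_
        have h3 : Φ.ht r' < Φ.ht r := not_le.1 fun h => h2 ⟨h1, h⟩
        have := E.ht_lt_θ hθ
        exact ih r' h1 (fun e => by rw [e] at h3; omega) (by push_cast at hn; omega)
      obtain ⟨i, k, hk⟩ := E.up_pos hr hθ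
      have pa := Φ.pos_simple i
      have hk1 : Φ.ht k = Φ.ht r + Φ.ht (Φ.simple i) := ha _ _ _ hk
      have pa' := (gp.pos _).2 pa
      have hk2 : Φ.ht k = Φ.ht r + Φ.ht (π (Φ.simple i)) := by rw [gp.ht, hk1]
      obtain ⟨b, hb⟩ : ∃ b : F, ∀ e, cf S (u * S.x (π (Φ.simple i)) e * u⁻¹ *
          (S.x (π (Φ.simple i)) e)⁻¹) k = e * b := by
        by_cases h2 : ∃ s', RAdd Φ s' (π (Φ.simple i)) k
        · obtain ⟨s', hs'⟩ := h2
          exact ⟨_, fun e => (A.cf_comm Φ.ht hp ha hm pa' hk2 e).1 s' hs'⟩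
        · exact ⟨0, fun e => by
            rw [(A.cf_comm Φ.ht hp ha hm pa' hk2 e).2 fun s' hs' => h2 ⟨s', hs'⟩, mul_zero]⟩
      refine sb_indep hσ (b := d (Φ.simple i) * b) fun c => ?_
      obtain ⟨p, hp', y, hy, e⟩ := A.sm_lift h hπ hσ s2 pa c
      rw [Φ.ht_simple] at hy hk1
      have m0 : Φ.simple i ∈ SmH Φ 1 := ⟨pa, (Φ.ht_simple i).ge⟩
      have m1 := S.x_mem_UU m0 c
      have m2 := S.x_mem_UU ((gp.sm_mem 1 _).2 m0) (d (Φ.simple i) * σ c)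
      have e5 := A.sb_comm_mul hm (mul_mem m1 m2) (S.UU_mono (sm_lay 1).sub hy) hk1
      rw [← e, ← hc p hp', mul_inv_cancel_right, mul_inv_cancel, A.cf_one, A.sb_comm_mul hm m1 m2 hk1,
        A.sm_cf_zero (A.sm_comm_mem hm hy) (by rw [← add_assoc]; exact sb_not_mem hk1), add_zero, hb,
        (A.cf_comm Φ.ht hp ha hm pa (ha _ _ _ hk) c).1 r hk, eq_comm, CharTwo.add_eq_zero] at e5
      rw [e5]; ring
  exact A.mem_of_cf hu fun r hr h0 => key ((Φ.ht r).toNat + 1) r hr h0 (by push_cast; omega)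

/-- the centraliser of `C_U(s)` normalises `U` -/
theorem sb_norm (h : StdD S s π d σ) (hπ : π = 1 ∨ π = E.γ) (hσ : σ ≠ 1) (s2 : s * s = 1) {g : G}
    (hg : g ∈ NL S) (hc : g ∈ centralizer ((S.U ⊓ centralizer {s} : Subgroup G) : Set G)) :
    g ∈ normalizer (S.U : Set G) := by
  obtain ⟨π', σ', hπ', l, hl, d', hd⟩ := A.aut g hg
  have gp := E.gp hπ'
  have hp : ∀ r ∈ {r | Φ.Pos r}, π' r ∈ {r | Φ.Pos r} := fun r hr => (gp.pos r).2 hr
  have key : ∀ p ∈ S.U ⊓ centralizer {s}, l * p * l⁻¹ ∈ S.B := by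
    intro p hp'
    have := hd.conj_mem hp hp'.1
    rw [show l * g * p * (l * g)⁻¹ = l * (g * p) * g⁻¹ * l⁻¹ by group, ← hc p hp',
      show l * (p * g) * g⁻¹ * l⁻¹ = l * p * l⁻¹ by group] at this
    exact S.U_le_B this
  have hB : l ∈ S.B := by
    refine A.nd.mem_B_of_conj_scoef hl fun i => ?_
    obtain ⟨p, hp', ne⟩ := A.sb_ne h hπ hσ s2 (Φ.pos_simple i)
    exact ⟨p, hp'.1, fun e => ne (A.cf_eq_zero (E.closed_of_idl (E.idl_diff i)) (fun _ h => h.1)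
      ((A.nd.scoef_eq_zero_iff hp'.1).1 e) fun h => h.2 rfl), key p hp'⟩
  have := mul_mem (inv_mem (S.B_le_normalizer_U hB)) (A.std_norm (T := {r | Φ.Pos r}) ⟨d', hd⟩ hp)
  rwa [inv_mul_cancel_left] at this

theorem sb_star {g u p : G} {π' : Equiv.Perm ι} {d' : ι → F} {σ' : F ≃+* F} (hu : u ∈ S.U)
    (hd : StdD S (u * g) π' d' σ') (gp : E.Gp π') (hp : p ∈ S.U) (hc : p * g = g * p) {r : ι}
    (hr : Φ.ht r = 1) : cf S p (π' r) = d' r * σ' (cf S p r) := by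
  rw [← sm_UU_one] at hu hp
  have h1 := A.cf_std (sm_lay 1) hd (gp.sm_mem 1) (gp.sm_mem (1 + 1)) hp (sb_not_mem hr)
  have h2 : π' r ∉ SmH Φ (1 + 1) := sb_not_mem (by rw [gp.ht, hr])
  rw [show u * g * p * (u * g)⁻¹ = u * (g * p) * g⁻¹ * u⁻¹ by group, ← hc,
    show u * (p * g) * g⁻¹ * u⁻¹ = u * p * u⁻¹ by group,
    A.cf_mul (sm_lay 1) (mul_mem hu hp) (inv_mem hu) h2, A.cf_mul (sm_lay 1) hu hp h2,
    A.cf_inv (sm_lay 1) hu h2] at h1
  rw [← h1, add_right_comm, CharTwo.add_self_eq_zero, zero_add]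

theorem sb_type (h : StdD S s π d σ) (hπ : π = 1 ∨ π = E.γ) (hσ : σ ≠ 1) (s2 : s * s = 1) {g : G}
    {π' : Equiv.Perm ι} {σ' : F ≃+* F} (hg : Typ S g π' σ') (hπ' : π' = 1 ∨ π' = E.γ)
    (hc : g ∈ centralizer ((S.U ⊓ centralizer {s} : Subgroup G) : Set G)) :
    (π' = 1 ∧ σ' = 1) ∨ (π' = π ∧ σ' = σ) := by
  obtain ⟨u, hu, d', hd⟩ := A.exists_std hg hπ' (A.sb_norm h hπ hσ s2 hg.mem_NL hc)
  have gp := E.gp hπ'
  have pα : Φ.Pos E.α := Φ.pos_simple _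
  have pα' : Φ.Pos E.α' := Φ.pos_simple _
  have hα : Φ.ht E.α = 1 := Φ.ht_simple _
  have hα' : Φ.ht E.α' = 1 := Φ.ht_simple _
  have ne : E.α' ≠ E.α := fun e => E.i₀_ne (Φ.simple_injective e).symm
  have d0 := hd.ne_zero E.α
  have key : ∀ c, cf S (S.x E.α c) (π' E.α) + cf S (S.x (π E.α) (d E.α * σ c)) (π' E.α) =
      d' E.α * σ' (c + cf S (S.x (π E.α) (d E.α * σ c)) E.α) := fun c => by
    obtain ⟨p, hp, h1⟩ := A.sb_lift h hπ hσ s2 pα c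
    have := A.sb_star hu hd gp hp.1 (hc _ hp) hα
    rwa [h1 _ (gp.ht _), h1 _ rfl, A.cf_x_self pα] at this
  have fin : ∀ {a b : F} {τ : F ≃+* F}, a ≠ 0 → (∀ c, b * τ c = a * σ' c) → σ' = τ := fun {a b τ} a0 e => by
    have e1 := e 1
    rw [map_one, map_one, mul_one, mul_one] at e1
    ext c
    exact mul_left_cancel₀ a0 (by rw [← e, e1])
  rcases hπ with rfl | rfl <;> rcases hπ' with rfl | rfl
  · simp only [Equiv.Perm.one_apply, A.cf_x_self pα] at key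
    obtain ⟨q₀, -, -, -, -, -, h6, h7⟩ := aut_two (A.sm_σ h (E.gp (Or.inl rfl)) s2) hσ
    obtain ⟨⟨c, c0, hc'⟩, h8⟩ := h7 (d E.α) (A.sm_d h (E.gp (Or.inl rfl)) s2 E.α)
    have k : ∀ e, d E.α * σ e = e → e = d' E.α * σ' e := fun e he => by
      obtain ⟨a, rfl⟩ := h8 e he
      exact key a
    refine (h6 σ' fun e he => ?_).imp (⟨rfl, ·⟩) (⟨rfl, ·⟩)
    have h1 := k c hc'
    have h2 := k (e * c) (by rw [map_mul, he, mul_left_comm, hc'])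
    rw [map_mul, mul_left_comm, ← h1] at h2
    exact (mul_right_cancel₀ c0 h2).symm
  · simp only [Equiv.Perm.one_apply, A.cf_x_self pα, E.γ_α, A.cf_x_ne pα ne, add_zero] at key
    refine absurd (sb_indep hσ (b := d E.α) fun c => ?_) one_ne_zero
    have := (mul_eq_zero.1 (key c).symm).resolve_left d0
    rw [map_eq_zero, CharTwo.add_eq_zero] at this
    rw [mul_one, mul_comm, ← this]
  · simp only [Equiv.Perm.one_apply, A.cf_x_self pα, E.γ_α, A.cf_x_ne pα' ne.symm, add_zero] at key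
    exact Or.inl ⟨rfl, fin (b := 1) (τ := 1) d0 fun c => by rw [one_mul]; exact key c⟩
  · simp only [A.cf_x_self pα', E.γ_α, A.cf_x_ne pα' ne.symm, A.cf_x_ne pα ne, add_zero, zero_add] at key
    exact Or.inr ⟨rfl, fin d0 key⟩

theorem sb_cen1 (h : StdD S s π d σ) (hπ : π = 1 ∨ π = E.γ) (hσ : σ ≠ 1) (s2 : s * s = 1) {g : G}
    (hg : Typ S g 1 1) (hc : g ∈ centralizer ((S.U ⊓ centralizer {s} : Subgroup G) : Set G)) :
    ∃ c, ∃ k ∈ CL S, g = S.x E.θ c * k := by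
  obtain ⟨u, hu, d', hd⟩ := A.exists_std hg (Or.inl rfl) (A.sb_norm h hπ hσ s2 hg.mem_NL hc)
  have d1 := A.d_eq_one hd E.gen_simple (by
    rintro _ ⟨i, rfl⟩
    obtain ⟨p, hp, ne⟩ := A.sb_ne h hπ hσ s2 (Φ.pos_simple i)
    have := A.sb_star hu hd (E.gp (Or.inl rfl)) hp.1 (hc _ hp) (Φ.ht_simple i)
    exact mul_right_cancel₀ ne (this.symm.trans (one_mul _).symm))
  have hk : u * g ∈ CL S := aa_mem_CL fun r c => by
    have := hd.2 r c
    rwa [d1, one_mul] at this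
  have hZ : u ∈ S.X E.θ := by
    refine A.sm_mem_Z h hπ hσ s2 hu ?_
    have h1 : u * g ∈ centralizer ((S.U ⊓ centralizer {s} : Subgroup G) : Set G) :=
      fun p hp => hk p (S.U_le_grp hp.1)
    have := mul_mem h1 (inv_mem hc)
    rwa [mul_inv_cancel_right] at this
  obtain ⟨c, hc⟩ := S.mem_X_iff.1 (inv_mem hZ)
  exact ⟨c, u * g, hk, by rw [← hc, inv_mul_cancel_left]⟩

/-- the centraliser of `C_U(s)` in `N(L)` -/
theorem sm_cen (h : StdD S s π d σ) (hπ : π = 1 ∨ π = E.γ) (hσ : σ ≠ 1) (s2 : s * s = 1) {g : G}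
    (hg : g ∈ NL S) (hc : g ∈ centralizer ((S.U ⊓ centralizer {s} : Subgroup G) : Set G)) :
    ∃ c, ∃ k ∈ CL S, g = S.x E.θ c * k ∨ g = s * S.x E.θ c * k := by
  obtain ⟨π', σ', hπ', ht⟩ := A.aut g hg
  rcases A.sb_type h hπ hσ s2 ht hπ' hc with ⟨rfl, rfl⟩ | ⟨rfl, rfl⟩
  · obtain ⟨c, k, hk, e⟩ := A.sb_cen1 h hπ hσ s2 ht hc
    exact ⟨c, k, hk, Or.inl e⟩
  · have h1 := (Std.typ ⟨d, h⟩).mul ht (E.gp hπ').neg
    rw [A.sm_σ h (E.gp hπ) s2, aa_gp_sq hπ] at h1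
    obtain ⟨c, k, hk, e⟩ := A.sb_cen1 h hπ hσ s2 h1
      (mul_mem (fun p hp => mem_centralizer_singleton_iff.1 hp.2) hc)
    exact ⟨c, k, hk, Or.inr (by rw [mul_assoc, ← e, ← mul_assoc, s2, one_mul])⟩

theorem sm_z0 (h : StdD S s π d σ) (hπ : π = 1 ∨ π = E.γ) (hσ : σ ≠ 1) (s2 : s * s = 1) :
    ∃ c, c ≠ 0 ∧ S.x E.θ c ∈ ⁅S.U ⊓ centralizer {s}, S.U ⊓ centralizer {s}⁆ ∧
      ∃ n ∈ CS S s, ¬ IsPGroup 2 (zpowers (S.x E.θ c * (n * S.x E.θ c * n⁻¹))) := by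
  have gp := E.gp hπ
  have : Fact (Nat.Prime 2) := ⟨Nat.prime_two⟩
  have ne : ⁅S.U ⊓ centralizer {s}, S.U ⊓ centralizer {s}⁆ ≠ ⊥ := fun e => by
    have le : S.U ⊓ centralizer {s} ≤ S.X E.θ := fun u hu =>
      A.sm_mem_Z h hπ hσ s2 hu.1 (commutator_eq_bot_iff_le_centralizer.1 e hu)
    have c1 : Nat.card (S.X E.θ) ≤ Nat.card F :=
      Nat.card_le_card_of_surjective (fun c => (⟨S.x E.θ c, S.x_mem_X _ c⟩ : S.X E.θ)) fun z => by
        obtain ⟨c, hc⟩ := S.mem_X_iff.1 z.2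
        exact ⟨c, Subtype.ext hc.symm⟩
    have c2 := Nat.pow_le_pow_left ((card_le_of_le le).trans c1) 2
    rw [A.card_fix h hπ hσ s2, Nat.pow_le_pow_iff_right Finite.one_lt_card] at c2
    have := E.np
    omega
  have le : ⁅S.U ⊓ centralizer {s}, S.U ⊓ centralizer {s}⁆ ≤ S.U ⊓ centralizer {s} :=
    commutator_le.2 fun a ha b hb => mul_mem (mul_mem (mul_mem ha hb) (inv_mem ha)) (inv_mem hb)
  obtain ⟨z, hz, o, hc⟩ := Tech.exists_mem_center_of_normalized (A.pg_U.to_le inf_le_left) le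
    (fun g hg => mem_normalizer_fintype fun x hx => by
      rw [show g * x * g⁻¹ = ⁅g, x⁆ * x by rw [commutatorElement_def]; group]
      exact mul_mem (commutator_mem_commutator hg (le hx)) hx) ne
  obtain ⟨c, rfl⟩ := S.mem_X_iff.1 (A.sm_mem_Z h hπ hσ s2 (le hz).1 hc)
  have c0 : c ≠ 0 := fun e => by rw [e, S.x_zero, orderOf_one] at o; omega
  have h1 : d E.θ * σ c = c := by
    have := h.2 E.θ c
    rw [← mem_centralizer_singleton_iff.1 (le hz).2, mul_inv_cancel_right, gp.θ] at this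
    exact (A.nd.x_injective _ this).symm
  have h2 : S.x (Φ.neg E.θ) c⁻¹ ∈ centralizer {s} := A.sm_fix_cent h (by rw [gp.neg, gp.θ]) (by
    rw [map_inv₀, eq_inv_of_mul_eq_one_right (h.1 E.θ), ← mul_inv, h1])
  have h3 := A.n_conj E.θ E.θ c0 c
  rw [(E.rf_self _).1, E.ip_self, show c ^ (-2 : ℤ) * c = c⁻¹ by rw [zpow_neg, zpow_two]; field_simp] at h3
  have h4 : S.n E.θ c = S.x E.θ c * S.x (Φ.neg E.θ) c⁻¹ * S.x E.θ c := by rw [StSys.n, CharTwo.neg_eq]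
  refine ⟨c, c0, hz, S.n E.θ c, ⟨S.n_mem_grp _ _, h4 ▸ mul_mem (mul_mem (le hz).2 h2) (le hz).2⟩, fun hp => ?_⟩
  rw [h3] at hp
  obtain ⟨k, hk⟩ := Core.isPGroup_zpowers_iff.1 hp
  have h5 : (S.x E.θ c * S.x (Φ.neg E.θ) c⁻¹) ^ 3 = 1 := by
    rw [h4, mul_inv_rev, mul_inv_rev, A.x_inv, A.x_inv, mul_assoc _ _ (S.x E.θ c), A.x_sq, mul_one] at h3
    rw [← A.x_sq (Φ.neg E.θ) c⁻¹]
    conv_rhs => enter [1]; rw [← h3]
    simp only [pow_succ, pow_zero, one_mul, mul_assoc]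
  have h6 := orderOf_eq_one_iff.1 (Nat.eq_one_of_dvd_coprimes ((by norm_num : Nat.Coprime 2 3).pow_left k)
    (orderOf_dvd_of_pow_eq_one hk) (orderOf_dvd_of_pow_eq_one h5))
  rw [mul_eq_one_iff_eq_inv, A.x_inv] at h6
  exact Φ.ne_neg_of_pos E.pos_θ E.pos_θ (A.x_inj c0 h6).1

end Amb

end CfsgLib.SLA
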