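import Mathlib
import Cfsg.Agent.Lib.SLA.SemiA

/-!
# Semilinear involutions: perfect subgroups of the centraliser
-/

set_option autoImplicit false
set_option linter.unusedSectionVars false
set_option linter.unusedVariables false

namespace CfsgLib.SLA

open CfsgLib.RGD CfsgLib.Stein Subgroup
open scoped commutatorElement Pointwise

universe u

variable {ι κ : Type} [Fintype κ] [DecidableEq κ] [Finite ι] {Φ : RootSys ι κ} {E : ER Φ}
  {F : Type} [Field F] [Finite F] [CharP F 2] {G : Type u} [Group G] [Finite G]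
  {S : StSys Φ F G}

omit [Finite G] in
theorem sc_pf_range {R : Subgroup G} (hR : Pf R) (f : R →* G) : Pf f.range := by
  constructor
  · have : (⊤ : Subgroup R) ≤ ⁅⊤, ⊤⁆ := fun x _ => by
      have := hR.1 x.2
      rw [← map_subtype_commutator] at this
      obtain ⟨y, hy, e⟩ := this
      exact (Subtype.ext e : y = x) ▸ hy
    rw [MonoidHom.range_eq_map, ← map_commutator]
    exact map_mono this
  · rintro _ ⟨x, rfl⟩
    have : ∀ g ∈ closure {g | g ∈ R ∧ g * g = 1}, ∃ hg : g ∈ R,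
        f ⟨g, hg⟩ ∈ closure {g | g ∈ f.range ∧ g * g = 1} := fun g hg => by
      induction hg using closure_induction with
      | mem y hy => exact ⟨hy.1, subset_closure ⟨⟨_, rfl⟩, by
          rw [← map_mul, show (⟨y, hy.1⟩ * ⟨y, hy.1⟩ : R) = 1 from Subtype.ext hy.2, map_one]⟩⟩
      | one => exact ⟨one_mem _, by rw [show (⟨1, one_mem _⟩ : R) = 1 from rfl, map_one]; exact one_mem _⟩
      | mul y z _ _ hy hz =>
        obtain ⟨a, ha⟩ := hy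
        obtain ⟨b, hb⟩ := hz
        exact ⟨mul_mem a b, (map_mul f ⟨y, a⟩ ⟨z, b⟩).symm ▸ mul_mem ha hb⟩
      | inv y _ hy =>
        obtain ⟨a, ha⟩ := hy
        exact ⟨inv_mem a, (map_inv f ⟨y, a⟩).symm ▸ inv_mem ha⟩
    exact (this x (hR.2 x.2)).2

namespace Amb

variable (A : Amb E S) {s : G} {π : Equiv.Perm ι} {d : ι → F} {σ : F ≃+* F}
include A

theorem sc_two_lt (h : StdD S s π d σ) (hπ : π = 1 ∨ π = E.γ) (hσ : σ ≠ 1) (s2 : s * s = 1) :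
    2 < Nat.card F := by
  obtain ⟨q, h1, -, h3, -⟩ := aut_two (A.sm_σ h (E.gp hπ) s2) hσ
  have := Nat.pow_le_pow_left h1 2
  omega

/-- commutators of a torus element with fixed elements -/
theorem sc_tor (h : StdD S s π d σ) (hπ : π = 1 ∨ π = E.γ) (hσ : σ ≠ 1) (s2 : s * s = 1) {a : G}
    (ha : a ∈ S.H) (hs : a ∈ centralizer {s}) {r : ι} (hr : Φ.Pos r) (hne : a * S.x r 1 * a⁻¹ ≠ S.x r 1) (c : F) :
    ∃ p ∈ S.U ⊓ centralizer {s}, ∃ y ∈ S.UU (SmH Φ (Φ.ht r + 1)),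
      ⁅a, p⁆ = S.x r c * S.x (π r) (d r * σ c) * y := by
  have gp := E.gp hπ
  obtain ⟨e, he⟩ := std_of_mem_H ha
  have he' : ∀ r c, a * S.x r c * a⁻¹ = S.x r (e r * c) := he.2
  have e1 : e r + 1 ≠ 0 := fun k => hne (by rw [he', CharTwo.add_eq_zero.1 k, mul_one])
  have e2 : e (π r) = σ (e r) := by
    have h1 := h.2 r (e r * 1)
    rw [← he', show s * (a * S.x r 1 * a⁻¹) * s⁻¹ = (s * a) * S.x r 1 * (s * a)⁻¹ by group,
      ← mem_centralizer_singleton_iff.1 hs, show a * s * S.x r 1 * (a * s)⁻¹ = a * (s * S.x r 1 * s⁻¹) * a⁻¹ by group,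
      h.2, he', map_one, mul_one, mul_one, mul_comm] at h1
    exact mul_left_cancel₀ (h.ne_zero r) (A.nd.x_injective _ h1)
  obtain ⟨p, hp, y, hy, e3⟩ := A.sm_lift h hπ hσ s2 hr (c / (e r + 1))
  have m0 : r ∈ SmH Φ (Φ.ht r) := ⟨hr, le_rfl⟩
  have m1 := fun c => S.x_mem_UU m0 c
  have m2 := fun c => S.x_mem_UU ((gp.sm_mem _ r).2 m0) c
  have mp : p ∈ S.UU (SmH Φ (Φ.ht r)) := e3 ▸ mul_mem (mul_mem (m1 _) (m2 _)) (S.UU_mono (sm_lay _).sub hy)
  have mp' : a * p * a⁻¹ ∈ S.UU (SmH Φ (Φ.ht r)) := he.conj_mem (fun _ h => h) mp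
  have mc : ⁅a, p⁆ ∈ S.UU (SmH Φ (Φ.ht r)) := mul_mem mp' (inv_mem mp)
  have mx := mul_mem (m1 c) (m2 (d r * σ c))
  refine ⟨p, hp, _, ?_, (mul_inv_cancel_left _ _).symm⟩
  have := A.mul_inv_mem (sm_lay _) (inv_mem mx) (inv_mem mc) fun k _ hk => by
    have h1 := A.cf_std (sm_lay _) he (fun _ => Iff.rfl) (fun _ => Iff.rfl) mp hk
    have h2 : cf S p k = cf S (S.x r (c / (e r + 1))) k + cf S (S.x (π r) (d r * σ (c / (e r + 1)))) k := by
      rw [e3, A.cf_mul (sm_lay _) (mul_mem (m1 _) (m2 _)) (S.UU_mono (sm_lay _).sub hy) hk,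
        A.cf_mul (sm_lay _) (m1 _) (m2 _) hk, A.sm_cf_zero hy hk, add_zero]
    have h3 : ∀ t, Φ.Pos t → ∀ v, (e k + 1) * cf S (S.x t v) k = cf S (S.x t ((e t + 1) * v)) k := fun t ht v => by
      by_cases hk : k = t
      · rw [hk, A.cf_x_self ht, A.cf_x_self ht]
      · rw [A.cf_x_ne ht hk, A.cf_x_ne ht hk, mul_zero]
    rw [A.cf_inv (sm_lay _) mx hk, A.cf_inv (sm_lay _) mc hk, commutatorElement_def,
      A.cf_mul (sm_lay _) mp' (inv_mem mp) hk, A.cf_inv (sm_lay _) mp hk, A.cf_mul (sm_lay _) (m1 _) (m2 _) hk]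
    change cf S (a * p * a⁻¹) k = e k * cf S p k at h1
    rw [h1, ← add_one_mul, h2, mul_add, h3 r hr, h3 _ ((gp.pos r).2 hr), mul_div_cancel₀ _ e1, e2,
      show σ (e r) + 1 = σ (e r + 1) by rw [map_add, map_one], mul_left_comm, ← map_mul, mul_div_cancel₀ _ e1]
  rwa [inv_inv] at this

theorem sc_com (h : StdD S s E.γ d σ) {r : ι} (o : ip Φ r (E.γ r) = 0) {y z : G} (hy : y ∈ S.UU {r, Φ.neg r})
    (hz : z ∈ S.UU {r, Φ.neg r}) : s * z * s⁻¹ * y = y * (s * z * s⁻¹) := by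
  have m : s * z * s⁻¹ ∈ S.UU {E.γ r, Φ.neg (E.γ r)} := h.conj_mem (by
    rintro a (rfl | rfl) <;> simp [E.γn]) hz
  have : S.UU {r, Φ.neg r} ≤ centralizer (S.UU {E.γ r, Φ.neg (E.γ r)} : Set G) :=
    S.UU_le_iff.2 fun a ha c => mem_cent_UU.2 fun b hb e => (A.com (by
      rcases ha with rfl | rfl <;> rcases hb with rfl | rfl <;> simp [ip_neg_left, ip_neg_right, o]) _ _).symm
  exact this hy _ m

theorem sc_pair (h : StdD S s E.γ d σ) (hσ : σ ≠ 1) (s2 : s * s = 1) {r : ι} (o : ip Φ r (E.γ r) = 0) {y : G}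
    (hy : y ∈ S.UU {r, Φ.neg r}) : y * (s * y * s⁻¹) ∈ PfC S s := by
  let f : S.UU {r, Φ.neg r} →* G := MonoidHom.mk' (fun y => y * (s * y * s⁻¹)) fun a b => by
    have := A.sc_com h o b.2 a.2
    rw [coe_mul, ← conj_mul]
    calc a.1 * b.1 * (s * a * s⁻¹ * (s * b * s⁻¹)) = a * (b * (s * a * s⁻¹)) * (s * b * s⁻¹) := by group
      _ = _ := by rw [← this]; group
  refine le_PfC (sc_pf_range (A.pf_UU' fun a ha => Or.inr ⟨?_, A.sc_two_lt h (Or.inr rfl) hσ s2⟩) f) ?_ ⟨⟨y, hy⟩, rfl⟩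
  · rcases ha with rfl | rfl <;> simp [Φ.neg_neg]
  · rintro _ ⟨z, rfl⟩
    have m := S.UU_le_grp _ z.2
    refine ⟨mul_mem m (aa_conj_grp h.mem_NL m), mem_centralizer_singleton_iff.2 ?_⟩
    change z.1 * (s * z * s⁻¹) * s = s * (z.1 * (s * z * s⁻¹))
    conv_lhs => rw [← A.sc_com h o z.2 z.2]
    rw [inv_eq_of_mul_eq_one_right s2]
    simp only [mul_assoc]

theorem sc_x (h : StdD S s E.γ d σ) (hσ : σ ≠ 1) (s2 : s * s = 1) {r : ι} (o : ip Φ r (E.γ r) = 0) (c : F) :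
    S.x r c * S.x (E.γ r) (d r * σ c) ∈ PfC S s := by
  rw [← h.2]
  exact A.sc_pair h hσ s2 o (S.x_mem_UU (by simp) c)

theorem sc_h (h : StdD S s E.γ d σ) (hσ : σ ≠ 1) (s2 : s * s = 1) {r : ι} (o : ip Φ r (E.γ r) = 0) {c : F}
    (hc : c ≠ 0) : S.h r c * S.h (E.γ r) (σ c) ∈ PfC S s := by
  rw [← A.std_conj_h ⟨d, h⟩ (E.gp (Or.inr rfl)) r hc]
  exact A.sc_pair h hσ s2 o (mul_mem (S.n_mem_UU (by simp) (by simp) _) (S.n_mem_UU (by simp) (by simp) _))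

theorem sc_one (h : StdD S s 1 d σ) (hσ : σ ≠ 1) (s2 : s * s = 1) : twG S 1 d σ Set.univ ≤ PfC S s := by
  have gp := E.gp (Or.inl rfl)
  refine le_PfC ⟨(closure_le _).2 ?_, (closure_le _).2 ?_⟩ ((closure_le _).2 ?_)
  · rintro _ ⟨r, -, c, ⟨-, h2, rfl⟩ | ⟨h1, -⟩⟩
    · obtain ⟨a, b, hab⟩ := E.exists_radd r
      obtain ⟨c₁, c0, hc⟩ := A.sm_fixv h gp hσ s2 (r := a) rfl
      have hd := A.d_add h gp hab
      have m1 : S.x a c₁ ∈ twG S 1 d σ Set.univ := subset_closure ⟨a, trivial, c₁, Or.inl ⟨rfl, hc, rfl⟩⟩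
      have m2 : S.x b (c / c₁) ∈ twG S 1 d σ Set.univ := by
        refine subset_closure ⟨b, trivial, c / c₁, Or.inl ⟨rfl, ?_, rfl⟩⟩
        have h3 : σ c₁ ≠ 0 := (map_ne_zero σ).2 c0
        rw [map_div₀, eq_div_iff c0]
        field_simp
        rw [hd] at h2
        linear_combination (σ c₁) * h2 - (d b * σ c) * hc
      have := commutator_mem_commutator m1 m2
      rwa [commutatorElement_def, A.rel.cm a b r hab, mul_div_cancel₀ _ c0] at this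
    · exact absurd rfl h1
  · rintro _ ⟨r, -, c, ⟨h1, h2, rfl⟩ | ⟨h1, -⟩⟩
    · exact subset_closure ⟨subset_closure ⟨r, trivial, c, Or.inl ⟨h1, h2, rfl⟩⟩, A.x_sq _ _⟩
    · exact absurd rfl h1
  · rintro _ ⟨r, -, c, ⟨h1, h2, rfl⟩ | ⟨h1, -⟩⟩
    · exact ⟨S.x_mem_grp _ _, A.sm_fix_cent h h1 h2⟩
    · exact absurd rfl h1

theorem sm_PM (h4 : 4 ≤ E.m) (h : StdD S s π d σ) (hπ : π = 1 ∨ π = E.γ) (hσ : σ ≠ 1)
    (s2 : s * s = 1) : S.U ⊓ centralizer {s} ≤ PfC S s := by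
  have gp := E.gp hπ
  suffices H : ∀ r, Φ.Pos r → ∀ c, ∃ y ∈ S.UU (SmH Φ (Φ.ht r + 1)),
      S.x r c * S.x (π r) (d r * σ c) * y ∈ PfC S s from
    A.fix_le_of h hπ hσ s2 fun r hr c => by
      obtain ⟨y, hy, m⟩ := H r hr c
      exact ⟨_, m, (PfC_le s m).2, y, hy, rfl⟩
  intro r hr c
  rcases id hπ with rfl | rfl
  · refine ⟨1, one_mem _, A.sc_one h hσ s2 (subset_closure ⟨r, trivial, c + d r * σ c, Or.inl ⟨rfl, ?_, ?_⟩⟩)⟩
    · rw [map_add, mul_add, add_comm]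
      exact congrArg (· + _) (A.sm_key h gp s2 r c)
    · rw [mul_one, S.x_add]; rfl
  have b1 := E.bd r
  have g1 := E.γ_co r
  by_cases mid : 2 * E.lo r + 1 = E.m ∨ 2 * E.hi r + 1 = E.m
  · obtain ⟨a, o, i1, i2⟩ : ∃ a, ip Φ a (E.γ a) = 0 ∧ ip Φ a r = 1 ∧ ip Φ (E.γ a) r = 0 := by
      obtain ⟨j, j1, j2⟩ := E.exists_idx [E.lo r, E.hi r, if 2 * E.lo r + 1 = E.m then E.lo (E.γ r) else E.hi (E.γ r)]
        (by simp; omega)
      simp only [List.mem_cons, List.not_mem_nil, or_false, not_or] at j2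
      rcases mid with mid | mid
      · obtain ⟨a, a1, a2⟩ := E.exists_e j1 b1.2.1 j2.2.1
        have := E.γ_co a
        rw [if_pos mid] at j2
        exact ⟨a, E.ip_zero_iff.2 (by omega), E.ip_one_iff.2 (by omega), E.ip_zero_iff.2 (by omega)⟩
      · obtain ⟨a, a1, a2⟩ := E.exists_e b1.1 j1 (Ne.symm j2.1)
        have := E.γ_co a
        rw [if_neg (by omega)] at j2
        exact ⟨a, E.ip_zero_iff.2 (by omega), E.ip_one_iff.2 (by omega), E.ip_zero_iff.2 (by omega)⟩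
    obtain ⟨l, l0, l1⟩ := A.exists_ne (A.sc_two_lt h hπ hσ s2)
    have l2 := (map_ne_zero σ).2 l0
    have m := A.sc_h h hσ s2 o l0
    obtain ⟨p, hp, y, hy, e⟩ := A.sc_tor h hπ hσ s2 (mul_mem (S.h_mem_H a l0) (S.h_mem_H _ l2)) (PfC_le s m).2 hr
      (fun e => by
        rw [show ∀ a b x : G, a * b * x * (a * b)⁻¹ = a * (b * x * b⁻¹) * a⁻¹ from fun a b x => by group,
          A.h_conj _ _ l2, A.h_conj _ _ l0, i1, i2, zpow_zero, zpow_one, mul_one, mul_one] at e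
        exact l1 (A.nd.x_injective _ e)) c
    refine ⟨y, hy, ?_⟩
    rw [← e, commutatorElement_def, mul_assoc, mul_assoc, ← mul_assoc p]
    exact mul_mem m (sm_conj_mem (CS_norm_PfC s ⟨S.U_le_grp hp.1, hp.2⟩) (inv_mem m))
  refine ⟨1, one_mem _, ?_⟩
  rw [mul_one]
  rw [not_or] at mid
  by_cases fx : E.γ r = r
  · have f1 := E.γ_fix_iff.1 fx
    obtain ⟨j, j1, j2⟩ := E.exists_idx [E.lo r, E.hi r, (E.m - 1) / 2] (by simp; omega)
    simp only [List.mem_cons, List.not_mem_nil, or_false, not_or] at j2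
    obtain ⟨a, a1, a2⟩ := E.exists_e b1.1 j1 (Ne.symm j2.1)
    obtain ⟨b, a3, a4⟩ := E.exists_e j1 b1.2.1 j2.2.1
    have g2 := E.γ_co a
    have g3 := E.γ_co b
    have hab : RAdd Φ a b r := (E.radd_iff _ _ _).2 (by omega)
    have oa : ip Φ a (E.γ a) = 0 := E.ip_zero_iff.2 (by omega)
    have ob : ip Φ b (E.γ b) = 0 := E.ip_zero_iff.2 (by omega)
    have m1 := A.sc_x h hσ s2 oa c
    have m2 := A.sc_x h hσ s2 ob 1
    have := mul_mem (mul_mem (mul_mem m1 m2) (inv_mem m1)) (inv_mem m2)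
    rwa [← commutatorElement_def, sm_comm_mul_mul (A.com oa.ge _ _) (A.com (E.nonneg_iff.2 (by omega)) _ _)
      (A.com (E.nonneg_iff.2 (by omega)) _ _) (A.com ob.ge _ _), A.rel.cm a b r hab,
      A.rel.cm _ _ _ (gp.add _ _ _ hab), mul_one, map_one, mul_one, mul_right_comm, ← A.d_add h gp hab] at this
  · exact A.sc_x h hσ s2 (E.γ_orth fx mid.1 mid.2) c

/-- the twisted torus -/
theorem exists_torus (h4 : 4 ≤ E.m) (h : StdD S s E.γ d σ) (hσ : σ ≠ 1) (s2 : s * s = 1)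
    {q₀ : ℕ} (hq : Nat.card F = q₀ ^ 2) : ∃ a ∈ PfC S s, a ∈ S.H ∧ a ≠ 1 ∧ a ^ (q₀ + 1) = 1 := by
  have gp := E.gp (Or.inr rfl)
  obtain ⟨c, hc⟩ : ∃ c, σ c ≠ c := by
    by_contra! h0
    exact hσ (RingEquiv.ext h0)
  have σ2 := A.sm_σ h gp s2
  obtain ⟨q₁, -, -, h3, h5, -⟩ := aut_two σ2 hσ
  have hq' : q₁ = q₀ := Nat.pow_left_injective two_ne_zero (h3.symm.trans hq)
  have c0 : c ≠ 0 := fun e => hc (by rw [e, map_zero])
  have c1 : σ c ≠ 0 := (map_ne_zero σ).2 c0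
  have l0 : c / σ c ≠ 0 := div_ne_zero c0 c1
  have l1 : σ (c / σ c) ≠ 0 := (map_ne_zero σ).2 l0
  have l2 : (c / σ c) ^ (q₀ + 1) = 1 := by
    rw [pow_succ, ← hq', ← h5, map_div₀, show σ (σ c) = c from RingEquiv.congr_fun σ2 c]
    field_simp
  have o : ip Φ E.α (E.γ E.α) = 0 := by
    have := E.co
    rw [E.γ_α, E.ip_zero_iff]; omega
  have hm : S.h E.α (c / σ c) ∈ S.UU {E.α, Φ.neg E.α} :=
    mul_mem (S.n_mem_UU (by simp) (by simp) _) (S.n_mem_UU (by simp) (by simp) _)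
  have cm := A.sc_com h o hm hm
  rw [A.std_conj_h ⟨d, h⟩ gp _ l0] at cm
  refine ⟨_, A.sc_h h hσ s2 o l0, mul_mem (S.h_mem_H _ l0) (S.h_mem_H _ l1), fun e => ?_, ?_⟩
  · have e1 : S.h E.α (c / σ c) * (S.h (E.γ E.α) (σ (c / σ c)) * S.x E.α 1 * (S.h (E.γ E.α) (σ (c / σ c)))⁻¹) *
        (S.h E.α (c / σ c))⁻¹ = S.x E.α 1 := by
      rw [show ∀ a b x : G, a * (b * x * b⁻¹) * a⁻¹ = a * b * x * (a * b)⁻¹ from fun a b x => by group, e]
      simp
    rw [A.h_conj _ _ l1, A.h_conj _ _ l0, ip_comm (E.γ E.α), o, E.ip_self, zpow_zero, mul_one, mul_one] at e1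
    have e2 := A.nd.x_injective _ e1
    rw [zpow_two, mul_self_eq_one_iff, CharTwo.neg_eq, or_self, div_eq_one_iff_eq c1] at e2
    exact hc e2.symm
  · rw [Commute.mul_pow cm.symm, A.sm_h_pow _ l0, A.sm_h_pow _ l1, ← map_pow, l2, map_one, S.h_one, S.h_one,
      mul_one]

end Amb

end CfsgLib.SLA
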