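import Mathlib
import Cfsg.Agent.Lib.SLA.SemB
import Cfsg.Agent.Lib.SLA.SemC

/-!
# Semilinear involutions
-/

set_option autoImplicit false
set_option linter.unusedSectionVars false
set_option linter.unusedVariables false

namespace CfsgLib.SLA

open CfsgLib.RGD CfsgLib.Stein Subgroup
open scoped commutatorElement Pointwise

universe u

variable {ι κ : Type} [Fintype κ] [DecidableEq κ] [Finite ι] {Φ : RootSys ι κ} {E : ER Φ}
  {F : Type} [Field F] [Finite F] [CharP F 2] {G : Type u} [Group G] [Finite G]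
  {S : StSys Φ F G}

namespace Amb

variable (A : Amb E S) {s : G} {π : Equiv.Perm ι} {d : ι → F} {σ : F ≃+* F}
include A

theorem semiD_std (h : StdD S s π d σ) (hπ : π = 1 ∨ π = E.γ) (hσ : σ ≠ 1) (s2 : s * s = 1) :
    SemiD E S s := by
  obtain ⟨k, M, c⟩ := A.exists_chain h hπ hσ s2
  exact ⟨A.card_fix h hπ hσ s2, fun u hu e => c.conj s2 hu e, A.sm_z0 h hπ hσ s2,
    fun g hg _ _ hc => A.sm_cen h hπ hσ s2 hg hc, fun h4 => A.sm_PM h4 h hπ hσ s2⟩

theorem sm_conj (D : SemiD E S s) {v : G} (hv : v ∈ S.U) : SemiD E S (v * s * v⁻¹) := by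
  have hvL := S.U_le_grp hv
  have m1 : ∀ {K : Subgroup G} {x : G}, x ∈ MulAut.conj v • K ↔ v⁻¹ * x * v ∈ K := by
    intro K x
    rw [mem_pointwise_smul_iff_inv_smul_mem]
    simp
  have c1 : ∀ x : G, x ∈ centralizer {v * s * v⁻¹} ↔ v⁻¹ * x * v ∈ centralizer {s} := by
    intro x
    rw [mem_centralizer_singleton_iff, mem_centralizer_singleton_iff]
    constructor
    · intro e
      calc v⁻¹ * x * v * s = v⁻¹ * (x * (v * s * v⁻¹)) * v := by group
        _ = _ := by rw [e]; group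
    · intro e
      calc x * (v * s * v⁻¹) = v * (v⁻¹ * x * v * s) * v⁻¹ := by group
        _ = _ := by rw [e]; group
  have u1 : ∀ {K : Subgroup G}, v ∈ K → ∀ x : G, x ∈ K ↔ v⁻¹ * x * v ∈ K := by
    intro K hK x
    rw [K.mul_mem_cancel_right hK, K.mul_mem_cancel_left (inv_mem hK)]
  have e1 : S.U ⊓ centralizer {v * s * v⁻¹} = MulAut.conj v • (S.U ⊓ centralizer {s}) := by
    ext x
    rw [m1, mem_inf, mem_inf, c1, ← u1 hv]
  have z1 : ∀ c, S.x E.θ c * v = v * S.x E.θ c := fun c =>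
    A.Y_le_cent E.θ (A.U_le_Y hv) _ (S.x_mem_X _ c)
  refine ⟨?_, fun u hu e => ?_, ?_, fun g hg g2 gs hc => ?_, fun h4 x hx => ?_⟩
  · rw [e1, ← D.card]
    congr 1
    exact (Nat.card_congr (equivSMul (MulAut.conj v) _).toEquiv).symm
  · obtain ⟨w, hw, e'⟩ := D.conj _ ((u1 hv u).1 hu) (by
      rw [show v⁻¹ * u * v * s * (v⁻¹ * u * v * s) =
        v⁻¹ * (u * (v * s * v⁻¹) * (u * (v * s * v⁻¹))) * v by group, e]; group)
    refine ⟨v * w * v⁻¹, mul_mem (mul_mem hv hw) (inv_mem hv), ?_⟩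
    calc u * (v * s * v⁻¹) = v * (v⁻¹ * u * v * s) * v⁻¹ := by group
      _ = _ := by rw [e']; group
  · obtain ⟨c, c0, hc, n, hn, hp⟩ := D.z0
    have k1 : v * S.x E.θ c * v⁻¹ = S.x E.θ c := by rw [← z1, mul_inv_cancel_right]
    refine ⟨c, c0, ?_, _, conj_mem_CS hvL hn, fun e => hp ?_⟩
    · rw [e1, ← k1]
      exact (map_commutator _ _ (MulAut.conj v).toMonoidHom).le (mem_map_of_mem _ hc)
    · have := e.map (MulAut.conj v⁻¹).toMonoidHom
      rwa [MonoidHom.map_zpowers, show (MulAut.conj v⁻¹).toMonoidHom (S.x E.θ c * (v * n * v⁻¹ * S.x E.θ c *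
        (v * n * v⁻¹)⁻¹)) = S.x E.θ c * (n * S.x E.θ c * n⁻¹) by
          conv_lhs => rw [← k1]
          simp [mul_assoc]] at this
  · have hvN : v ∈ NL S := le_normalizer hvL
    obtain ⟨c, k, hk, e⟩ := D.cen _ ((u1 hvN g).1 hg)
      (by rw [show v⁻¹ * g * v * (v⁻¹ * g * v) = v⁻¹ * (g * g) * v by group, g2]; group)
      (mem_centralizer_singleton_iff.1 ((c1 g).1 (mem_centralizer_singleton_iff.2 gs))) (by
        intro p hp
        have := hc (v * p * v⁻¹) (by rw [e1]; exact m1.2 (by simpa [mul_assoc] using hp))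
        calc p * (v⁻¹ * g * v) = v⁻¹ * (v * p * v⁻¹ * g) * v := by group
          _ = _ := by rw [this]; group)
    have k1 : v * k = k * v := hk v hvL
    have k2 : v * (S.x E.θ c * k) * v⁻¹ = S.x E.θ c * k := by
      rw [← mul_assoc, ← z1, mul_assoc _ v, k1]; group
    refine ⟨c, k, hk, e.imp (fun e => ?_) fun e => ?_⟩
    · rw [← k2, ← e]; group
    · calc g = v * (v⁻¹ * g * v) * v⁻¹ := by group
        _ = v * s * v⁻¹ * (v * (S.x E.θ c * k) * v⁻¹) := by rw [e]; group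
        _ = _ := by rw [k2, mul_assoc _ _ k]
  · rw [e1] at hx
    simpa [mul_assoc] using conj_mem_PfC hvL (D.PM h4 (m1.1 hx))

theorem semiD (h : Typ S s π σ) (hπ : π = 1 ∨ π = E.γ) (hσ : σ ≠ 1) (s2 : s * s = 1)
    (hU : s ∈ normalizer (S.U : Set G)) : SemiD E S s := by
  obtain ⟨v, hv, u, hu, e, d, hd⟩ := A.exists_conj_std h hπ hσ s2 hU
  have := A.sm_conj (A.semiD_std hd hπ hσ (by
    rw [← e, show v * s * v⁻¹ * (v * s * v⁻¹) = v * (s * s) * v⁻¹ by group, s2]; group)) (inv_mem hv)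
  rwa [← e, show v⁻¹ * (v * s * v⁻¹) * v⁻¹⁻¹ = s by group] at this

end Amb

end CfsgLib.SLA
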