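import Mathlib
import Cfsg.Agent.Lib.SLA.Cen

/-!
# The groups attached to a double centraliser certificate
-/

set_option autoImplicit false
set_option linter.unusedSectionVars false

namespace CfsgLib.SLA

open CfsgLib.RGD CfsgLib.Stein Subgroup
open scoped commutatorElement Pointwise

universe u

variable {ι κ : Type} [Fintype κ] [DecidableEq κ] [Finite ι] {Φ : RootSys ι κ} {E : ER Φ}
  {F : Type} [Field F] [Finite F] [CharP F 2] {G : Type u} [Group G] [Finite G]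
  {S : StSys Φ F G}

omit [Finite ι] [Finite F] [CharP F 2] [Finite G] in
/-- the subgroup `Γ` -/
def Gam (S : StSys Φ F G) (B : List ι) : Subgroup G :=
  closure {g | (∃ a c, TB Φ B a ∧ g = S.x a c) ∨ ∃ a a' c, PB Φ B a a' ∧ g = S.x a c * S.x a' c}

omit [Finite ι] [Finite F] [CharP F 2] [Finite G] in
/-- the subgroup `W` -/
def Wd (E : ER Φ) (S : StSys Φ F G) (B : List ι) : Subgroup G :=
  closure {g | ∃ c e, g = (S.xprod B fun _ => c) * S.x E.θ e}

omit [Finite ι] in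
theorem grB_add (B : List ι) {a b k : ι} (h : RAdd Φ a b k) : grB Φ B k = grB Φ B a + grB Φ B b := by
  simp only [grB, h.ip_left, List.sum_map_add]

omit [Finite ι] in
theorem grB_neg (B : List ι) (r : ι) : grB Φ B (Φ.neg r) = - grB Φ B r := by
  induction B with
  | nil => simp [grB]
  | cons b B ih => simp only [grB, List.map_cons, List.sum_cons] at ih ⊢; rw [ih, ip_neg_left]; ring

omit [Finite ι] in
theorem grB_sum (B : List ι) (r : ι) : grB Φ B r = ∑ i, Φ.rt r i * grB Φ B (Φ.simple i) := by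
  induction B with
  | nil => simp [grB]
  | cons b B ih =>
    simp only [grB, List.map_cons, List.sum_cons] at ih ⊢
    rw [ih, ip_eq_sum, ← Finset.sum_add_distrib]
    exact Finset.sum_congr rfl fun i _ => by rw [ip_simple, mul_add]

theorem DCert.gr_self {B : List ι} (h : DCert E B) {b : ι} (hb : b ∈ B) : grB Φ B b = 2 := by
  classical
  rw [grB, List.sum_map_eq_nsmul_single b _ fun c hc hc' => h.ort b hb c hc' hc.symm,
    List.count_eq_one_of_mem h.nd hb, E.ip_self, one_smul]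

theorem DCert.nonneg {B : List ι} (h : DCert E B) {b c : ι} (hb : b ∈ B) (hc : c ∈ B) : 0 ≤ ip Φ b c := by
  by_cases e : b = c
  · rw [e, E.ip_self]; decide
  · exact (h.ort b hb c hc e).ge

omit [Finite ι] in
theorem DCert.gr_nonneg {B : List ι} (h : DCert E B) {r : ι} (hr : Φ.Pos r) : 0 ≤ grB Φ B r := by
  rw [grB_sum]
  exact Finset.sum_nonneg fun i _ => mul_nonneg (hr i) (h.dom i)

omit [Finite ι] in
theorem DCert.pos_of_gr {B : List ι} (h : DCert E B) {r : ι} (hr : 0 < grB Φ B r) : Φ.Pos r :=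
  (Φ.pos_or_neg r).resolve_right fun k => by
    have := h.gr_nonneg (Φ.pos_neg_iff.2 k)
    rw [grB_neg] at this
    omega

namespace Amb

variable (A : Amb E S) {B : List ι}
include A

theorem comm_xprod {a : ι} {L : List ι} (h : ∀ r ∈ L, 0 ≤ ip Φ a r) (c : F) (t : ι → F) :
    Commute (S.x a c) (S.xprod L t) :=
  Commute.list_prod_right _ _ fun x hx => by
    obtain ⟨r, hr, rfl⟩ := List.mem_map.1 hx
    exact A.com (h r hr) _ _

theorem dc_xprod_add {L : List ι} (h : ∀ r ∈ L, ∀ s ∈ L, 0 ≤ ip Φ r s) (t t' : ι → F) :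
    S.xprod L t * S.xprod L t' = S.xprod L fun r => t r + t' r := by
  induction L with
  | nil => simp [StSys.xprod_nil]
  | cons a L ih =>
    rw [S.xprod_cons, S.xprod_cons, S.xprod_cons, S.x_add, ← ih fun r hr s hs =>
      h r (List.mem_cons_of_mem _ hr) s (List.mem_cons_of_mem _ hs), mul_assoc, mul_assoc, ← mul_assoc (S.xprod L t),
      ← (A.comm_xprod (fun r hr => h a List.mem_cons_self r (List.mem_cons_of_mem _ hr)) _ _).eq, mul_assoc]

theorem zpow_ne_one {c : F} (h1 : c ≠ 1) {d a : ι} (h : ip Φ d a ≠ 0) :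
    c ^ ip Φ d a - 1 ≠ 0 := by
  have h2 : c ^ (2 : ℤ) ≠ 1 := fun e => h1 (by
    rw [zpow_two, mul_self_eq_one_iff, CharTwo.neg_eq, or_self] at e; exact e)
  rw [sub_ne_zero]
  rcases E.ip_cases d a with ⟨-, e⟩ | e | e | e | ⟨-, e⟩ <;> rw [e]
  · exact h2
  · rwa [zpow_one]
  · exact absurd e h
  · rwa [zpow_neg, zpow_one, Ne, inv_eq_one]
  · rwa [zpow_neg, Ne, inv_eq_one]

variable (h : DCert E B)
include h

theorem dc_pos {b : ι} (hb : b ∈ B) : Φ.Pos b := h.pos_of_gr (by rw [h.gr_self hb]; decide)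

theorem dc_gr {r : ι} (hr : Φ.Pos r) : 0 ≤ grB Φ B r := h.gr_nonneg hr

theorem xprod_const_add (c e : F) :
    (S.xprod B fun _ => c) * (S.xprod B fun _ => e) = S.xprod B fun _ => c + e :=
  A.dc_xprod_add (fun _ hr _ hs => h.nonneg hr hs) _ _

theorem conj_l {a b k : ι} (hb : b ∈ B) (hk : RAdd Φ a b k) (hc : ∀ c ∈ B, c ≠ b → 0 ≤ ip Φ a c)
    (c : F) (t : ι → F) : S.x a c * S.xprod B t * (S.x a c)⁻¹ = S.xprod B t * S.x k (c * t b) := by
  obtain ⟨L, L', rfl⟩ := List.append_of_mem hb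
  have nd := h.nd
  rw [List.nodup_middle, List.nodup_cons, List.mem_append, not_or] at nd
  have h1 : ∀ r ∈ L, 0 ≤ ip Φ a r := fun r hr => hc r (by simp [hr]) fun e => nd.1.1 (e ▸ hr)
  have h2 : ∀ r ∈ L', 0 ≤ ip Φ a r := fun r hr => hc r (by simp [hr]) fun e => nd.1.2 (e ▸ hr)
  have h3 : ∀ r ∈ L', 0 ≤ ip Φ k r := fun r hr => by
    rw [hk.ip_left]
    exact add_nonneg (h2 r hr) (h.nonneg hb (by simp [hr]))
  rw [S.xprod_append, S.xprod_cons, ← conj_mul, ← conj_mul, (A.comm_xprod h1 c t).eq, (A.comm_xprod h2 c t).eq,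
    mul_inv_cancel_right, mul_inv_cancel_right, A.conj_x hk, mul_assoc, (A.comm_xprod h3 _ t).eq]
  simp only [mul_assoc]

theorem comm_θ (e : F) (t : ι → F) : Commute (S.x E.θ e) (S.xprod B t) :=
  A.comm_xprod (fun r hr => by rw [ip_comm]; exact E.nonneg_θ (A.dc_pos h hr)) _ _

theorem wd_mul (c e c' e' : F) : (S.xprod B fun _ => c) * S.x E.θ e * ((S.xprod B fun _ => c') * S.x E.θ e') =
    (S.xprod B fun _ => c + c') * S.x E.θ (e + e') := by
  rw [← A.xprod_const_add h, S.x_add, mul_assoc, ← mul_assoc (S.x E.θ e), (A.comm_θ h _ _).eq]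
  simp only [mul_assoc]

theorem wd_sq (c e : F) :
    (S.xprod B fun _ => c) * S.x E.θ e * ((S.xprod B fun _ => c) * S.x E.θ e) = 1 := by
  rw [A.wd_mul h, CharTwo.add_self_eq_zero, CharTwo.add_self_eq_zero, S.xprod_zero, S.x_zero, mul_one]

theorem mem_Wd {w : G} : w ∈ Wd E S B ↔ ∃ c e, w = (S.xprod B fun _ => c) * S.x E.θ e := by
  refine ⟨fun hw => ?_, fun hw => subset_closure hw⟩
  induction hw using closure_induction with
  | mem x hx => exact hx
  | one => exact ⟨0, 0, by rw [S.xprod_zero, S.x_zero, mul_one]⟩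
  | mul x y _ _ hx hy =>
    obtain ⟨c, e, rfl⟩ := hx
    obtain ⟨c', e', rfl⟩ := hy
    exact ⟨_, _, A.wd_mul h _ _ _ _⟩
  | inv x _ hx =>
    obtain ⟨c, e, rfl⟩ := hx
    exact ⟨c, e, inv_eq_of_mul_eq_one_right (A.wd_sq h c e)⟩

theorem Wd_mem_Z {c e : F} : (S.xprod B fun _ => c) * S.x E.θ e ∈ S.X E.θ ↔ c = 0 := by
  classical
  refine ⟨fun k => ?_, fun k => by rw [k, S.xprod_zero, one_mul]; exact S.x_mem_X _ _⟩
  obtain ⟨d, hd⟩ := S.mem_X_iff.1 ((mul_mem_cancel_right (S.x_mem_X _ _)).1 k)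
  obtain ⟨b, hb, -⟩ := h.eta
  have := A.nd.xprod_inj (L := E.θ :: B) (List.nodup_cons.2 ⟨h.nθ, h.nd⟩) (fun r hr =>
    (List.mem_cons.1 hr).elim (fun e => e ▸ E.pos_θ) (A.dc_pos h)) (t := fun r => if r = E.θ then d else c)
    (t' := fun _ => 0) (by
      rw [S.xprod_zero, S.xprod_cons, if_pos rfl, S.xprod_congr (t' := fun _ => c) fun r hr =>
        if_neg fun e : r = E.θ => h.nθ (e ▸ hr), hd, A.x_sq]) b (List.mem_cons_of_mem _ hb)
  rwa [if_neg fun e : b = E.θ => h.nθ (e ▸ hb)] at this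

theorem l_mem_U (t : ι → F) : S.xprod B t ∈ S.U := S.xprod_mem_UU (fun _ hr => A.dc_pos h hr) t

theorem Wd_le : Wd E S B ≤ S.U := fun w hw => by
  obtain ⟨c, e, rfl⟩ := (A.mem_Wd h).1 hw
  exact mul_mem (A.l_mem_U h _) (S.x_mem_U E.pos_θ _)

theorem Wd_sq {w : G} (hw : w ∈ Wd E S B) : w * w = 1 := by
  obtain ⟨c, e, rfl⟩ := (A.mem_Wd h).1 hw
  exact A.wd_sq h c e

omit h in
theorem x_mem_cen {a : ι} (ha : CmB Φ B a) (c : F) : S.x a c ∈ centralizer {S.xprod B fun _ => (1 : F)} :=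
  mem_centralizer_singleton_iff.2 (A.comm_xprod ha c _)

theorem pb_mem_cen {a a' : ι} (ha : PB0 Φ B a a') (c : F) :
    S.x a c * S.x a' c ∈ centralizer {S.xprod B fun _ => (1 : F)} := by
  obtain ⟨-, b, hb, b', hb', k, h1, h2, -, h3, h4⟩ := ha
  rw [mem_centralizer_singleton_iff, ← mul_inv_eq_iff_eq_mul, show ∀ x y l : G, x * y * l * (x * y)⁻¹ =
    x * (y * l * y⁻¹) * x⁻¹ from fun x y l => by group, A.conj_l h hb' h2 h4, ← conj_mul, A.conj_l h hb h1 h3,
    A.com (a := a) (b := k) (by rw [(E.radd_ip h1).2.1]; decide), mul_inv_cancel_right, mul_assoc, A.x_sq, mul_one]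

theorem Gam_le : Gam S B ≤ S.U ⊓ centralizer {S.xprod B fun _ => 1} := by
  refine (closure_le _).2 ?_
  rintro _ (⟨a, c, ha, rfl⟩ | ⟨a, a', c, ha, rfl⟩)
  exacts [⟨S.x_mem_U ha.1 c, A.x_mem_cen ha.2 c⟩,
    ⟨mul_mem (S.x_mem_U ha.1 c) (S.x_mem_U ha.2.1 c), A.pb_mem_cen h ha.2.2.1 c⟩]

omit A h in
theorem dca_conj {g : G} {L : List ι} {t t' : ι → F} (h : ∀ r ∈ L, g * S.x r (t r) * g⁻¹ = S.x r (t' r)) :
    g * S.xprod L t * g⁻¹ = S.xprod L t' := by
  induction L with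
  | nil => simp [StSys.xprod_nil]
  | cons d L ih =>
    rw [S.xprod_cons, S.xprod_cons, ← conj_mul, h d List.mem_cons_self,
      ih fun r hr => h r (List.mem_cons_of_mem _ hr)]

omit h in
theorem dca_tor (hq : 2 < Nat.card F) {a a' : ι} (ht : TorB Φ B a a') :
    ∃ g ∈ CS S (S.xprod B fun _ => 1), ∃ n : F, n - 1 ≠ 0 ∧ (∀ u, g * S.x a u * g⁻¹ = S.x a (n * u)) ∧
      ∀ u, g * S.x a' u * g⁻¹ = S.x a' (n * u) := by
  obtain ⟨m, m0, m1⟩ := A.exists_ne hq
  obtain ⟨d, d', h1, h2, h3⟩ := ht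
  have k : ∀ s u, S.h d m * S.h d' m * S.x s u * (S.h d m * S.h d' m)⁻¹ =
      S.x s (m ^ (ip Φ d s + ip Φ d' s) * u) := fun s u => by
    rw [show ∀ a b x : G, a * b * x * (a * b)⁻¹ = a * (b * x * b⁻¹) * a⁻¹ from fun a b x => by group,
      A.h_conj d' s m0, A.h_conj d s m0, zpow_add₀ m0, mul_assoc]
  have sq : ∀ c : F, c ≠ 1 → c * c ≠ 1 := fun c hc e => hc (by
    rw [mul_self_eq_one_iff, CharTwo.neg_eq, or_self] at e; exact e)
  refine ⟨_, ⟨mul_mem (S.h_mem_grp d m) (S.h_mem_grp d' m), mem_centralizer_singleton_iff.2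
    (mul_inv_eq_iff_eq_mul.1 (dca_conj fun r hr => by rw [k, h1 r hr, zpow_zero, one_mul]))⟩,
    m ^ (ip Φ d a + ip Φ d' a), sub_ne_zero.2 ?_, k a, fun u => by rw [k, h2]⟩
  rcases h3 with e | e | e | e | e <;> rw [e]
  · rwa [zpow_one]
  · rwa [zpow_neg, zpow_one, Ne, inv_eq_one]
  · rw [zpow_two]; exact sq m m1
  · rw [zpow_neg, Ne, inv_eq_one, zpow_two]; exact sq m m1
  · rw [show m ^ (4 : ℤ) = m * m * (m * m) by rw [zpow_ofNat]; ring]; exact sq _ (sq m m1)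

theorem Gam_le_comm (hq : 2 < Nat.card F) (K : Subgroup G)
    (h1 : ⁅CS S (S.xprod B fun _ => 1), CS S (S.xprod B fun _ => 1)⁆ ≤ K)
    (h2 : ∀ γ ∈ CS S (S.xprod B fun _ => 1), γ * γ = 1 → (∃ g ∈ S.grp,
      g * (S.xprod B fun _ => 1) * g⁻¹ = (S.xprod B fun _ => 1) * γ) → γ ∈ K) : Gam S B ≤ K := by
  classical
  have e : ∀ {n c : F}, n - 1 ≠ 0 → n * (c / (n - 1)) = c + c / (n - 1) := fun hn => by
    field_simp; ring
  have hb : ∀ b ∈ B, ∀ c, c ≠ 1 → S.x b c ∈ K := fun b hb c hc => by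
    obtain ⟨m, hm⟩ := FiniteField.isSquare_of_char_two (ringChar.eq F 2) (1 + c)
    have m0 : m ≠ 0 := fun k => hc (by
      rw [k, mul_zero, CharTwo.add_eq_zero] at hm; exact hm.symm)
    refine h2 _ ⟨S.x_mem_grp _ _, A.x_mem_cen (fun _ => h.nonneg hb) c⟩ (A.x_sq b c) ⟨_, S.h_mem_grp b m, ?_⟩
    rw [← S.xprod_single h.nd hb, A.dc_xprod_add fun _ hr _ hs => h.nonneg hr hs]
    refine dca_conj fun r hr => ?_
    rw [A.h_conj b r m0]
    by_cases k : r = b
    · rw [k, E.ip_self, zpow_two, ← hm, Pi.single_eq_same, mul_one]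
    · rw [h.ort b hb r hr (Ne.symm k), Pi.single_eq_of_ne k, zpow_zero, mul_one, add_zero]
  refine (closure_le _).2 ?_
  rintro _ (⟨a, c, ha, rfl⟩ | ⟨a, a', c, ha, rfl⟩)
  · rcases h.tor a ha with k | k
    · by_cases hc : c = 1
      · obtain ⟨m, m0, m1⟩ := A.exists_ne hq
        rw [show c = m + (1 + m) by rw [hc, add_left_comm, CharTwo.add_self_eq_zero, add_zero], S.x_add]
        exact mul_mem (hb a k m m1) (hb a k _ fun k => m0 (add_eq_left.1 k))
      · exact hb a k c hc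
    · obtain ⟨g, hg, n, n1, k1, -⟩ := A.dca_tor hq k
      have := h1 (commutator_mem_commutator hg
        (mem_inf.2 ⟨S.x_mem_grp _ _, A.x_mem_cen ha.2 (c / (n - 1))⟩))
      rwa [commutatorElement_def, k1, e n1, S.x_add, mul_inv_cancel_right] at this
  · obtain ⟨g, hg, n, n1, k1, k2⟩ := A.dca_tor hq ha.2.2.2
    have := h1 (commutator_mem_commutator hg (mem_inf.2 ⟨mul_mem (S.x_mem_grp _ _) (S.x_mem_grp _ _),
      A.pb_mem_cen h ha.2.2.1 (c / (n - 1))⟩))
    rwa [commutatorElement_def, ← conj_mul, k1, k2, e n1, S.x_add, S.x_add, mul_assoc (S.x a c),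
      ← mul_assoc (S.x a _) (S.x a' c), A.com ha.2.2.1.1, mul_assoc (S.x a' c), ← mul_assoc (S.x a c),
      mul_inv_cancel_right] at this

theorem dc_lb : ∃ P ≤ S.U ⊓ centralizer {S.xprod B fun _ => 1},
    Nat.card F ^ (NP Φ + 3) ≤ Nat.card P ^ 2 := by
  obtain ⟨a, a', ha⟩ := h.pr
  obtain ⟨p1, p2, ⟨h0, b, hb, b', hb', k, h1, h2, h3, h4, -⟩, -⟩ := id ha
  have cl := E.closed_of_idl h.idl
  have aT : a ∉ {a | TB Φ B a} := fun k => by
    have := k.2 b hb
    rw [(E.radd_ip h1).1] at this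
    exact absurd this (by decide)
  have ne : a ≠ a' := fun k => by
    have := h4 b' hb' h3.symm
    rw [k, (E.radd_ip h2).1] at this
    exact absurd this (by decide)
  have lay : Lay Φ {a, a'} ∅ := by
    refine ⟨?_, Set.empty_subset _, fun r hr s hs k hk => ?_⟩
    · rintro _ (rfl | rfl) <;> assumption
    · have := (E.radd_ip hk).1
      have := E.ip_self a
      have := E.ip_self a'
      have := ip_comm (Φ := Φ) a a'
      rcases hr with rfl | rfl <;> rcases hs with rfl | rfl <;> omega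
  have le : S.UU {a | TB Φ B a} ≤ S.U ⊓ centralizer {S.xprod B fun _ => 1} :=
    S.UU_le_iff.2 fun r hr c => ⟨S.x_mem_U hr.1 c, A.x_mem_cen hr.2 c⟩
  have inj : Function.Injective fun x : S.UU {a | TB Φ B a} × F =>
      (⟨x.1 * (S.x a x.2 * S.x a' x.2), mul_mem (le x.1.2) (A.Gam_le h (subset_closure
        (Or.inr ⟨a, a', x.2, ha, rfl⟩)))⟩ : (S.U ⊓ centralizer {S.xprod B fun _ => (1 : F)} : Subgroup G)) := by
    rintro ⟨u, c⟩ ⟨u', c'⟩ e
    have e1 : u.1 * (S.x a c * S.x a' c) = u'.1 * (S.x a c' * S.x a' c') := congrArg Subtype.val e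
    have e2 : u'.1⁻¹ * u.1 = S.x a (c' + c) * S.x a' (c' + c) := by
      rw [show u'.1⁻¹ * u.1 = u'.1⁻¹ * (u.1 * (S.x a c * S.x a' c)) * (S.x a c * S.x a' c)⁻¹ by group, e1,
        inv_mul_cancel_left, A.com h0 c c, mul_inv_rev, A.x_inv, A.x_inv, S.x_add, S.x_add, mul_assoc, mul_assoc,
        ← mul_assoc (S.x a' c'), ← A.com h0 c c', mul_assoc]
    have e3 := A.cf_eq_zero cl h.idl.1 (mul_mem (inv_mem u'.2) u.2) aT
    rw [e2, A.cf_mul lay (S.x_mem_UU (by simp) _) (S.x_mem_UU (by simp) _) id, A.cf_x_self p1,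
      A.cf_x_ne p2 ne, add_zero, CharTwo.add_eq_zero] at e3
    subst e3
    exact Prod.ext (Subtype.ext (mul_right_cancel e1)) rfl
  have c := Nat.card_le_card_of_injective _ inj
  rw [Nat.card_prod, A.nd.card_UU cl h.idl.1, ← pow_succ] at c
  refine ⟨_, le_rfl, le_trans ?_ (Nat.pow_le_pow_left c 2)⟩
  rw [← pow_mul]
  have := h.lb
  exact Nat.pow_le_pow_right Nat.card_pos (by omega)

end Amb

end CfsgLib.SLA
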