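import Mathlib
import Cfsg.Agent.Lib.SLA.DcgA

/-!
# The double centraliser
-/

set_option autoImplicit false
set_option linter.unusedSectionVars false

namespace CfsgLib.SLA

open CfsgLib.RGD CfsgLib.Stein Subgroup
open scoped commutatorElement Pointwise

universe u

variable {ι κ : Type} [Fintype κ] [DecidableEq κ] [Finite ι] {Φ : RootSys ι κ} {E : ER Φ}
  {F : Type} [Field F] [Finite F] [CharP F 2] {G : Type u} [Group G] [Finite G]
  {S : StSys Φ F G}

namespace Amb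

variable (A : Amb E S) {B : List ι} (h : DCert E B)
include A h

omit A h in
theorem tb_conj {u : G} (hc : u ∈ centralizer (Gam S B : Set G)) {a : ι} (ha : TB Φ B a) (c : F) :
    S.x a c * u * (S.x a c)⁻¹ = u := by
  rw [hc _ (subset_closure (Or.inl ⟨a, c, ha, rfl⟩)), mul_inv_cancel_right]

theorem mem_gr2 {u : G} (hu : u ∈ S.U) (hc : u ∈ centralizer (Gam S B : Set G)) :
    u ∈ S.UU {r | 2 ≤ grB Φ B r} := by
  refine S.UU_mono (fun r hr => hr.2) (A.elim_gr (grB Φ B) (fun r => h.gr_nonneg)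
    (fun a b k => grB_add B) 2 hu fun r hr hr' => ?_)
  obtain ⟨a, ha, h1⟩ := h.el r hr hr'
  obtain ⟨k, hk⟩ := E.exists_add h1
  refine ⟨a, k, ha.1, hk, ?_⟩
  rw [← hc _ (subset_closure (Or.inl ⟨a, 1, ha, rfl⟩)), mul_inv_cancel_right, mul_inv_cancel, A.cf_one]

omit A in
theorem dcb_lay : Lay Φ {r | 2 ≤ grB Φ B r} ∅ :=
  ⟨fun r hr => h.pos_of_gr (lt_of_lt_of_le two_pos hr), Set.empty_subset _, fun a ha b hb k hk => by
    have := h.ab a b ha hb
    rw [(E.radd_ip hk).1] at this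
    exact absurd this (by decide)⟩

omit A h in
theorem dcb_stab {a : ι} (ha : 0 ≤ grB Φ B a) : Stab Φ a {r | 2 ≤ grB Φ B r} := by
  refine ⟨fun k => ?_, fun s hs k hk => ?_⟩
  · rw [Set.mem_ofPred_eq, grB_neg] at k; omega
  · rw [Set.mem_ofPred_eq] at hs ⊢; rw [grB_add B hk]; omega

theorem mem_Wd_of_cent {u : G} (hu : u ∈ S.U) (hc : u ∈ centralizer (Gam S B : Set G)) :
    u ∈ Wd E S B := by
  have h1 := A.mem_gr2 h hu hc
  have lay := dcb_lay h
  have st : ∀ {a}, Φ.Pos a → Stab Φ a {r | 2 ≤ grB Φ B r} := fun ha => dcb_stab (h.gr_nonneg ha)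
  have st0 : ∀ a, Stab Φ a ∅ := fun a => ⟨id, fun s hs => hs.elim⟩
  have pb : ∀ {a a' r k}, PB Φ B a a' → RAdd Φ r a k → cf S u k =
      cf S (S.x a' 1 * u * (S.x a' 1)⁻¹) k + cf S (S.x a' 1 * u * (S.x a' 1)⁻¹) r := fun {a a' r k} ha hk => by
    have := A.cf_conj_add lay (st ha.1) (st0 a) 1 (A.x_conj_mem (st ha.2.1) 1 h1) hk id
    rwa [one_mul, show ∀ x y : G, x * (y * u * y⁻¹) * x⁻¹ = x * y * u * (x * y)⁻¹ from
      fun x y => by group, hc _ (subset_closure (Or.inr ⟨a, a', 1, ha, rfl⟩)), mul_inv_cancel_right] at this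
  have nsv : ∀ r, r ∉ B → r ≠ E.θ → cf S u r = 0 := fun r hr hr' => by
    by_cases h2 : 2 ≤ grB Φ B r
    · rcases h.sv r h2 with k | k | ⟨a, a', k, h6, h7, h8⟩
      · exact absurd k hr
      · exact absurd k hr'
      · have := pb h6 h7
        rwa [A.cf_conj_fix lay (st h6.2.1) (st0 a') 1 h1 (fun s hs => (h8 s hs).1) id,
          A.cf_conj_fix lay (st h6.2.1) (st0 a') 1 h1 (fun s hs => (h8 s hs).2) id, left_eq_add] at this
    · exact A.cf_eq_zero (A.lay_closed lay) lay.pos h1 h2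
  obtain ⟨b, hb, -⟩ := h.eta
  have nd : (E.θ :: B).Nodup := List.nodup_cons.2 ⟨h.nθ, h.nd⟩
  have sub : ∀ r ∈ E.θ :: B, r ∈ {r | 2 ≤ grB Φ B r} := fun r hr =>
    (List.mem_cons.1 hr).elim (fun k => k ▸ h.gθ) fun k => (h.gr_self k).ge
  have e : u = S.xprod (E.θ :: B) (cf S u) := A.cf_ext hu (S.xprod_mem_UU (fun r hr => lay.pos r (sub r hr)) _)
    fun r _ => by
      obtain ⟨h2, h3⟩ := A.cf_xprod lay nd sub (cf S u) (r := r) id
      by_cases h4 : r ∈ E.θ :: B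
      · exact (h2 h4).symm
      rw [h3 h4]
      rw [List.mem_cons, not_or] at h4
      exact nsv r h4.2 h4.1
  refine (A.mem_Wd h).2 ⟨cf S u b, cf S u E.θ, e.trans ?_⟩
  rw [S.xprod_cons, (A.comm_θ h _ _).eq, S.xprod_congr (t' := fun _ => cf S u b) fun r hr => ?_]
  by_contra h2
  obtain ⟨a, a', k, h3, h4, h5, h6⟩ := h.eq r hr b hb fun k => h2 (k ▸ rfl)
  have fix : cf S (S.x a' 1 * u * (S.x a' 1)⁻¹) r = cf S u r := by
    by_cases h7 : ∃ s, RAdd Φ s a' r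
    · obtain ⟨s, h7⟩ := h7
      rw [A.cf_conj_add lay (st h3.2.1) (st0 a') 1 h1 h7 id, nsv s (h6 s h7).1 (h6 s h7).2, mul_zero, add_zero]
    · exact A.cf_conj_fix lay (st h3.2.1) (st0 a') 1 h1 (fun s _ k => h7 ⟨s, k⟩) id
  have := pb h3 h4
  rw [fix, A.cf_conj_add lay (st h3.2.1) (st0 a') 1 h1 h5 id, one_mul, add_assoc, left_eq_add,
    CharTwo.add_eq_zero] at this
  exact h2 this.symm

theorem cen_Gam {g : G} (hg : g ∈ NL S) (hc : g ∈ centralizer (Gam S B : Set G)) :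
    ∃ w ∈ Wd E S B, ∃ k ∈ CL S, g = w * k := by
  obtain ⟨u, hu, h4⟩ := A.cenU h.idl h.gen hg fun r hr c => by
    rw [← hc _ (subset_closure (Or.inl ⟨r, c, hr, rfl⟩)), mul_inv_cancel_right, mul_inv_cancel]
    exact one_mem _
  exact ⟨u⁻¹, inv_mem (A.mem_Wd_of_cent h hu ((mul_mem_cancel_right hc).1 (centralizer_le
    (((A.Gam_le h).trans inf_le_left).trans S.U_le_grp) h4))), _, h4, (inv_mul_cancel_left u g).symm⟩

end Amb

end CfsgLib.SLA
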