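import Mathlib
import Cfsg.Agent.Lib.SLA.DcgB

/-!
# The double centraliser of a non-root involution
-/

set_option autoImplicit false
set_option linter.unusedSectionVars false

namespace CfsgLib.SLA

open CfsgLib.RGD CfsgLib.Stein Subgroup
open scoped commutatorElement Pointwise

universe u

variable {ι κ : Type} [Fintype κ] [DecidableEq κ] [Finite ι] {Φ : RootSys ι κ} {E : ER Φ}
  {F : Type} [Field F] [Finite F] [CharP F 2] {G : Type u} [Group G] [Finite G]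
  {S : StSys Φ F G}

omit [Finite F] [CharP F 2] [Finite G] in
/-- the group theoretic form of `DCert` -/
structure DCF (E : ER Φ) (S : StSys Φ F G) (l : G) (Γ W : Subgroup G) : Prop where
  ΓU : Γ ≤ S.U ⊓ centralizer {l}
  Γc : 2 < Nat.card F → ∀ K : Subgroup G, ⁅CS S l, CS S l⁆ ≤ K →
    (∀ γ ∈ CS S l, γ * γ = 1 → (∃ g ∈ S.grp, g * l * g⁻¹ = l * γ) → γ ∈ K) → Γ ≤ K
  cen : ∀ g ∈ NL S, g ∈ centralizer (Γ : Set G) → ∃ w ∈ W, ∃ k ∈ CL S, g = w * k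
  WU : W ≤ S.U
  sq : ∀ w ∈ W, w * w = 1
  ZW : S.X E.θ ≤ W
  lW : l ∈ W
  lZ : l ∉ S.X E.θ
  conj : ∀ w ∈ W, w ∉ S.X E.θ → ∃ g ∈ S.grp, g * l * g⁻¹ = w
  two : Nat.card F = 2 → ∀ w ∈ W, w ∉ S.X E.θ → w = l ∨ w = l * S.x E.θ 1
  P : ∃ P ≤ S.grp, IsPGroup 2 P ∧ l ∈ P ∧ P ≤ centralizer {l * S.x E.θ 1} ∧
    ∃ c ∈ P, c * l ≠ l * c
  lb : ∃ P ≤ S.U ⊓ centralizer {l}, Nat.card F ^ (NP Φ + 3) ≤ Nat.card P ^ 2

theorem Amb.tor_conj (A : Amb E S) (L : List ι) {m : F} (hm : m ≠ 0) :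
    ∃ g ∈ S.grp, ∀ s u, g * S.x s u * g⁻¹ = S.x s (m ^ grB Φ L s * u) := by
  induction L with
  | nil => exact ⟨1, one_mem _, fun s u => by simp [grB]⟩
  | cons d L ih =>
    obtain ⟨g, hg, h⟩ := ih
    refine ⟨S.h d m * g, mul_mem (S.h_mem_grp d m) hg, fun s u => ?_⟩
    rw [show ∀ a x : G, a * g * x * (a * g)⁻¹ = a * (g * x * g⁻¹) * a⁻¹ from fun a x => by group, h,
      A.h_conj d s hm, ← mul_assoc, ← zpow_add₀ hm, ip_comm]
    rfl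

theorem conj_xprod {g : G} {L : List ι} {t t' : ι → F} (h : ∀ r ∈ L, g * S.x r (t r) * g⁻¹ = S.x r (t' r)) :
    g * S.xprod L t * g⁻¹ = S.xprod L t' := by
  induction L with
  | nil => simp [StSys.xprod_nil]
  | cons d L ih =>
    rw [S.xprod_cons, S.xprod_cons, ← conj_mul, h d List.mem_cons_self,
      ih fun r hr => h r (List.mem_cons_of_mem _ hr)]

theorem Amb.dc_conj (A : Amb E S) {B : List ι} (h : DCert E B) {c : F} (hc : c ≠ 0) (e : F) :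
    ∃ g ∈ S.grp, g * (S.xprod B fun _ => 1) * g⁻¹ = (S.xprod B fun _ => c) * S.x E.θ e := by
  obtain ⟨m, rfl⟩ := FiniteField.isSquare_of_char_two (ringChar.eq F 2) c
  obtain ⟨g, hg, h1⟩ := A.tor_conj B (left_ne_zero_of_mul hc)
  obtain ⟨b, hb, η, h2, h3⟩ := h.eta
  refine ⟨S.x η (e / (m * m)) * g, mul_mem (S.x_mem_grp _ _) hg, ?_⟩
  rw [show ∀ a x : G, a * g * x * (a * g)⁻¹ = a * (g * x * g⁻¹) * a⁻¹ from fun a x => by group,
    conj_xprod (t' := fun _ => m * m) fun r hr => by rw [h1, h.gr_self hr, zpow_two, mul_one],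
    A.conj_l h hb h2 h3, div_mul_cancel₀ _ hc]

theorem Amb.dc_P (A : Amb E S) {B : List ι} (h : DCert E B) :
    ∃ P ≤ S.grp, IsPGroup 2 P ∧ (S.xprod B fun _ => 1) ∈ P ∧
      P ≤ centralizer {(S.xprod B fun _ => 1) * S.x E.θ 1} ∧
      ∃ c ∈ P, c * (S.xprod B fun _ => 1) ≠ (S.xprod B fun _ => 1) * c := by
  obtain ⟨b, hb, η, h2, h3⟩ := h.eta
  obtain ⟨δ, δ', h4, g1, g2, h5, -, h6⟩ := h.del
  obtain ⟨k, hk⟩ := E.exists_add ((ip_comm E.θ δ).trans h5)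
  have lay := Amb.dcb_lay h
  have st1 : Stab Φ δ _ := Amb.dcb_stab g1.ge
  have st2 : Stab Φ δ' _ := Amb.dcb_stab g2.ge
  have st0 : ∀ a, Stab Φ a ∅ := fun a => ⟨id, fun s hs => hs.elim⟩
  have e1 := A.conj_l h hb h2 h3 1 fun _ => 1
  have c1 := (A.comm_θ h 1 fun _ => 1).eq
  have c2 := mem_centralizer_singleton_iff.1 (A.pb_mem_cen h h4 1)
  have c3 := A.com (a := η) (b := E.θ) (by rw [(E.radd_ip h2).2.1]; decide) 1 1
  have l2 : (S.xprod B fun _ => 1) ∈ S.UU {r | 2 ≤ grB Φ B r} :=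
    S.xprod_mem_UU (fun r hr => (h.gr_self hr).ge) _
  have m2 : S.x E.θ 1 ∈ S.UU {r | 2 ≤ grB Φ B r} := S.x_mem_UU h.gθ 1
  have y2 : S.x δ 1 * S.x δ' 1 * (S.x δ 1 * S.x δ' 1) = 1 := by
    rw [mul_assoc, ← mul_assoc (S.x δ' 1), ← A.com h4.1, mul_assoc, A.x_sq, mul_one, A.x_sq]
  have cj : ∀ u : G, S.x δ 1 * S.x δ' 1 * u * (S.x δ 1 * S.x δ' 1)⁻¹ =
      S.x δ 1 * (S.x δ' 1 * u * (S.x δ' 1)⁻¹) * (S.x δ 1)⁻¹ := fun u => by group
  have p1 : IsPGroup 2 (zpowers (S.x δ 1 * S.x δ' 1) ⊔ S.UU {r | 2 ≤ grB Φ B r} : Subgroup G) :=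
    IsPGroup.to_sup_of_normal_right' (Core.isPGroup_zpowers_iff.2 ⟨1, by rw [pow_one, pow_two, y2]⟩)
      (A.pg_U.to_le (S.UU_mono lay.pos)) (zpowers_le.2 (mem_normalizer_fintype fun u hu => by
        rw [cj]; exact A.x_conj_mem st1 1 (A.x_conj_mem st2 1 hu)))
  have nθ : ∀ a, ¬ RAdd Φ E.θ a E.θ := fun a ha => by
    have := (E.radd_ip ha).2.1
    rw [E.ip_self] at this
    exact absurd this (by decide)
  have fix : ∀ r, ¬ RAdd Φ E.θ δ' r → cf S (S.x δ' 1 * S.x E.θ 1 * (S.x δ' 1)⁻¹) r = cf S (S.x E.θ 1) r :=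
    fun r hr => by
      by_cases h7 : ∃ s, RAdd Φ s δ' r
      · obtain ⟨s, h7⟩ := h7
        rw [A.cf_conj_add lay st2 (st0 _) 1 m2 h7 id, A.cf_x_ne (s := s) E.pos_θ (fun e => hr (e ▸ h7)),
          mul_zero, add_zero]
      · exact A.cf_conj_fix lay st2 (st0 _) 1 m2 (fun s _ k => h7 ⟨s, k⟩) id
  have nc : S.x δ 1 * S.x δ' 1 * S.x E.θ 1 ≠ S.x E.θ 1 * (S.x δ 1 * S.x δ' 1) := fun e => by
    have := A.cf_conj_add lay st1 (st0 _) 1 (A.x_conj_mem st2 1 m2) hk id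
    rw [← cj, e, mul_inv_cancel_right, fix _ (nθ _), fix k fun k' => h6 (by
      have := E.bd δ; have := E.bd δ'; have := E.bd k; have := E.bd E.θ
      rw [E.radd_iff] at hk k'
      rw [E.eq_iff]; omega), A.cf_x_self E.pos_θ, left_eq_add, mul_one] at this
    exact one_ne_zero this
  have ym : S.x δ 1 * S.x δ' 1 ∈ S.grp := mul_mem (S.x_mem_grp _ _) (S.x_mem_grp _ _)
  rw [mul_one] at e1
  generalize (S.xprod B fun _ => (1 : F)) = l at *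
  generalize S.x δ 1 * S.x δ' 1 = y at *
  refine ⟨((zpowers y ⊔ S.UU {r | 2 ≤ grB Φ B r}) ⊓ centralizer {l}).map (MulAut.conj (S.x η 1)).toMonoidHom, ?_,
    p1.to_inf_left.map _, ⟨l * S.x E.θ 1, ⟨mem_sup_right (mul_mem l2 m2),
      mem_centralizer_singleton_iff.2 (by rw [mul_assoc, c1])⟩, ?_⟩, ?_,
    _, ⟨y, ⟨mem_sup_left (mem_zpowers y), mem_centralizer_singleton_iff.2 c2⟩, rfl⟩, fun e => ?_⟩
  · rintro _ ⟨x, hx, rfl⟩
    exact mul_mem (mul_mem (S.x_mem_grp _ _) (sup_le (zpowers_le.2 ym) (S.UU_le_grp _) hx.1))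
      (inv_mem (S.x_mem_grp _ _))
  · change S.x η 1 * (l * S.x E.θ 1) * (S.x η 1)⁻¹ = l
    rw [← conj_mul, e1, c3, mul_inv_cancel_right, mul_assoc, A.x_sq, mul_one]
  · rintro _ ⟨x, hx, rfl⟩
    rw [mem_centralizer_singleton_iff, ← e1]
    change S.x η 1 * x * (S.x η 1)⁻¹ * _ = _ * (S.x η 1 * x * (S.x η 1)⁻¹)
    rw [conj_mul, conj_mul, mem_centralizer_singleton_iff.1 hx.2]
  · change S.x η 1 * y * (S.x η 1)⁻¹ * _ = _ * (S.x η 1 * y * (S.x η 1)⁻¹) at e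
    have e2 : l = S.x η 1 * (l * S.x E.θ 1) * (S.x η 1)⁻¹ := by
      rw [← conj_mul, e1, c3, mul_inv_cancel_right, mul_assoc, A.x_sq, mul_one]
    rw [e2, conj_mul, conj_mul, mul_left_inj, mul_right_inj, ← mul_assoc, c2, mul_assoc, mul_assoc,
      mul_right_inj] at e
    exact nc e

theorem Amb.dcf (A : Amb E S) {B : List ι} (h : DCert E B) :
    ∃ Γ W, DCF E S (S.xprod B fun _ => 1) Γ W := by
  refine ⟨Gam S B, Wd E S B, A.Gam_le h, A.Gam_le_comm h, fun g => A.cen_Gam h, A.Wd_le h,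
    fun w => A.Wd_sq h, fun w hw => ?_, (A.mem_Wd h).2 ⟨1, 0, by rw [S.x_zero, mul_one]⟩,
    fun k => one_ne_zero ((A.Wd_mem_Z h (e := 0)).1 (by rwa [S.x_zero, mul_one])), fun w hw hw' => ?_,
    fun hq w hw hw' => ?_, A.dc_P h, A.dc_lb h⟩
  · obtain ⟨e, rfl⟩ := S.mem_X_iff.1 hw
    exact (A.mem_Wd h).2 ⟨0, e, by rw [S.xprod_zero, one_mul]⟩
  · obtain ⟨c, e, rfl⟩ := (A.mem_Wd h).1 hw
    exact A.dc_conj h (fun k => hw' ((A.Wd_mem_Z h).2 k)) e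
  · obtain ⟨c, e, rfl⟩ := (A.mem_Wd h).1 hw
    obtain ⟨y, -, hy⟩ := (Nat.card_eq_two_iff' (0 : F)).1 hq
    have k : ∀ a : F, a ≠ 0 → a = 1 := fun a ha => (hy a ha).trans (hy 1 one_ne_zero).symm
    rw [k c fun k => hw' ((A.Wd_mem_Z h).2 k)]
    by_cases he : e = 0
    · exact Or.inl (by rw [he, S.x_zero, mul_one])
    · exact Or.inr (by rw [k e he])

end CfsgLib.SLA
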