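import Mathlib
import Cfsg.Agent.Lib.SLA.Rt

/-!
# The certificates of the standard involutions
-/

set_option autoImplicit false
set_option linter.unusedSectionVars false
set_option linter.unusedVariables false

namespace CfsgLib.SLA

open CfsgLib.RGD CfsgLib.Stein Subgroup
open scoped commutatorElement Pointwise

universe u

variable {ι κ : Type} [Fintype κ] [DecidableEq κ] [Finite ι] {Φ : RootSys ι κ} {E : ER Φ}
  {F : Type} [Field F] [Finite F] [CharP F 2] {G : Type u} [Group G] [Finite G]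
  {S : StSys Φ F G}

theorem ER.co_jl (E : ER Φ) {l i : ℕ} (h : 2 * l ≤ E.m) (hi : i < l) :
    E.lo (E.e i (E.m - l + i)) = i ∧ E.hi (E.e i (E.m - l + i)) = E.m - l + i :=
  ⟨E.lo_e _ _ (by omega) (by omega) (by omega), E.hi_e _ _ (by omega) (by omega) (by omega)⟩

theorem ER.mem_jl (E : ER Φ) {l : ℕ} (h : 2 * l ≤ E.m) {b : ι} :
    b ∈ E.jl l ↔ E.lo b < l ∧ E.hi b + l = E.m + E.lo b := by
  simp only [ER.jl, List.mem_map, List.mem_range]
  refine ⟨?_, fun h1 => ⟨E.lo b, h1.1, ?_⟩⟩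
  · rintro ⟨i, hi, rfl⟩
    have := E.co_jl h hi
    omega
  · have := E.co_jl h h1.1
    rw [E.eq_iff]; omega

theorem ER.jl_one (E : ER Φ) : E.jl 1 = [E.θ] := by
  have := E.co
  have := E.co_jl (l := 1) (by omega) one_pos
  exact congrArg (· :: []) (E.eq_iff.2 (by dsimp only; omega))

theorem ER.gr_jl (E : ER Φ) {l : ℕ} (h : 2 * l ≤ E.m) (r : ι) : grB Φ (E.jl l) r =
    (if E.lo r < l then 1 else 0) + (if E.m ≤ E.hi r + l then 1 else 0) -
      (if E.m ≤ E.lo r + l then 1 else 0) - if E.hi r < l then 1 else 0 := by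
  have k : ∀ k ≤ l, grB Φ ((List.range k).map fun i => E.e i (E.m - l + i)) r =
      (if E.lo r < k then 1 else 0) + (if E.m ≤ E.hi r + l ∧ E.hi r + l < E.m + k then 1 else 0) -
      (if E.m ≤ E.lo r + l ∧ E.lo r + l < E.m + k then 1 else 0) - if E.hi r < k then 1 else 0 := by
    intro k hk
    induction k with
    | zero => simp [grB]; omega
    | succ k ih =>
      have := ih (by omega)
      simp only [grB, List.range_succ, List.map_append, List.sum_append, List.map_cons, List.map_nil,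
        List.sum_cons, List.sum_nil, add_zero] at this ⊢
      rw [this, E.ip_eq, (E.co_jl h hk).1, (E.co_jl h hk).2]
      have (x : ℕ) : (if x < k + 1 then 1 else 0 : ℤ) = (if x < k then 1 else 0) + if x = k then 1 else 0 := by omega
      have (x : ℕ) : (if E.m ≤ x + l ∧ x + l < E.m + (k + 1) then 1 else 0 : ℤ) =
        (if E.m ≤ x + l ∧ x + l < E.m + k then 1 else 0) + if x = E.m - l + k then 1 else 0 := by omega
      simp only [*]; ring
  have := E.bd r
  simpa [this, ER.jl] using k l le_rfl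

theorem ER.tb_jl (E : ER Φ) {l : ℕ} (h : 2 * l ≤ E.m) {a : ι} :
    TB Φ (E.jl l) a ↔ E.lo a < E.hi a ∧ E.lo a + l < E.m ∧ l ≤ E.hi a := by
  have := E.bd a
  refine and_congr E.pos_iff ⟨fun h1 => ⟨?_, ?_⟩, fun h1 b hb => ?_⟩
  · by_contra c
    obtain ⟨b, hb⟩ := E.exists_e (i := E.lo a + l - E.m) (j := E.lo a) (by omega) (by omega) (by omega)
    exact (E.nonneg_iff.1 (h1 b ((E.mem_jl h).2 (by omega)))).1 hb.2.symm
  · by_contra c
    obtain ⟨b, hb⟩ := E.exists_e (i := E.hi a) (j := E.m - l + E.hi a) (by omega) (by omega) (by omega)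
    exact (E.nonneg_iff.1 (h1 b ((E.mem_jl h).2 (by omega)))).2 hb.1.symm
  · rw [E.mem_jl h] at hb
    rw [E.nonneg_iff]; omega

theorem PB0.symm {B : List ι} {a a' : ι} (h : PB0 Φ B a a') : PB0 Φ B a' a := by
  obtain ⟨h0, b, hb, b', hb', k, h1, h2, h3, h4, h5⟩ := h
  exact ⟨(ip_comm a a' : ip Φ a a' = _) ▸ h0, b', hb', b, hb, k, h2, h1, h3.symm, h5, h4⟩

theorem PB.symm {B : List ι} {a a' : ι} (h : PB Φ B a a') : PB Φ B a' a := by
  obtain ⟨h1, h2, h3, d, d', h4, h5, h6⟩ := h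
  exact ⟨h2, h1, h3.symm, d, d', h4, h5.symm, h5 ▸ h6⟩

theorem ER.pair_jl (E : ER Φ) {l i j : ℕ} (h : 2 * l ≤ E.m) (hi : i < l) (hj : j < l) (hij : i ≠ j) :
    ∃ a a', (E.lo a = i ∧ E.hi a = j ∧ E.lo a' + l = E.m + i ∧ E.hi a' + l = E.m + j) ∧ PB0 Φ (E.jl l) a a' ∧
      (∀ b ∈ E.jl l, ip Φ a b + ip Φ a' b = 0) ∧ (i < j → PB Φ (E.jl l) a a') := by
  obtain ⟨a, ha⟩ := E.exists_e (i := i) (j := j) (by omega) (by omega) hij
  obtain ⟨a', ha'⟩ := E.exists_e (i := E.m - l + i) (j := E.m - l + j) (by omega) (by omega) (by omega)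
  obtain ⟨k, hk⟩ := E.exists_e (i := i) (j := E.m - l + j) (by omega) (by omega) (by omega)
  have h1 := E.co_jl h hi
  have h2 := E.co_jl h hj
  have h3 : PB0 Φ (E.jl l) a a' := by
    refine ⟨E.nonneg_iff.2 (by omega), E.e j (E.m - l + j), (E.mem_jl h).2 (by omega), E.e i (E.m - l + i),
      (E.mem_jl h).2 (by omega), k, (E.radd_iff ..).2 (by omega), (E.radd_iff ..).2 (by omega),
      mt E.eq_iff.1 (by omega), fun c hc h1 => ?_, fun c hc h1 => ?_⟩ <;>
    · rw [E.mem_jl h] at hc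
      rw [Ne, E.eq_iff] at h1
      rw [E.nonneg_iff]; omega
  have h4 : ∀ b ∈ E.jl l, ip Φ a b + ip Φ a' b = 0 := fun b hb => by
    rw [E.mem_jl h] at hb
    rw [E.ip_eq, E.ip_eq, if_neg (c := E.hi a = E.hi b) (by omega), if_neg (c := E.lo a = E.hi b) (by omega),
      if_neg (c := E.lo a' = E.lo b) (by omega), if_neg (c := E.hi a' = E.lo b) (by omega)]
    omega
  have h5 : ip Φ a a' = 0 := E.ip_zero_iff.2 (by omega)
  exact ⟨a, a', by omega, h3, h4, fun c => ⟨E.pos_iff.2 (by omega), E.pos_iff.2 (by omega), h3, a, a', h4,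
    by rw [E.ip_self, E.ip_self, ip_comm a', add_comm], by simp [E.ip_self, ip_comm a', h5]⟩⟩

set_option maxHeartbeats 800000 in
theorem ER.dcert (E : ER Φ) {l : ℕ} (h2 : 2 ≤ l) (h : 2 * l ≤ E.m) : DCert E (E.jl l) := by
  have co := And.intro E.lo_θ E.hi_θ
  have g2 : ∀ {r}, 2 ≤ grB Φ (E.jl l) r ↔ E.lo r < l ∧ E.m ≤ E.hi r + l := fun {r} => by
    rw [E.gr_jl h]; omega
  have mj := @E.mem_jl _ _ _ _ _ _ l h
  have tb := @E.tb_jl _ _ _ _ _ _ l h
  refine ⟨?_, fun b hb b' hb' h1 => ?_, by rw [mj]; omega, fun i => ?_, fun r s h1 h2 => ?_, by rw [g2]; omega,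
    ⟨fun r h1 => h1.1, fun r h1 a ha k hk => ?_⟩, fun T h1 h2 h3 => E.gen_AA T (fun r hr => ?_) h2 h3,
    fun a ha => ?_, fun r h1 h2 => ?_, fun r hr => ?_, fun b hb b' hb' h1 => ?_, ?_, ?_, ?_, ?_⟩
  · refine List.nodup_range.map_on fun i hi j hj e => ?_
    rw [← (E.co_jl h (List.mem_range.1 hi)).1, e, (E.co_jl h (List.mem_range.1 hj)).1]
  · rw [mj] at hb hb'
    rw [Ne, E.eq_iff] at h1
    rw [E.ip_zero_iff]; omega
  · rw [E.gr_jl h, E.lo_simple, E.hi_simple]; omega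
  · rw [g2] at h1 h2
    rw [E.nonneg_iff]; omega
  · have := E.bd k
    rw [Set.mem_ofPred_eq, tb] at h1 ⊢
    rw [E.pos_iff] at ha
    rw [E.radd_iff] at hk
    omega
  · have := E.bd r
    rw [Set.mem_ofPred_eq] at hr
    by_cases c : l ≤ E.hi r
    · exact h1 (tb.2 (by omega))
    obtain ⟨b, hb⟩ := E.exists_e (i := E.hi r) (j := E.m - 1) (by omega) (by omega) (by omega)
    exact h3 _ (h1 (tb.2 (by omega) : TB Φ _ E.θ)) _ (h2 _ (h1 (tb.2 (by omega) : TB Φ _ b))) r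
      (by rw [E.radd_iff, E.lo_neg, E.hi_neg]; omega)
  · have := E.bd a
    rw [tb] at ha
    refine or_iff_not_imp_left.2 fun hB => ?_
    rw [mj] at hB
    by_cases c : l ≤ E.lo a ∧ E.hi a + l < E.m
    · refine ⟨a, a, fun b hb => ?_, rfl, by simp [E.ip_self]⟩
      rw [mj] at hb
      rw [E.ip_zero_iff.2 (by omega), add_zero]
    obtain ⟨i, j, hi, hj, hij, e⟩ : ∃ i j, i < l ∧ j < l ∧ i ≠ j ∧ j ≠ E.lo a ∧ E.hi a + l ≠ E.m + i ∧
        (i = E.lo a ∨ E.hi a + l = E.m + j) := by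
      by_cases c1 : E.lo a < l <;> by_cases c2 : E.m ≤ E.hi a + l
      · exact ⟨E.lo a, E.hi a + l - E.m, by omega⟩
      · exact ⟨E.lo a, if E.lo a = 0 then 1 else 0, by split_ifs <;> omega⟩
      · exact ⟨if E.hi a + l = E.m then 1 else 0, E.hi a + l - E.m, by split_ifs <;> omega⟩
      · omega
    obtain ⟨d, d', h1, -, h3, -⟩ := E.pair_jl h hi hj hij
    refine ⟨d, d', h3, rfl, ?_⟩
    rw [E.ip_eq, E.ip_eq, if_neg (c := E.hi d = E.hi a) (by omega), if_neg (c := E.lo d = E.hi a) (by omega),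
      if_neg (c := E.hi d = E.lo a) (by omega), if_neg (c := E.lo d' = E.lo a) (by omega),
      if_neg (c := E.lo d' = E.hi a) (by omega), if_neg (c := E.hi d' = E.lo a) (by omega)]
    simp only [Set.mem_insert_iff, Set.mem_singleton_iff]
    omega
  · have := E.bd r
    rw [← not_le, g2] at h2
    rw [E.pos_iff] at h1
    by_cases c : E.hi r + l < E.m
    · obtain ⟨a, ha⟩ := E.exists_e (i := E.hi r) (j := E.m - 1) (by omega) (by omega) (by omega)
      exact ⟨a, tb.2 (by omega), E.ip_neg_one_iff.2 (by omega)⟩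
    · obtain ⟨a, ha⟩ := E.exists_e (i := 0) (j := E.lo r) (by omega) (by omega) (by omega)
      exact ⟨a, tb.2 (by omega), E.ip_neg_one_iff.2 (by omega)⟩
  · have := E.bd r
    rw [g2] at hr
    refine or_iff_not_imp_left.2 fun hB => or_iff_not_imp_left.2 fun hθ => ?_
    rw [mj] at hB
    rw [E.eq_iff] at hθ
    by_cases c : E.lo r = 0
    · obtain ⟨a', a, h1, -, -, h3⟩ := E.pair_jl (i := E.hi r + l - E.m) (j := l - 1) h (by omega) (by omega) (by omega)
      refine ⟨a, a', E.θ, (h3 (by omega)).symm, (E.radd_iff ..).2 (by omega), fun s hs => ?_⟩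
      rw [g2] at hs
      rw [E.radd_iff, E.radd_iff]; omega
    · obtain ⟨a, a', h1, -, -, h3⟩ := E.pair_jl (i := 0) (j := E.lo r) h (by omega) (by omega) (by omega)
      obtain ⟨k, hk⟩ := E.exists_e (i := 0) (j := E.hi r) (by omega) (by omega) (by omega)
      refine ⟨a, a', k, h3 (by omega), (E.radd_iff ..).2 (by omega), fun s hs => ?_⟩
      rw [g2] at hs
      rw [E.radd_iff, E.radd_iff]; omega
  · rw [mj] at hb hb'
    rw [Ne, E.eq_iff] at h1
    by_cases c : E.lo b < E.lo b'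
    · obtain ⟨a', a, h1, -, -, h3⟩ := E.pair_jl h hb.1 hb'.1 c.ne
      obtain ⟨k, hk⟩ := E.exists_e (i := E.lo b) (j := E.hi b') (by omega) (by omega) (by omega)
      refine ⟨a, a', k, (h3 c).symm, (E.radd_iff ..).2 (by omega), (E.radd_iff ..).2 (by omega), fun s hs => ?_⟩
      rw [E.radd_iff] at hs
      rw [mj, Ne, E.eq_iff]; omega
    · obtain ⟨a, a', h1, -, -, h3⟩ := E.pair_jl h hb'.1 hb.1 (by omega)
      obtain ⟨k, hk⟩ := E.exists_e (i := E.lo b') (j := E.hi b) (by omega) (by omega) (by omega)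
      refine ⟨a, a', k, h3 (by omega), (E.radd_iff ..).2 (by omega), (E.radd_iff ..).2 (by omega), fun s hs => ?_⟩
      rw [E.radd_iff] at hs
      rw [mj, Ne, E.eq_iff]; omega
  · obtain ⟨b, hb⟩ := E.exists_e (i := l - 1) (j := E.m - 1) (by omega) (by omega) (by omega)
    obtain ⟨η, hη⟩ := E.exists_e (i := 0) (j := l - 1) (by omega) (by omega) (by omega)
    refine ⟨b, mj.2 (by omega), η, (E.radd_iff ..).2 (by omega), fun c hc h1 => ?_⟩
    rw [mj] at hc
    rw [Ne, E.eq_iff] at h1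
    rw [E.nonneg_iff]; omega
  · obtain ⟨a, a', h1, h3, -⟩ := E.pair_jl (i := 1) (j := 0) h (by omega) (by omega) (by omega)
    exact ⟨a, a', h3, by rw [E.gr_jl h]; omega, by rw [E.gr_jl h]; omega, E.ip_neg_one_iff.2 (by omega),
      Int.lt_add_one_iff.1 (not_le.1 (mt E.one_le_iff.1 (by omega))), mt E.eq_iff.1 (by omega)⟩
  · obtain ⟨a, a', -, -, -, h3⟩ := E.pair_jl (i := 0) (j := 1) h (by omega) (by omega) (by omega)
    exact ⟨a, a', h3 one_pos⟩
  · have k : ∀ r ∈ {r | Φ.Pos r} \ {a | TB Φ (E.jl l) a}, ∃ s, E.lo r < E.hi r ∧ E.hi r < E.m ∧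
        (E.hi r < l ∧ E.lo s = E.lo r ∧ E.hi s + l = E.m + E.hi r ∨
          E.m ≤ E.lo r + l ∧ E.lo s + E.m = E.hi r + l ∧ E.hi s = E.lo r) := fun r hr => by
      have := E.bd r
      simp only [Set.mem_sdiff, Set.mem_ofPred_eq, tb, E.pos_iff] at hr
      by_cases c : E.hi r < l
      · obtain ⟨s, hs⟩ := E.exists_e (i := E.lo r) (j := E.m - l + E.hi r) (by omega) (by omega) (by omega)
        exact ⟨s, by omega⟩
      · obtain ⟨s, hs⟩ := E.exists_e (i := E.hi r + l - E.m) (j := E.lo r) (by omega) (by omega) (by omega)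
        exact ⟨s, by omega⟩
    have : Nonempty ι := ⟨E.θ⟩
    choose! f hf using k
    have b0 := E.co_jl (i := 0) h (by omega)
    have h1 := Set.ncard_le_ncard_of_injOn (t := {a | TB Φ (E.jl l) a} \ {E.e 0 (E.m - l + 0)}) f
      (fun r hr => by
        have := hf r hr
        rw [Set.mem_sdiff, Set.mem_ofPred_eq, tb, Set.mem_singleton_iff, E.eq_iff]; omega)
      fun r hr s hs e => by
        have := hf r hr
        have := hf s hs
        rw [E.eq_iff] at e ⊢; omega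
    have h3 := Set.ncard_sdiff_singleton_add_one (s := {a | TB Φ (E.jl l) a}) (a := E.e 0 (E.m - l + 0))
      (tb.2 (by omega))
    have h4 := Set.ncard_sdiff_add_ncard_of_subset (s := {a | TB Φ (E.jl l) a}) (t := {r | Φ.Pos r}) fun _ h => h.1
    unfold NP
    omega

theorem DCert.four {B : List ι} (h : DCert E B) : 4 ≤ E.m := by
  obtain ⟨a, a', -, -, ⟨-, b, hb, b', hb', k, -, -, h1, -⟩, -⟩ := h.pr
  have h2 := E.ip_zero_iff.1 (h.ort b hb b' hb' h1)
  have := E.bd b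
  have := E.bd b'
  omega

end CfsgLib.SLA
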