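import Mathlib
import Cfsg.Agent.Lib.SLA.Pre
import Cfsg.Agent.Lib.SLA.Red
import Cfsg.Agent.Lib.ClSys.SLPres
import Cfsg.Agent.Lib.Classical.SLBasic

/-!
# The matrix model: the covering homomorphism
-/

set_option autoImplicit false
set_option linter.unusedSectionVars false
set_option linter.unusedVariables false

namespace CfsgLib.SLA

open CfsgLib.RGD CfsgLib.Stein Subgroup
open scoped commutatorElement Pointwise

universe u

variable {ι κ : Type} [Fintype κ] [DecidableEq κ] [Finite ι] {Φ : RootSys ι κ} {E : ER Φ}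
  {F : Type} [Field F] [Finite F] [CharP F 2] {G : Type u} [Group G] [Finite G]
  {S : StSys Φ F G}

open Matrix CfsgLib.ClSys

omit [Finite ι] [Finite F] [CharP F 2] in
/-- the transvection of the root `r` -/
def ER.tv (E : ER Φ) (F : Type) [Field F] (r : ι) (c : F) : SpecialLinearGroup (Fin E.m) F :=
  SpecialLinearGroup.transvection (i := ⟨E.lo r, E.lo_lt r⟩) (j := ⟨E.hi r, E.hi_lt r⟩)
    (fun h => E.ne r (congrArg Fin.val h)) c

omit [Finite ι] [Finite F] [CharP F 2] in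
/-- the root of a pair of indices -/
def ER.od (E : ER Φ) (a : OffD E.m) : ι := E.e a.1.1 a.1.2

omit [Finite ι] [Finite F] [CharP F 2] [Finite G] in
/-- `φ` maps the transvections to the family `y` and has central kernel -/
structure Cov (E : ER Φ) (y : ι → F → G) (φ : SpecialLinearGroup (Fin E.m) F →* G) : Prop where
  tv : ∀ r c, φ (E.tv F r c) = y r c
  ker : φ.ker ≤ center _

theorem ER.lo_od (E : ER Φ) (a : OffD E.m) : E.lo (E.od a) = a.1.1 :=
  E.lo_e _ _ a.1.1.2 a.1.2.2 fun h => a.2 (Fin.ext h)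

theorem ER.hi_od (E : ER Φ) (a : OffD E.m) : E.hi (E.od a) = a.1.2 :=
  E.hi_e _ _ a.1.1.2 a.1.2.2 fun h => a.2 (Fin.ext h)

theorem ER.tv_od (E : ER Φ) (a : OffD E.m) (c : F) :
    E.tv F (E.od a) c = SpecialLinearGroup.transvection a.2 c := by
  unfold ER.tv
  congr 1 <;> simp [E.lo_od, E.hi_od]

theorem ER.tv_eq (E : ER Φ) {r : ι} {i j : Fin E.m} (h : i ≠ j) (h1 : E.lo r = i) (h2 : E.hi r = j)
    (c : F) : E.tv F r c = SpecialLinearGroup.transvection h c := by
  unfold ER.tv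
  congr 1 <;> simp [h1, h2]

theorem ER.rel_tv (E : ER Φ) : Rel Φ (E.tv F) := by
  refine ⟨fun r u v => SpecialLinearGroup.transvection_add _ u v, fun a b r h u v => ?_, fun a b h u v => ?_⟩
  · have k : ∀ {a b r}, E.hi a = E.lo b → E.lo r = E.lo a → E.hi r = E.hi b → ∀ u v : F,
        ⁅E.tv F a u, E.tv F b v⁆ = E.tv F r (u * v) := fun {a b r} h1 h2 h3 u v => by
      have n1 : (⟨E.hi a, E.hi_lt a⟩ : Fin E.m) ≠ ⟨E.hi b, E.hi_lt b⟩ := fun e => E.ne b (h1 ▸ congrArg Fin.val e)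
      have n2 : (⟨E.lo a, E.lo_lt a⟩ : Fin E.m) ≠ ⟨E.hi b, E.hi_lt b⟩ := fun e =>
        E.ne r (h2.trans ((congrArg Fin.val e).trans h3.symm))
      rw [E.tv_eq n1 h1.symm rfl, E.tv_eq n2 h2 h3]
      exact Classical.sl_commutator_transvection _ _ _ u v
    obtain ⟨h1, h2, h3⟩ | ⟨h1, h2, h3⟩ := (E.radd_iff a b r).1 h
    · exact k h1 h2 h3 u v
    · rw [← commutatorElement_def, ← commutatorElement_inv, k h1 h2 h3, mul_comm]
      exact inv_eq_of_mul_eq_one_right ((SpecialLinearGroup.transvection_add _ _ _).symm.trans (by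
        rw [CharTwo.add_self_eq_zero]; exact SpecialLinearGroup.transvection_coeff_zero _))
  · have := E.nonneg_iff.1 h
    exact commute_transvection _ _ (fun e => this.2 (congrArg Fin.val e))
      (fun e => this.1 (congrArg Fin.val e).symm) u v

theorem ER.UUx_tv (E : ER Φ) : UUx (E.tv F) Set.univ = ⊤ := by
  exact Classical.sl_eq_top_of_transvection_mem _ fun i j h c =>
    E.tv_od ⟨(i, j), h⟩ c ▸ mem_UUx _ (Set.mem_univ _) c

theorem center_pow {m : ℕ} {g : SpecialLinearGroup (Fin m) F} (h : g ∈ center _) :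
    g ^ (Nat.card F - 1) = 1 := by
  obtain ⟨r, h1, h2⟩ := Matrix.SpecialLinearGroup.mem_center_iff.1 h
  have := Fintype.ofFinite F
  refine slCoe_injective ?_
  rw [map_pow, slCoe_apply, ← h2, ← map_pow, map_one]
  cases m with
  | zero => exact Subsingleton.elim _ _
  | succ m =>
    rw [Nat.card_eq_fintype_card, FiniteField.pow_card_sub_one_eq_one r (by rintro rfl; simp at h1), map_one]

theorem sl_normal {m : ℕ} (h3 : 3 ≤ m) (K : Subgroup (SpecialLinearGroup (Fin m) F)) [K.Normal] :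
    K ≤ center _ ∨ K = ⊤ := by
  have := Classical.psl_isSimpleGroup (ι := Fin m) (F := F) (by simpa)
  refine ((Normal.map ‹K.Normal› (QuotientGroup.mk' (center _)) (QuotientGroup.mk'_surjective _)).eq_bot_or_eq_top).imp
    (fun h => by simpa using (map_eq_bot_iff K).1 h) fun h => ?_
  rw [eq_top_iff, ← Classical.sl_commutator_eq_top (by simpa), commutator_def, commutator_le]
  intro a _ b _
  obtain ⟨x, hx, e⟩ := h.ge (mem_top (QuotientGroup.mk a))
  obtain ⟨z, hz, rfl⟩ : ∃ z ∈ center _, a = x * z := ⟨_, QuotientGroup.eq.1 e, by simp⟩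
  rw [commutatorElement_def, mul_assoc x z b, ← mem_center_iff.1 hz, _root_.mul_inv_rev]
  simpa [mul_assoc] using mul_mem hx (‹K.Normal›.conj_mem _ (inv_mem hx) b)

theorem Rel.exists_cov (E : ER Φ) {y : ι → F → G} (rel : Rel Φ y) (h : ∃ r c, y r c ≠ 1) :
    ∃ φ, Cov E y φ := by
  have od : ∀ r, E.od ⟨(⟨E.lo r, E.lo_lt r⟩, ⟨E.hi r, E.hi_lt r⟩), fun h => E.ne r (congrArg Fin.val h)⟩ = r :=
    fun r => E.ext _ _ (E.lo_od _) (E.hi_od _)
  obtain ⟨φ, hφ⟩ := RelA.exists_hom E.three (x := fun a t => y (E.od a) t) ⟨fun a t u => (rel.add _ t u).symm,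
    fun a b t u h1 h2 => by
      rw [rel.com _ _ (E.nonneg_iff.2 (by
        rw [E.lo_od, E.lo_od, E.hi_od, E.hi_od]; exact ⟨Fin.val_ne_of_ne h1, Fin.val_ne_of_ne h2⟩))]
      group,
    fun a b h t u h1 => rel.cm _ _ _ ((E.radd_iff _ _ _).2 (.inl (by
      simp only [E.lo_od, E.hi_od, h1, and_self]))) t u⟩
  have k : ∀ r c, φ (E.tv F r c) = y r c := fun r c => od r ▸ (congrArg φ (E.tv_od _ c)).trans (hφ _ c)
  refine ⟨φ, k, (sl_normal E.three φ.ker).resolve_right fun e => ?_⟩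
  obtain ⟨r, c, h⟩ := h
  exact h (k r c ▸ e.ge (mem_top _))

theorem Amb.exists_cov (A : Amb E S) : ∃ φ, Cov E S.x φ :=
  A.rel.exists_cov E ⟨E.θ, 1, fun e => one_ne_zero (A.x_eq_one.1 e)⟩

namespace Cov

variable {φ : SpecialLinearGroup (Fin E.m) F →* G} (C : Cov E S.x φ)
include C

theorem range : φ.range = S.grp := by
  rw [MonoidHom.range_eq_map, ← E.UUx_tv, UUx, MonoidHom.map_closure]
  refine congrArg Subgroup.closure (Set.ext fun g => ⟨?_, ?_⟩)
  · rintro ⟨_, ⟨r, h, t, rfl⟩, rfl⟩; exact ⟨r, h, t, C.tv r t⟩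
  · rintro ⟨r, h, t, rfl⟩; exact ⟨_, ⟨r, h, t, rfl⟩, C.tv r t⟩

theorem mem_grp (g : SpecialLinearGroup (Fin E.m) F) : φ g ∈ S.grp := C.range ▸ ⟨g, rfl⟩

theorem mem_CL {g : SpecialLinearGroup (Fin E.m) F} : φ g ∈ CL S ↔ g ∈ center _ := by
  have k : ∀ {g}, φ g ∈ CL S ↔ ∀ x, φ x * φ g = φ g * φ x := ⟨fun h x => h _ (C.mem_grp x), fun h x hx => by
    obtain ⟨x, rfl⟩ := C.range.ge hx; exact h x⟩
  refine ⟨fun h => ?_, fun h => k.2 fun x => by rw [← map_mul, ← map_mul, mem_center_iff.1 h]⟩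
  have : ((CL S).comap φ).Normal := ⟨fun a ha x => by
    rw [mem_comap, map_mul, map_mul, k.1 ha, map_inv, mul_inv_cancel_right]; exact ha⟩
  refine (sl_normal E.three ((CL S).comap φ)).resolve_right (fun e => ?_) h
  have h1 : commutator (SpecialLinearGroup (Fin E.m) F) ≤ center _ := (commutator_le.2 fun a _ b _ => by
    rw [MonoidHom.mem_ker, map_commutatorElement, commutatorElement_eq_one_iff_mul_comm]
    exact k.1 (e.ge (mem_top b)) a).trans C.ker
  rw [Classical.sl_commutator_eq_top (by simpa using E.three)] at h1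
  have := Classical.psl_isSimpleGroup (ι := Fin E.m) (F := F) (by simpa using E.three)
  obtain ⟨x, hx⟩ := exists_ne (1 : ProjectiveSpecialLinearGroup (Fin E.m) F)
  obtain ⟨x, rfl⟩ := QuotientGroup.mk_surjective x
  exact hx ((QuotientGroup.eq_one_iff x).2 (h1 (mem_top x)))

/-- involutions lift to involutions -/
theorem exists_inv {l : G} (hl : l ∈ S.grp) (l2 : l * l = 1) : ∃ g, φ g = l ∧ g * g = 1 := by
  obtain ⟨g, rfl⟩ := C.range.ge hl
  have h1 : g * g ∈ φ.ker := by rwa [MonoidHom.mem_ker, map_mul]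
  obtain ⟨k, hk⟩ := BA.odd_q F
  refine ⟨g * (g * g) ^ k, by rw [map_mul, map_pow, h1, one_pow, mul_one], ?_⟩
  rw [← center_pow (C.ker h1), hk, ← sq g, ← pow_mul, ← pow_succ', ← pow_add, ← pow_mul]
  congr 1
  ring

theorem eq_of_sq {a b : G} (ha : a ∈ S.grp) (hb : b ∈ S.grp) (a2 : a * a = 1) (b2 : b * b = 1)
    (h : a⁻¹ * b ∈ CL S) : a = b := by
  obtain ⟨g, hg⟩ := C.range.ge (mul_mem (inv_mem ha) hb)
  have h1 := congrArg φ (center_pow (C.mem_CL.1 (hg ▸ h)))
  obtain ⟨k, hk⟩ := BA.odd_q F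
  have h2 : a⁻¹ * b * (a⁻¹ * b) = 1 := by
    rw [← mul_assoc, ← h _ (inv_mem ha), mul_assoc, mul_assoc, b2, mul_one, ← _root_.mul_inv_rev, a2, inv_one]
  rwa [map_pow, hg, hk, pow_succ, pow_mul, sq, h2, one_pow, one_mul, map_one, inv_mul_eq_one] at h1

/-- the projection onto `PSL` -/
theorem exists_psl : ∃ θ : S.grp →* ProjectiveSpecialLinearGroup (Fin E.m) F, Function.Surjective θ ∧
    (∀ g, θ ⟨φ g, C.mem_grp g⟩ = QuotientGroup.mk g) ∧ ∀ l : S.grp, θ l = 1 ↔ (l : G) ∈ CL S := by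
  let ψ := φ.codRestrict S.grp C.mem_grp
  have h1 : Function.Surjective ψ := fun l => (C.range.ge l.2).imp fun _ => Subtype.ext
  let θ := ψ.liftOfSurjective h1 ⟨QuotientGroup.mk' (center _), by
    rw [MonoidHom.ker_codRestrict, QuotientGroup.ker_mk']; exact C.ker⟩
  have h2 : ∀ g, θ (ψ g) = QuotientGroup.mk g := fun g => MonoidHom.liftOfRightInverse_comp_apply ..
  refine ⟨θ, fun x => ?_, h2, fun l => ?_⟩
  · obtain ⟨g, rfl⟩ := QuotientGroup.mk_surjective x
    exact ⟨_, h2 g⟩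
  · obtain ⟨g, rfl⟩ := h1 l
    rw [h2, QuotientGroup.eq_one_iff]
    exact C.mem_CL.symm

end Cov

end CfsgLib.SLA
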