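import Mathlib
import Cfsg.Agent.Lib.SLA.MHom
import Cfsg.Agent.Lib.SLA.MCert
import Cfsg.Agent.S2162

/-!
# The classes of involutions
-/

set_option autoImplicit false
set_option linter.unusedSectionVars false
set_option linter.unusedVariables false

namespace CfsgLib.SLA

open CfsgLib.RGD CfsgLib.Stein Subgroup
open scoped commutatorElement Pointwise

universe u

variable {ι κ : Type} [Fintype κ] [DecidableEq κ] [Finite ι] {Φ : RootSys ι κ} {E : ER Φ}
  {F : Type} [Field F] [Finite F] [CharP F 2] {G : Type u} [Group G] [Finite G]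
  {S : StSys Φ F G}

open Matrix in
/-- the nilpotent part of the standard involution -/
def nil (F : Type) [Field F] (m k t : ℕ) : Matrix (Fin m) (Fin m) F :=
  of fun a b => if a.val < t ∧ b.val = m - k + a.val then 1 else 0

open Matrix in
theorem nil_mul {m k t : ℕ} (h : 2 * k ≤ m) (M : Matrix (Fin m) (Fin m) F)
    (hM : ∀ a b, k ≤ a.val → M a b = 0) : nil F m k t * M = 0 := by
  ext a b
  rw [mul_apply]
  refine Finset.sum_eq_zero fun c _ => ?_
  by_cases hc : k ≤ c.val
  · rw [hM c b hc, mul_zero]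
  · rw [nil, of_apply, if_neg (by omega), zero_mul]

open Matrix in
theorem rank_nil {m k : ℕ} (h : 2 * k ≤ m) : (nil F m k k).rank = k := by
  classical
  let D : Matrix (Fin m) (Fin m) F := diagonal fun a => if a.val < k then 1 else 0
  have h1 : D.rank = k := by
    rw [rank_diagonal, Fintype.card_subtype]
    simpa [Fin.card_filter_val_lt] using (show k ≤ m by omega)
  have h2 : D * nil F m k k = nil F m k k := by
    ext a b
    simp only [D, diagonal_mul, nil, of_apply]
    split_ifs <;> simp_all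
  have h3 : nil F m k k * (nil F m k k)ᵀ = D := by
    ext a b
    simp only [D, mul_apply, nil, of_apply, transpose_apply, diagonal_apply]
    by_cases ha : a.val < k
    · rw [Finset.sum_eq_single ⟨m - k + a, by omega⟩ (fun c _ hc => by
        rw [if_neg (fun e => hc (Fin.ext e.2)), zero_mul]) (by simp)]
      simp only [Fin.ext_iff, ha, and_self, if_true]
      split_ifs <;> first | omega | simp
    · simp [ha]
  exact le_antisymm (h2 ▸ (rank_mul_le_left _ _).trans h1.le) (h1.ge.trans (h3 ▸ rank_mul_le_left _ _))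

open Matrix in
theorem ER.coe_jl (E : ER Φ) {k t : ℕ} (h : 2 * k ≤ E.m) (ht : t ≤ k) :
    (((List.range t).map fun i => E.tv F (E.e i (E.m - k + i)) 1).prod).1 = 1 + nil F E.m k t := by
  induction t with
  | zero => ext a b; simp [nil]
  | succ t ih =>
    have := E.co_jl h ht
    rw [List.range_succ, List.map_append, List.prod_append, List.map_singleton, List.prod_singleton,
      Matrix.SpecialLinearGroup.coe_mul, ih (by omega), ER.tv, Matrix.SpecialLinearGroup.transvection_coe,
      mul_add, mul_one, add_mul, one_mul, nil_mul h _ fun a b ha => single_apply_of_ne _ _ _ _ _ fun e => by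
        have := congrArg Fin.val e.1
        dsimp only at this; omega, add_zero, add_assoc]
    congr 1
    ext a b
    simp only [Matrix.add_apply, nil, of_apply, single_apply, Fin.ext_iff]
    split_ifs <;> first | omega | simp

theorem Amb.dc0 (A : Amb E S) {l : G} (hl : l ∈ S.grp) (l2 : l * l = 1) (l1 : l ≠ 1) :
    ∃ g ∈ S.grp, ∃ k, 1 ≤ k ∧ 2 * k ≤ E.m ∧ g * l * g⁻¹ = S.xprod (E.jl k) fun _ => 1 := by
  obtain ⟨φ, C⟩ := A.exists_cov
  obtain ⟨g, rfl, g2⟩ := C.exists_inv hl l2
  have := Fintype.ofFinite F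
  have h1 : orderOf g = 2 := orderOf_eq_prime (sq g ▸ g2) (by rintro rfl; exact l1 (map_one φ))
  set k := (g.1 - 1).rank with hk
  have h2 : 2 * k ≤ E.m := by
    have := Matrix.rank_add_rank_le_card_of_mul_eq_zero (sq (g.1 - 1) ▸ Cfsg.Agent.S2162.sq_eq_zero h1)
    rw [Fintype.card_fin] at this; omega
  have h3 : 1 ≤ k := Nat.pos_of_ne_zero fun e => l1 (by
    rw [show g = 1 from Subtype.ext (sub_eq_zero.1 (by
      rwa [hk, Matrix.rank, Submodule.finrank_eq_zero, LinearMap.range_eq_bot, ← Matrix.toLin'_apply',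
        EmbeddingLike.map_eq_zero_iff] at e)), map_one])
  let j := ((List.range k).map fun i => E.tv F (E.e i (E.m - k + i)) 1).prod
  have h4 : j.1 = 1 + nil F E.m k k := E.coe_jl h2 le_rfl
  have h5 : (j.1 - 1).rank = k := by rw [h4, add_sub_cancel_left, rank_nil h2]
  have h6 : orderOf j = 2 := by
    refine orderOf_eq_prime (Subtype.ext ?_) fun e => ?_
    · rw [sq, Matrix.SpecialLinearGroup.coe_mul, h4, mul_add, mul_one, add_mul, one_mul,
        nil_mul h2 (nil F E.m k k) fun a b ha => if_neg (by omega), add_zero, add_assoc]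
      ext a b
      simp [CharTwo.add_self_eq_zero]
    · rw [e, Matrix.SpecialLinearGroup.coe_one, sub_self, Matrix.rank_zero] at h5
      omega
  obtain ⟨c, hc⟩ := isConj_iff.1 ((Cfsg.Agent.S2162.result E.three g j h1 h6).2 h5.symm)
  refine ⟨φ c, C.mem_grp c, k, h3, h2, ?_⟩
  rw [← map_inv, ← map_mul, ← map_mul, hc, map_list_prod, StSys.xprod, ER.jl, List.map_map, List.map_map]
  exact congrArg List.prod (List.map_congr_left fun i _ => C.tv _ _)

theorem Amb.dc (A : Amb E S) (l : G) (hl : l ∈ S.grp) (l2 : l * l = 1) (l1 : l ≠ 1) :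
    ∃ g ∈ S.grp, g * l * g⁻¹ = S.x E.θ 1 ∨
      ∃ B, DCert E B ∧ g * l * g⁻¹ = S.xprod B fun _ => 1 := by
  obtain ⟨g, hg, k, h1, h2, e⟩ := A.dc0 hl l2 l1
  refine ⟨g, hg, ?_⟩
  rcases h1.eq_or_lt with rfl | h1
  · exact Or.inl (by rw [e, E.jl_one, S.xprod_cons, S.xprod_nil, mul_one])
  · exact Or.inr ⟨_, E.dcert h1 h2, e⟩

theorem Amb.dc3 (A : Amb E S) (h3 : E.m = 3) {l : G} (hl : l ∈ S.grp) (l2 : l * l = 1) (l1 : l ≠ 1) :
    ∃ g ∈ S.grp, g * l * g⁻¹ = S.x E.θ 1 := by
  obtain ⟨g, hg, e | ⟨B, hB, -⟩⟩ := A.dc l hl l2 l1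
  · exact ⟨g, hg, e⟩
  · have := hB.four; omega

end CfsgLib.SLA
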