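import Mathlib
import Cfsg.Agent.Lib.SLA.Defs

/-!
# Elementary abelian subgroups of linear groups
-/

set_option autoImplicit false
set_option linter.unusedSectionVars false
set_option linter.unusedVariables false

namespace CfsgLib.SLA

open CfsgLib.RGD CfsgLib.Stein Subgroup
open scoped commutatorElement Pointwise

universe u

variable {ι κ : Type} [Fintype κ] [DecidableEq κ] [Finite ι] {Φ : RootSys ι κ} {E : ER Φ}
  {F : Type} [Field F] [Finite F] [CharP F 2] {G : Type u} [Group G] [Finite G]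
  {S : StSys Φ F G}

/-- the fixed vectors of a representation -/
def fixV {K V B : Type*} [Field K] [AddCommGroup V] [Module K V] [Group B] (ρ : B →* Module.End K V) :
    Submodule K V where
  carrier := {v | ∀ b, ρ b v = v}
  add_mem' h h' b := by rw [map_add, h b, h' b]
  zero_mem' b := map_zero _
  smul_mem' c v h b := by rw [map_smul, h b]

section

variable {K V : Type*} [Field K] [Finite K] [AddCommGroup V] [Module K V] [FiniteDimensional K V] {p d : ℕ}

/-- the stabiliser of a vector -/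
def stabV {B : Type*} [Group B] (ρ : B →* Module.End K V) (v : V) : Subgroup B where
  carrier := {b | ρ b v = v}
  one_mem' := show ρ 1 v = v by rw [map_one]; rfl
  mul_mem' {a b} (ha : _ = _) (hb : _ = _) := show ρ (a * b) v = v by rw [map_mul, Module.End.mul_apply, hb, ha]
  inv_mem' {a} (ha : _ = _) := show ρ a⁻¹ v = v by
    rw [← ha, ← Module.End.mul_apply, ← map_mul, inv_mul_cancel, map_one, ha]; rfl

theorem mem_stabV {B : Type*} [Group B] {ρ : B →* Module.End K V} {v : V} {b : B} :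
    b ∈ stabV ρ v ↔ ρ b v = v := Iff.rfl

theorem cast_ne_zero (hp : p.Prime) (hq : ¬ p ∣ Nat.card K) : (p : K) ≠ 0 := by
  have := Fact.mk hp
  have := Fintype.ofFinite K
  rw [Nat.card_eq_fintype_card, ← prime_dvd_char_iff_dvd_card, ← isUnit_iff_not_dvd_char] at hq
  exact hq.ne_zero

theorem dim_step {B : Type*} [Group B] (hp : p.Prime) (hq : ¬ p ∣ Nat.card K)
    (hd : ∀ i, 0 < i → i < d → ¬ p ∣ Nat.card K ^ i - 1) (he : ∀ a : B, a ^ p = 1) (ρ : B →* Module.End K V)
    {W : Submodule K V} (hW : ∀ b, ∀ w ∈ W, ρ b w ∈ W) (h : ¬ W ≤ fixV ρ) :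
    d + Module.finrank K ↥(W ⊓ fixV ρ) ≤ Module.finrank K W := by
  have := Fact.mk hp
  have := Module.finite_of_finite K (M := V)
  let _ : MulAction B W :=
    { smul b w := ⟨ρ b w, hW b w w.2⟩
      one_smul w := Subtype.ext (show ρ 1 w = w by rw [map_one]; rfl)
      mul_smul a b w := Subtype.ext (show ρ (a * b) w = ρ a (ρ b w) by rw [map_mul]; rfl) }
  have h1 := IsPGroup.card_modEq_card_fixedPoints (G := B) (fun a => ⟨1, by rw [pow_one, he]⟩) W
  rw [Nat.card_congr (α := MulAction.fixedPoints B W) (β := ↥(W ⊓ fixV ρ)) ⟨fun w => ⟨w.1.1, w.1.2, fun b => congrArg Subtype.val (w.2 b)⟩,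
    fun w => ⟨⟨w.1, w.2.1⟩, fun b => Subtype.ext (w.2.2 b)⟩, fun _ => rfl, fun _ => rfl⟩,
    Module.natCard_eq_pow_finrank (K := K), Module.natCard_eq_pow_finrank (K := K) (V := ↥(W ⊓ _))] at h1
  obtain ⟨i, hi⟩ := Nat.exists_eq_add_of_lt
    (Submodule.finrank_lt_finrank_of_lt (lt_of_le_of_ne inf_le_left (mt inf_eq_left.1 h)))
  have h2 := (Nat.modEq_iff_dvd' (Nat.pow_le_pow_right Nat.card_pos (by omega))).1 h1.symm
  rw [hi, add_assoc, pow_add, ← Nat.mul_sub_one] at h2
  have := hd (i + 1) i.succ_pos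
  have := (hp.dvd_mul.1 h2).resolve_left fun e => hq (hp.dvd_of_dvd_pow e)
  omega

theorem exists_hyper {B : Type*} [Group B] [Finite B] (hp : p.Prime) (hq : ¬ p ∣ Nat.card K)
    (hc : ∀ a b : B, a * b = b * a) (he : ∀ a : B, a ^ p = 1) (ρ : B →* Module.End K V) {W : Submodule K V}
    (hW : ∀ b, ∀ w ∈ W, ρ b w ∈ W) (h : ¬ W ≤ fixV ρ) :
    ∃ H : Subgroup B, H.index = p ∧ ¬ W ⊓ fixV (ρ.comp H.subtype) ≤ fixV ρ := by
  obtain ⟨H, h1, h2⟩ := (Set.toFinite {H : Subgroup B | ¬ W ⊓ fixV (ρ.comp H.subtype) ≤ fixV ρ}).exists_maximal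
    ⟨⊥, fun e => h fun w hw => e ⟨hw, fun b => by rw [Subsingleton.elim b 1, map_one]; rfl⟩⟩
  have : H.Normal := ⟨fun a ha g => by rwa [hc g, mul_inv_cancel_right]⟩
  obtain ⟨w, hw, hw'⟩ := SetLike.not_le_iff_exists.1 h1
  have h3 : ∀ x ∉ H, ∑ j ∈ Finset.range p, ρ (x ^ j) w ∈ fixV ρ := fun x hx => by
    have h4 : W ⊓ fixV (ρ.comp (H ⊔ zpowers x).subtype) ≤ fixV ρ := by
      by_contra e
      exact hx (h2 e le_sup_left (mem_sup_right (mem_zpowers x)))
    refine h4 ⟨sum_mem fun j _ => hW _ _ hw.1, fun b => (?_ : _ ≤ stabV ρ _) b.2⟩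
    refine sup_le (fun g hg => ?_) (zpowers_le.2 ?_) <;> rw [mem_stabV, map_sum]
    · refine Finset.sum_congr rfl fun j _ => ?_
      rw [← Module.End.mul_apply, ← map_mul, hc, map_mul, Module.End.mul_apply]
      exact congrArg _ (hw.2 ⟨g, hg⟩)
    · have := (Finset.sum_range_succ' (fun j => ρ (x ^ j) w) p).symm.trans (Finset.sum_range_succ _ p)
      rw [he, pow_zero, add_left_inj] at this
      simpa only [pow_succ', map_mul, Module.End.mul_apply] using this
  obtain ⟨a, ha⟩ : ∃ a, a ∉ H := by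
    by_contra! e
    exact hw' fun b => hw.2 ⟨b, e b⟩
  have h5 : H ⊔ zpowers a = ⊤ := by
    rw [eq_top_iff']
    by_contra! e
    obtain ⟨b, hb⟩ := e
    have h6 : ∑ i ∈ Finset.range p, ∑ j ∈ Finset.range p, ρ ((a ^ i * b) ^ j) w ∈ fixV ρ :=
      sum_mem fun i _ => h3 _ fun e => hb ((mul_mem_cancel_left (mem_sup_right (npow_mem_zpowers a i))).1
        (mem_sup_left e))
    obtain ⟨n, rfl⟩ := Nat.exists_eq_succ_of_ne_zero hp.ne_zero
    rw [Finset.sum_comm, Finset.sum_range_succ', add_mem_cancel_left (sum_mem fun j hj => ?_)] at h6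
    · simp only [pow_zero, map_one, Module.End.one_apply, Finset.sum_const, Finset.card_range,
        ← Nat.cast_smul_eq_nsmul K] at h6
      exact hw' ((Submodule.smul_mem_iff _ (cast_ne_zero hp hq)).1 h6)
    have h7 := h3 (a ^ (j + 1)) fun e => by
      obtain ⟨t, ht⟩ := exists_pow_eq_self_of_coprime (x := a) (n := j + 1) (Nat.Coprime.coprime_dvd_right
        (orderOf_dvd_of_pow_eq_one (he a)) (Nat.coprime_of_lt_prime j.succ_ne_zero
          (Nat.succ_lt_succ (Finset.mem_range.1 hj)) hp).symm)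
      exact ha (ht ▸ pow_mem e t)
    rw [← h7 (b ^ (j + 1)), map_sum] at h7
    convert h7 using 2
    rw [← Module.End.mul_apply, ← map_mul, Commute.mul_pow (hc _ _), hc, ← pow_mul, ← pow_mul, mul_comm]
  refine ⟨H, ((Nat.dvd_prime hp).1 ?_).resolve_left fun e => ha ((index_eq_one.1 e).ge (mem_top a)), h1⟩
  rw [← relIndex_top_right, ← h5, relIndex_sup_left]
  exact (relIndex_dvd_card _ _).trans (Nat.card_zpowers a ▸ orderOf_dvd_of_pow_eq_one (he a))

theorem gl_rank' {k : ℕ} (hp : p.Prime) (hq : ¬ p ∣ Nat.card K)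
    (hd : ∀ i, 0 < i → i < d → ¬ p ∣ Nat.card K ^ i - 1) {W : Submodule K V} {B : Type*} [Group B]
    (hc : ∀ a b : B, a * b = b * a) (he : ∀ a : B, a ^ p = 1) (hk : Nat.card B = p ^ k) (ρ : B →* Module.End K V)
    (hW : ∀ b, ∀ w ∈ W, ρ b w ∈ W) (hρ : ∀ b, (∀ w ∈ W, ρ b w = w) → b = 1) :
    d * k + Module.finrank K ↥(W ⊓ fixV ρ) ≤ Module.finrank K W := by
  induction k generalizing B with
  | zero => simpa using Submodule.finrank_mono inf_le_left
  | succ k ih =>
    have : Finite B := Nat.finite_of_card_ne_zero (hk ▸ pow_ne_zero _ hp.ne_zero)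
    have := Finite.one_lt_card_iff_nontrivial.1 (hk ▸ Nat.one_lt_pow k.succ_ne_zero hp.one_lt)
    obtain ⟨H, h1, h2⟩ := exists_hyper hp hq hc he ρ hW fun e => by
      obtain ⟨b, hb⟩ := exists_ne (1 : B)
      exact hb (hρ b fun w hw => e hw b)
    have h3 := ih (B := H) (fun a b => Subtype.ext (hc _ _)) (fun a => Subtype.ext (he _))
      (Nat.eq_of_mul_eq_mul_right hp.pos (by rw [← pow_succ, ← hk, ← h1, card_mul_index])) (ρ.comp H.subtype)
      (fun b => hW _) fun b hb => Subtype.ext (hρ _ hb)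
    have h4 := dim_step hp hq hd he ρ (W := W ⊓ fixV (ρ.comp H.subtype)) (fun b w hw => ⟨hW b w hw.1, fun g => by
      show ρ g (ρ b w) = _
      rw [← Module.End.mul_apply, ← map_mul, hc, map_mul, Module.End.mul_apply]
      exact congrArg _ (hw.2 g)⟩) h2
    rw [inf_assoc, inf_eq_right.2 (show fixV ρ ≤ fixV (ρ.comp H.subtype) from fun w hw g => hw _)] at h4
    rw [mul_add]; omega

end

theorem gl_rank {K V B : Type*} [Field K] [Finite K] [AddCommGroup V] [Module K V] [FiniteDimensional K V]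
    [Group B] {p d k : ℕ} (hp : p.Prime) (hq : ¬ p ∣ Nat.card K)
    (hd : ∀ i, 0 < i → i < d → ¬ p ∣ Nat.card K ^ i - 1) (hc : ∀ a b : B, a * b = b * a)
    (he : ∀ a : B, a ^ p = 1) (hk : Nat.card B = p ^ k) (ρ : B →* Module.End K V)
    (hρ : Function.Injective ρ) : d * k + Module.finrank K (fixV ρ) ≤ Module.finrank K V := by
  have := gl_rank' hp hq hd (W := ⊤) hc he hk ρ (fun _ _ _ => trivial) fun b hb =>
    hρ (by rw [map_one]; exact LinearMap.ext fun w => hb w trivial)
  rwa [top_inf_eq, finrank_top] at this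

theorem gl_rank_inv {K V B : Type*} [Field K] [Finite K] [AddCommGroup V] [Module K V]
    [FiniteDimensional K V] [Group B] {p k : ℕ} (hp : p.Prime) (hq : ¬ p ∣ Nat.card K)
    (hd : ¬ p ∣ Nat.card K - 1) (hc : ∀ a b : B, a * b = b * a) (he : ∀ a : B, a ^ p = 1)
    (hk : Nat.card B = p ^ k) (ρ : B →* Module.End K V) (hρ : Function.Injective ρ)
    (hV : Module.finrank K V ≤ 2 * k + 1) {N : Module.End K V} (h2 : N * N = 0)
    (hN : ∀ b, ρ b * N = N * ρ b) : N = 0 := by
  have h0 : ∀ b v, ρ b (N v) = N (ρ b v) := fun b v => LinearMap.congr_fun (hN b) v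
  have h1 : LinearMap.range N ≤ LinearMap.ker N := LinearMap.range_le_ker_iff.2 h2
  have hd' : ∀ i, 0 < i → i < 2 → ¬ p ∣ Nat.card K ^ i - 1 := fun i _ _ => by
    rwa [show i = 1 by omega, pow_one]
  have h3 := gl_rank' hp hq hd' (W := LinearMap.ker N) hc he hk ρ
    (fun b w hw => by rw [LinearMap.mem_ker, ← h0, hw, map_zero]) fun b hb => hρ (LinearMap.ext fun v => by
      have h4 : ρ b (ρ b v - v) = ρ b v - v := hb _ (by
        rw [LinearMap.mem_ker, map_sub, ← h0, hb _ (h1 ⟨v, rfl⟩), sub_self])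
      have h5 : ∀ n : ℕ, ρ (b ^ n) v = v + (n : K) • (ρ b v - v) := fun n => by
        induction n with
        | zero => simp
        | succ n ih => rw [pow_succ', map_mul, Module.End.mul_apply, ih, map_add, map_smul, h4, Nat.cast_succ]; module
      have := h5 p
      rw [he, map_one, Module.End.one_apply, left_eq_add, smul_eq_zero_iff_right (cast_ne_zero hp hq)] at this
      rw [sub_eq_zero.1 this, map_one, Module.End.one_apply])
  have h6 := N.finrank_range_add_finrank_ker
  rw [← LinearMap.range_eq_bot, ← Submodule.finrank_eq_zero]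
  by_cases h : LinearMap.range N ≤ fixV ρ
  · have := Submodule.finrank_mono (le_inf h1 h)
    omega
  · have := dim_step hp hq hd' he ρ (by rintro b _ ⟨v, rfl⟩; exact ⟨_, (h0 b v).symm⟩) h
    omega

end CfsgLib.SLA
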