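import Mathlib
import Cfsg.Agent.Lib.SLA.Gr
import Cfsg.Agent.Lib.SLA.Dcg
import Cfsg.Agent.Lib.SLA.MDc
import Cfsg.Agent.Lib.SLA.SemiA

/-!
# Lower bounds for centralisers of involutions
-/

set_option autoImplicit false
set_option linter.unusedSectionVars false
set_option linter.unusedVariables false

namespace CfsgLib.SLA

open CfsgLib.RGD CfsgLib.Stein Subgroup
open scoped commutatorElement Pointwise

universe u

variable {ι κ : Type} [Fintype κ] [DecidableEq κ] [Finite ι] {Φ : RootSys ι κ} {E : ER Φ}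
  {F : Type} [Field F] [Finite F] [CharP F 2] {G : Type u} [Group G] [Finite G]
  {S : StSys Φ F G}

omit [Finite ι] [Finite F] [CharP F 2] [Finite G] in
/-- a large 2-subgroup of `C_L(s)` -/
def Lb (S : StSys Φ F G) (s : G) : Prop :=
  ∃ P ≤ CS S s, IsPGroup 2 P ∧ Nat.card F ^ (NP Φ + 3) ≤ Nat.card P ^ 2

omit [Finite ι] [Finite F] [CharP F 2] [Finite G] in
/-- the weaker bound for graph involutions in dimension four -/
def Lb2 (E : ER Φ) (S : StSys Φ F G) (s : G) : Prop :=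
  E.m = 4 ∧ ∃ P ≤ ⁅CS S s, CS S s⁆, IsPGroup 2 P ∧ Nat.card F ^ (NP Φ + 2) ≤ Nat.card P ^ 2

namespace Amb

variable (A : Amb E S) {s : G} {π : Equiv.Perm ι}
include A

omit A [Finite ι] [Finite F] [CharP F 2] [Finite G] in
theorem gr_lb_conj {g : G} (hg : g ∈ S.grp) {n : ℕ}
    (h : ∃ P ≤ S.grp ⊓ centralizer {g * s * g⁻¹}, IsPGroup 2 P ∧ n ≤ Nat.card P ^ 2) :
    ∃ P ≤ S.grp ⊓ centralizer {s}, IsPGroup 2 P ∧ n ≤ Nat.card P ^ 2 := by
  obtain ⟨P, h1, h2, h3⟩ := h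
  refine ⟨P.map (MulAut.conj g⁻¹).toMonoidHom, ?_, h2.map _, by
    rwa [card_map_of_injective (MulAut.conj g⁻¹).injective]⟩
  rintro _ ⟨x, hx, rfl⟩
  refine ⟨S.grp.mul_mem (S.grp.mul_mem (S.grp.inv_mem hg) (h1 hx).1) (S.grp.inv_mem (S.grp.inv_mem hg)),
    mem_centralizer_singleton_iff.2 ?_⟩
  have := mem_centralizer_singleton_iff.1 (h1 hx).2
  show g⁻¹ * x * g⁻¹⁻¹ * s = s * (g⁻¹ * x * g⁻¹⁻¹)
  calc g⁻¹ * x * g⁻¹⁻¹ * s = g⁻¹ * (x * (g * s * g⁻¹)) * g := by group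
    _ = _ := by rw [this]; group

theorem gr_lb_inner {l : G} (hl : l ∈ S.grp) (l2 : l * l = 1) :
    ∃ P ≤ S.grp ⊓ centralizer {l}, IsPGroup 2 P ∧ Nat.card F ^ (NP Φ + 3) ≤ Nat.card P ^ 2 := by
  have hU : Nat.card F ^ (NP Φ + 3) ≤ Nat.card S.U ^ 2 := by
    rw [A.card_U, ← pow_mul]
    exact Nat.pow_le_pow_right Nat.card_pos (by have := E.np; omega)
  by_cases l1 : l = 1
  · exact ⟨S.U, le_inf S.U_le_grp fun x _ => mem_centralizer_singleton_iff.2 (by rw [l1]; group),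
      A.pg_U, hU⟩
  obtain ⟨g, hg, e | ⟨B, hB, e⟩⟩ := A.dc l hl l2 l1
  · refine gr_lb_conj hg ⟨S.U, le_inf S.U_le_grp fun x hx => mem_centralizer_singleton_iff.2 ?_, A.pg_U, hU⟩
    rw [e]
    exact (A.Y_le_cent E.θ (A.U_le_Y hx) _ (S.x_mem_X _ _)).symm
  · obtain ⟨P, h1, h2⟩ := A.dc_lb hB
    exact gr_lb_conj hg ⟨P, e ▸ h1.trans (inf_le_inf_right _ S.U_le_grp),
      A.pg_U.to_le (h1.trans inf_le_left), h2⟩

theorem tw_le {δ : G} {d : ι → F} (hd : StdD S δ E.γ d 1) (h2 : δ * δ = 1) (hm : Even E.m) :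
    twG S E.γ d 1 {r | Φ.Pos r} ≤ S.U ⊓ centralizer {δ} := by
  refine (closure_le _).2 ?_
  rintro _ ⟨r, hr, c, ⟨a1, a2, rfl⟩ | ⟨a1, rfl⟩⟩
  · exact ⟨S.x_mem_UU hr c, A.sm_fix_cent hd a1 a2⟩
  · obtain ⟨l, hl⟩ := hm
    exact ⟨mul_mem (S.x_mem_UU hr c) (S.x_mem_UU ((E.γ_pos r).2 hr) _),
      A.sm_pair_cent hd (E.gp (.inr rfl)) h2 (E.γ_orth a1 (by omega) (by omega)).ge c⟩

theorem card_tw {δ : G} {d : ι → F} (hd : StdD S δ E.γ d 1) (h2 : δ * δ = 1) {l : ℕ} (hm : E.m = 2 * l) :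
    Nat.card F ^ (l * l) ≤ Nat.card (twG S E.γ d 1 {r | Φ.Pos r}) := by
  classical
  let R : Set ι := {r | Φ.Pos r ∧ E.lo r + E.hi r + 1 ≤ E.m}
  have hR : l * l ≤ R.ncard := by
    have k : ∀ p : Fin l × Fin l, ∃ r, p.1.val < p.2.val ∧ E.lo r = p.1 ∧ E.hi r = p.2 ∨
        p.2.val ≤ p.1.val ∧ E.lo r = p.2 ∧ E.hi r + p.1 + 1 = E.m := fun ⟨a, b⟩ => by
      by_cases c : a.val < b.val
      · obtain ⟨r, hr⟩ := E.exists_e (i := a) (j := b) (by omega) (by omega) c.ne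
        exact ⟨r, .inl ⟨c, hr⟩⟩
      · obtain ⟨r, hr⟩ := E.exists_e (i := b) (j := E.m - 1 - a) (by omega) (by omega) (by omega)
        exact ⟨r, .inr (by dsimp only; omega)⟩
    choose f hf using k
    have := Nat.card_le_card_of_injective (β := R) (fun p => ⟨f p, by
      have := hf p
      simp only [R, Set.mem_ofPred_eq, E.pos_iff]; omega⟩) fun p p' e => by
        have := hf p
        have := hf p'
        have := E.eq_iff.1 (show f p = f p' from congrArg Subtype.val e)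
        rw [Prod.ext_iff, Fin.ext_iff, Fin.ext_iff]; omega
    simpa using this
  obtain ⟨L, hL, hL'⟩ := StSys.exists_list R
  let f : ι → List ι := fun r => if E.γ r = r then [r] else [r, E.γ r]
  have hf : ∀ r s, s ∈ f r ↔ s = r ∨ s = E.γ r := fun r s => by
    by_cases c : E.γ r = r <;> simp [f, c]
  have hγ : ∀ r ∈ R, E.γ r ∈ R → E.γ r = r := fun r h1 h2 => by
    have := E.γ_co r
    have := h1.2; have := h2.2
    rw [E.γ_fix_iff]; omega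
  let t : (R → F) → ι → F := fun c r => if h : r ∈ R then c ⟨r, h⟩ else
    if h : E.γ r ∈ R then d (E.γ r) * c ⟨_, h⟩ else 0
  have h3 : ∀ c, ∀ M : List ι, (∀ r ∈ M, r ∈ R) → S.xprod (M.flatMap f) (t c) ∈ twG S E.γ d 1 {r | Φ.Pos r} := by
    intro c M hM
    induction M with
    | nil => exact one_mem _
    | cons r M ih =>
      have hr := hM r List.mem_cons_self
      rw [List.flatMap_cons, S.xprod_append]
      refine mul_mem (subset_closure ⟨r, hr.1, t c r, ?_⟩) (ih fun s hs => hM s (List.mem_cons_of_mem _ hs))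
      by_cases e : E.γ r = r
      · exact .inl ⟨e, by rw [A.gr_d1 hd h2 e, one_mul]; rfl, by simp [f, e, StSys.xprod]⟩
      · refine .inr ⟨e, ?_⟩
        simp [f, e, StSys.xprod, t, hr, mt (hγ r hr) e, E.γ2]
  have h4 := Nat.card_le_card_of_injective (β := twG S E.γ d 1 {r | Φ.Pos r})
    (fun c => ⟨_, h3 c L fun r => (hL' r).1⟩) fun c c' e => funext fun r => by
      have := A.nd.xprod_inj (List.nodup_flatMap.2 ⟨fun r _ => by
        by_cases c : E.γ r = r <;> simp [f, c, Ne.symm], hL.pairwise_of_forall_ne fun a ha b hb hab s h1 h2 => by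
          rw [hL'] at ha hb
          obtain rfl | rfl := (hf _ _).1 h1 <;> obtain e | e := (hf _ _).1 h2
          · exact hab e
          · exact hab (e.trans (hγ b hb (e ▸ ha)))
          · exact hab ((hγ a ha (e ▸ hb)).symm.trans e)
          · exact hab (E.γ.injective e)⟩) (fun s hs => by
        obtain ⟨a, ha, hs⟩ := List.mem_flatMap.1 hs
        obtain rfl | rfl := (hf _ _).1 hs
        · exact ((hL' _).1 ha).1
        · exact (E.γ_pos a).2 ((hL' _).1 ha).1) (congrArg Subtype.val e) r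
        (List.mem_flatMap.2 ⟨r, (hL' _).2 r.2, (hf _ _).2 (.inl rfl)⟩)
      simpa [t] using this
  rw [Nat.card_fun] at h4
  exact (Nat.pow_le_pow_right Nat.card_pos hR).trans h4

theorem tw_le_CS {δ : G} {d : ι → F} (hd : StdD S δ E.γ d 1) (h2 : δ * δ = 1) (hm : Even E.m) (c : F) :
    twG S E.γ d 1 {r | Φ.Pos r} ≤ CS S (S.x E.θ c * δ) := fun x hx => by
  obtain ⟨h3, h4⟩ := A.tw_le hd h2 hm hx
  refine ⟨S.U_le_grp h3, mem_centralizer_singleton_iff.2 ?_⟩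
  rw [← mul_assoc, ← A.Y_le_cent E.θ (A.U_le_Y h3) _ (S.x_mem_X _ _), mul_assoc, mem_centralizer_singleton_iff.1 h4,
    mul_assoc]

theorem tw_le_comm {δ : G} {d : ι → F} (hd : StdD S δ E.γ d 1) (h2 : δ * δ = 1) (hm : E.m = 4) (c : F) :
    twG S E.γ d 1 {r | Φ.Pos r} ≤ ⁅CS S (S.x E.θ c * δ), CS S (S.x E.θ c * δ)⁆ := by
  have hP := A.tw_le_CS hd h2 ⟨2, hm⟩ c
  have co := E.co
  obtain ⟨ρ, hρ⟩ := E.exists_e (i := 1) (j := 2) (by omega) (by omega) (by omega)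
  have ρ1 : E.γ ρ = ρ := E.γ_fix_iff.2 (by omega)
  obtain ⟨l, l0, l1⟩ := A.exists_ne (A.two_lt hm.le)
  have hh : S.h ρ l ∈ CS S (S.x E.θ c * δ) := by
    refine ⟨S.H_le_grp (S.h_mem_H ρ l0), mem_centralizer_singleton_iff.2 ?_⟩
    have h3 := A.std_conj_h ⟨d, hd⟩ (E.gp (.inr rfl)) ρ l0
    have h4 := A.h_conj ρ E.θ l0 c
    rw [E.ip_zero_iff.2 (by omega), zpow_zero, one_mul, mul_inv_eq_iff_eq_mul] at h4
    rw [ρ1, mul_inv_eq_iff_eq_mul] at h3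
    rw [← mul_assoc, h4, mul_assoc, mul_assoc, h3]; rfl
  have k : ∀ r, Φ.Pos r → r ≠ E.θ → ∀ c, ∃ e, c = l ^ ip Φ ρ r * e + e := fun r h1 h3 c => by
    have h4 : l ^ ip Φ ρ r + 1 ≠ 0 := fun e => by
      have := E.bd r
      rw [E.pos_iff] at h1
      rw [Ne, E.eq_iff] at h3
      have h5 : ip Φ ρ r = 1 ∨ ip Φ ρ r = -1 ∨ ip Φ ρ r = 2 := by rw [E.ip_eq]; omega
      rw [CharTwo.add_eq_zero] at e
      rcases h5 with h5 | h5 | h5 <;> rw [h5] at e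
      · exact l1 (by simpa using e)
      · exact l1 (by simpa using e)
      · exact l1 (au_eq_one_of_pow (k := 1) (by simpa [zpow_ofNat] using e))
    exact ⟨c / (l ^ ip Φ ρ r + 1), by rw [← add_one_mul, mul_div_cancel₀ _ h4]⟩
  have k2 : ∀ r, Φ.Pos r → E.γ r ≠ r → ∀ a, S.x r a * S.x (E.γ r) (d r * a) ∈
      ⁅CS S (S.x E.θ c * δ), CS S (S.x E.θ c * δ)⁆ := fun r hr a1 a => by
    obtain ⟨e, rfl⟩ := k r hr (by rintro rfl; exact a1 E.γ_θ) a
    convert commutator_mem_commutator hh (hP (subset_closure ⟨r, hr, e, .inr ⟨a1, rfl⟩⟩)) using 1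
    rw [commutatorElement_def, ← conj_mul, A.h_conj _ _ l0, A.h_conj _ _ l0, mul_inv_rev, A.x_inv, A.x_inv,
      ← E.γip ρ (E.γ r), ρ1, E.γ2, mul_assoc, ← mul_assoc (S.x (E.γ r) _), ← A.rel.add, ← A.com
        (E.γ_orth a1 (by omega) (by omega)).ge, ← mul_assoc, ← A.rel.add]
    congr 2
    show _ = _ * (_ * e) + _ * e
    ring
  have k3 : ∀ a, S.x ρ a ∈ CS S (S.x E.θ c * δ) := fun a => hP (subset_closure ⟨ρ, E.pos_iff.2 (by omega), a,
    .inl ⟨ρ1, by rw [A.gr_d1 hd h2 ρ1, one_mul]; rfl, rfl⟩⟩)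
  refine (closure_le _).2 ?_
  rintro _ ⟨r, hr, a, ⟨a1, a2, rfl⟩ | ⟨a1, rfl⟩⟩
  swap
  · exact k2 r hr a1 a
  by_cases h3 : r = E.θ
  · subst h3
    have h4 : RAdd Φ E.α ρ E.β' := (E.radd_iff ..).2 (by omega)
    have h5 : E.γ E.α ≠ E.α := mt E.γ_fix_iff.1 (by omega)
    obtain ⟨e, rfl⟩ : ∃ e, a = d E.α * e := ⟨_, (mul_div_cancel₀ _ (hd.ne_zero _)).symm⟩
    have h6 := commutator_mem_commutator (inv_mem (k3 e)) (hP (subset_closure ⟨E.α, Φ.pos_simple _, 1, .inr ⟨h5, rfl⟩⟩))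
    have h7 := k2 E.β' E.pos_β' (mt E.γ_fix_iff.1 (by omega)) e
    rw [A.d_add hd (E.gp (.inr rfl)) h4, A.gr_d1 hd h2 ρ1, mul_one, E.γ_β'] at h7
    rw [commutatorElement_def, inv_inv, map_one, mul_one, E.γ_α, show ∀ a x y : G, a⁻¹ * (x * y) * a * (x * y)⁻¹ =
      a⁻¹ * (x * (y * a * y⁻¹) * x⁻¹) from fun _ _ _ => by group, A.conj_x (r := E.β) ((E.radd_iff ..).2 (by omega)),
      ← conj_mul, A.conj_x h4, A.conj_x E.hβ, one_mul, one_mul, mul_assoc, inv_mul_cancel_left, ← mul_assoc] at h6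
    exact (mul_mem_cancel_left h7).1 h6
  · obtain ⟨e, rfl⟩ := k r hr h3 a
    rw [SetLike.mem_coe]
    convert commutator_mem_commutator hh (hP (subset_closure ⟨r, hr, e,
      .inl ⟨a1, by rw [A.gr_d1 hd h2 a1, one_mul]; rfl, rfl⟩⟩)) using 1
    rw [commutatorElement_def, A.h_conj _ _ l0, A.x_inv, ← A.rel.add]

/-- **LB** -/
theorem lb (h : Typ S s π 1) (hπ : π = 1 ∨ (π = E.γ ∧ Even E.m)) (s2 : s * s = 1) :
    Lb S s ∨ Lb2 E S s := by
  obtain rfl | ⟨rfl, l, hm⟩ := hπ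
  · obtain ⟨l, hl, c, hc, rfl, l2, -⟩ := A.inv_split h s2
    obtain ⟨P, h2, h3⟩ := A.gr_lb_inner hl l2
    refine .inl ⟨P, fun x hx => ⟨(h2 hx).1, mem_centralizer_singleton_iff.2 ?_⟩, h3⟩
    rw [← mul_assoc, mem_centralizer_singleton_iff.1 (h2 hx).2, mul_assoc, hc x (h2 hx).1, mul_assoc]
  obtain ⟨k, hk, hn⟩ := A.exists_norm_U (UFP.pgroup_zpowers_of_sq s2) (zpowers_le.2 h.mem_NL)
  have e2 : k * s * k⁻¹ * (k * s * k⁻¹) = 1 := by rw [conj_mul, s2]; group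
  obtain ⟨v, hv, δ, d, hd, h2, e⟩ := A.gr_std (h.conj E.γn hk) e2 (hn s (mem_zpowers s))
  obtain ⟨g, hg, c, e'⟩ := A.graph_even ⟨l, hm⟩ hd h2 hv (e ▸ e2)
  have hP := A.pg_U.to_le ((A.tw_le hd h2 ⟨l, hm⟩).trans inf_le_left)
  have h3 := Nat.pow_le_pow_left (A.card_tw hd h2 (hm.trans (two_mul l).symm)) 2
  have h4 := E.np_eq
  have h5 := E.three
  rw [← pow_mul] at h3
  obtain ⟨l, rfl⟩ : ∃ n, l = n + 2 := ⟨l - 2, by omega⟩
  rw [hm, show l + 2 + (l + 2) - 1 = 2 * l + 3 by omega] at h4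
  by_cases h6 : l = 0
  · subst h6
    refine .inr ⟨hm, MulAut.conj (g * k)⁻¹ • twG S E.γ d 1 {r | Φ.Pos r}, ?_, hP.map _, ?_⟩
    · refine Coprime.conj_smul_le_iff.2 fun x hx => ?_
      have := conj_mem_comm_CS (inv_mem (mul_mem hg hk)) (A.tw_le_comm hd h2 hm c hx)
      rwa [← e', ← e, show (g * k)⁻¹ * (g * (k * s * k⁻¹) * g⁻¹) * (g * k)⁻¹⁻¹ = s by group] at this
    · rwa [Coprime.card_conj_smul, show NP Φ + 2 = (0 + 2) * (0 + 2) * 2 by omega]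
  · exact .inl (gr_lb_conj hk (gr_lb_conj hg ⟨_, by rw [e, e']; exact A.tw_le_CS hd h2 ⟨_, hm⟩ c, hP,
      (Nat.pow_le_pow_right Nat.card_pos (by nlinarith [Nat.pos_of_ne_zero h6])).trans h3⟩))

end Amb

end CfsgLib.SLA
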