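import Mathlib
import Cfsg.Agent.Lib.SLA.MHom
import Cfsg.Agent.Lib.SLA.GlRank
import Cfsg.Agent.Lib.SLA.Aut
import Cfsg.Agent.Lib.SLA.NG

/-!
# Elementary abelian subgroups of odd order
-/

set_option autoImplicit false
set_option linter.unusedSectionVars false
set_option linter.unusedVariables false

namespace CfsgLib.SLA

open CfsgLib.RGD CfsgLib.Stein Subgroup
open scoped commutatorElement Pointwise

universe u

variable {ι κ : Type} [Fintype κ] [DecidableEq κ] [Finite ι] {Φ : RootSys ι κ} {E : ER Φ}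
  {F : Type} [Field F] [Finite F] [CharP F 2] {G : Type u} [Group G] [Finite G]
  {S : StSys Φ F G}

omit [Finite G] in
/-- an elementary abelian subgroup of order `p ^ k` -/
structure ElAb (p k : ℕ) (B : Subgroup G) : Prop where
  com : ∀ a ∈ B, ∀ b ∈ B, a * b = b * a
  pow : ∀ a ∈ B, a ^ p = 1
  card : Nat.card B = p ^ k

theorem not_dvd_q {p : ℕ} (hp : p.Prime) (h2 : p ≠ 2) : ¬ p ∣ Nat.card F := fun h => by
  have := Fintype.ofFinite F
  obtain ⟨n, -, hn⟩ := FiniteField.card F 2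
  rw [Nat.card_eq_fintype_card, hn] at h
  exact h2 ((Nat.prime_dvd_prime_iff_eq hp Nat.prime_two).1 (hp.dvd_of_dvd_pow h))

/-- the natural representation -/
def slEnd (m : ℕ) (F : Type) [Field F] : Matrix.SpecialLinearGroup (Fin m) F →* Module.End F (Fin m → F) :=
  Matrix.toLinAlgEquiv'.toMonoidHom.comp (ClSys.slCoe m F)

theorem slEnd_inj {m : ℕ} : Function.Injective (slEnd m F) :=
  Matrix.toLinAlgEquiv'.injective.comp ClSys.slCoe_injective

theorem sl_uniq {m n : ℕ} (hn : n.Coprime (Nat.card F - 1)) {g g' : Matrix.SpecialLinearGroup (Fin m) F}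
    (h : g⁻¹ * g' ∈ center _) (h1 : g ^ n = 1) (h2 : g' ^ n = 1) : g = g' := by
  rw [← mul_inv_cancel_left g g', Commute.mul_pow (mem_center_iff.1 h g), h1, one_mul] at h2
  rw [← inv_mul_eq_one, ← orderOf_eq_one_iff]
  exact Nat.eq_one_of_dvd_coprimes hn (orderOf_dvd_of_pow_eq_one h2) (orderOf_dvd_of_pow_eq_one (center_pow h))

namespace Cov

variable {φ : Matrix.SpecialLinearGroup (Fin E.m) F →* G} (C : Cov E S.x φ)
include C

theorem conj_eq {n : ℕ} (hn : n.Coprime (Nat.card F - 1)) {g g' : Matrix.SpecialLinearGroup (Fin E.m) F}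
    (h1 : g ^ n = 1) {c d : G} (hc : c ∈ CL S) (hd : d ∈ CL S)
    (h : φ g * c * (φ g' * d) = φ g' * d * (φ g * c)) : g' * g * g'⁻¹ = g := by
  refine (sl_uniq hn (C.mem_CL.1 ?_) h1 (by rw [conj_pow, h1, mul_one, mul_inv_cancel])).symm
  have k : ∀ {c}, c ∈ CL S → ∀ x y, φ x * c * φ y = φ x * φ y * c := fun hc x y => by
    rw [mul_assoc, ← hc _ (C.mem_grp y), mul_assoc]
  rw [← mul_assoc, ← mul_assoc, k hc, k hd, ← mul_inv_eq_iff_eq_mul, ← mul_inv_eq_iff_eq_mul] at h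
  have h2 := mul_mem (mul_mem (mul_mem hc hd) (inv_mem hc)) (inv_mem hd)
  rw [map_mul, map_mul, map_mul, map_inv, map_inv, ← h]
  convert h2 using 1
  rw [← mul_inv_cancel_right (c * d * c⁻¹ * d⁻¹) (φ g'), ← h2 _ (C.mem_grp g')]
  group

theorem exists_lift {p k : ℕ} {B : Subgroup G} (hp : p.Prime) (hd : ¬ p ∣ Nat.card F - 1) (hB : ElAb p k B)
    (h : B ≤ S.grp ⊔ CL S) (h0 : B ⊓ CL S = ⊥) : ∃ ρ : B →* Matrix.SpecialLinearGroup (Fin E.m) F,
      Function.Injective ρ ∧ ∀ b, (φ (ρ b))⁻¹ * b ∈ CL S := by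
  have hn := hp.coprime_iff_not_dvd.2 hd
  have h1 : ∀ b : B, ∃ g, g ^ p = 1 ∧ (φ g)⁻¹ * b ∈ CL S := fun b => by
    obtain ⟨l, hl, c, hc, e⟩ := mem_sup_comm (B := CL S) (fun a ha b hb => hb a ha) (h b.2)
    obtain ⟨g, rfl⟩ := C.range.ge hl
    have h2 : g ^ p ∈ center _ := C.mem_CL.1 (by
      have := hB.pow b b.2
      rw [e, Commute.mul_pow (hc _ hl), mul_eq_one_iff_eq_inv] at this
      rw [map_pow, this]
      exact inv_mem (pow_mem hc p))
    obtain ⟨t, ht⟩ := exists_pow_eq_self_of_coprime (x := g ^ p)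
      (hn.coprime_dvd_right (orderOf_dvd_of_pow_eq_one (center_pow h2)))
    refine ⟨g * ((g ^ p) ^ t)⁻¹, ?_, ?_⟩
    · rw [Commute.mul_pow (mem_center_iff.1 (inv_mem (pow_mem h2 t)) g), inv_pow, ← pow_mul (g ^ p), mul_comm t,
        pow_mul (g ^ p), ht, mul_inv_cancel]
    · rw [e, map_mul, map_inv, mul_inv_rev, inv_inv, mul_assoc, inv_mul_cancel_left]
      exact mul_mem (C.mem_CL.2 (pow_mem h2 t)) hc
  choose f h2 h3 using h1
  refine ⟨MonoidHom.mk' f fun a b => sl_uniq hn (C.mem_CL.1 ?_) (h2 _) ?_,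
    (injective_iff_map_eq_one _).2 fun b (hb : f b = 1) => Subtype.ext (h0.le ⟨b.2, ?_⟩), h3⟩
  · convert mul_mem (h3 (a * b)) (inv_mem (mul_mem (h3 a) (h3 b))) using 1
    rw [← mul_assoc _ (φ (f b))⁻¹, ← h3 a _ (inv_mem (C.mem_grp _)), map_mul, map_mul, map_inv, coe_mul]
    group
  · rw [Commute.mul_pow (mul_inv_eq_iff_eq_mul.1 (C.conj_eq hn (h2 b) (h3 b) (h3 a) ?_)), h2, h2, one_mul]
    rw [mul_inv_cancel_left, mul_inv_cancel_left, hB.com _ b.2 _ a.2]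
  · simpa [hb] using h3 b

end Cov

namespace Amb

variable (A : Amb E S) {p k : ℕ} {B : Subgroup G}
include A

theorem inf_CL_eq_bot (hp : p.Prime) (hd : ¬ p ∣ Nat.card F - 1) (hB : ElAb p k B) (h : B ≤ S.grp) :
    B ⊓ CL S = ⊥ := by
  refine eq_bot_iff.2 fun b hb => ?_
  rw [mem_bot, ← orderOf_eq_one_iff]
  exact Nat.eq_one_of_dvd_coprimes (hp.coprime_iff_not_dvd.2 hd) (orderOf_dvd_of_pow_eq_one (hB.pow b hb.1))
    (orderOf_dvd_of_pow_eq_one (A.H_pow (A.Z_le_H ⟨h hb.1, hb.2⟩)))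

theorem rank_le {d : ℕ} (hp : p.Prime) (h2 : p ≠ 2) (h1 : 1 < d)
    (hd : ∀ i, 0 < i → i < d → ¬ p ∣ Nat.card F ^ i - 1) (hB : ElAb p k B) (h : B ≤ S.grp ⊔ CL S)
    (h0 : B ⊓ CL S = ⊥) : d * k ≤ E.m := by
  obtain ⟨φ, C⟩ := A.exists_cov
  obtain ⟨ρ, h3, -⟩ := C.exists_lift hp (by simpa using hd 1 one_pos h1) hB h h0
  have := gl_rank hp (not_dvd_q hp h2) hd (fun a b => Subtype.ext (hB.com _ a.2 _ b.2))
    (fun a => Subtype.ext (hB.pow _ a.2)) hB.card ((slEnd E.m F).comp ρ) (slEnd_inj.comp h3)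
  rw [Module.finrank_fin_fun] at this
  omega

theorem rank_inv (hp : p.Prime) (h2 : p ≠ 2) (hd : ¬ p ∣ Nat.card F - 1) (hB : ElAb p k B)
    (h : B ≤ S.grp ⊔ CL S) (h0 : B ⊓ CL S = ⊥) (hm : E.m = 2 * k + 1) {u : G} (hu : u ∈ S.grp)
    (u2 : u * u = 1) (hc : u ∈ centralizer (B : Set G)) : u = 1 := by
  obtain ⟨φ, C⟩ := A.exists_cov
  obtain ⟨ρ, h3, h4⟩ := C.exists_lift hp hd hB h h0
  obtain ⟨g, rfl, g2⟩ := C.exists_inv hu u2
  have h5 : ∀ b, ρ b * g = g * ρ b := fun b => mul_inv_eq_iff_eq_mul.1 (C.conj_eq (BA.odd_q F).coprime_two_left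
    (sq g ▸ g2) (one_mem _) (h4 b) (by rw [mul_one, mul_inv_cancel_left]; exact (hc b b.2).symm))
  have := gl_rank_inv hp (not_dvd_q hp h2) hd (fun a b => Subtype.ext (hB.com _ a.2 _ b.2))
    (fun a => Subtype.ext (hB.pow _ a.2)) hB.card ((slEnd E.m F).comp ρ) (slEnd_inj.comp h3)
    (by rw [Module.finrank_fin_fun, hm]) (N := slEnd E.m F g - 1) (by
      rw [sub_mul, mul_sub, ← map_mul, g2, map_one, mul_one, one_mul]
      refine LinearMap.ext fun v => funext fun i => ?_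
      simp [CharTwo.sub_eq_add, add_assoc, add_comm, add_left_comm, CharTwo.add_self_eq_zero]) fun b => by
      rw [mul_sub, sub_mul, MonoidHom.comp_apply, ← map_mul, ← map_mul, h5, mul_one, one_mul]
  rw [slEnd_inj ((sub_eq_zero.1 this).trans (map_one _).symm), map_one]

end Amb

end CfsgLib.SLA
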