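import Mathlib
import Cfsg.Agent.Lib.SLA.MHom
import Cfsg.Agent.Lib.Classical.SLCard

/-!
# Elements of order dividing q + 1
-/

set_option autoImplicit false
set_option linter.unusedSectionVars false
set_option linter.unusedVariables false

namespace CfsgLib.SLA

open CfsgLib.RGD CfsgLib.Stein Subgroup
open scoped commutatorElement Pointwise

universe u

variable {ι κ : Type} [Fintype κ] [DecidableEq κ] [Finite ι] {Φ : RootSys ι κ} {E : ER Φ}
  {F : Type} [Field F] [Finite F] [CharP F 2] {G : Type u} [Group G] [Finite G]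
  {S : StSys Φ F G}

open Matrix in
/-- the block embedding along the columns of `P` -/
def blk {m n : ℕ} (P : Matrix (Fin m) (Fin n) F) (h : Pᵀ * P = 1) :
    Matrix.SpecialLinearGroup (Fin n) F →* Matrix.SpecialLinearGroup (Fin m) F :=
  MonoidHom.mk' (fun g => ⟨1 + P * ((g.1 - 1) * Pᵀ), by
    rw [det_one_add_mul_comm, Matrix.mul_assoc, h, Matrix.mul_one, add_sub_cancel, g.2]⟩) fun a b => Subtype.ext (by
      show 1 + P * ((a.1 * b.1 - 1) * Pᵀ) = (1 + P * ((a.1 - 1) * Pᵀ)) * (1 + P * ((b.1 - 1) * Pᵀ))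
      rw [mul_add, add_mul, add_mul, mul_one, mul_one, one_mul, Matrix.mul_assoc P, Matrix.mul_assoc _ Pᵀ,
        ← Matrix.mul_assoc Pᵀ, h, Matrix.one_mul, ← Matrix.mul_assoc (a.1 - 1), add_assoc, ← Matrix.mul_add,
        ← Matrix.mul_add, ← Matrix.add_mul, ← Matrix.add_mul]
      congr 3
      noncomm_ring)

open Matrix in
/-- the rank one subgroups are copies of `SL₂` -/
theorem Amb.exists_sl2 (A : Amb E S) (r : ι) : ∃ κ : Matrix.SpecialLinearGroup (Fin 2) F →* G,
    Function.Injective κ ∧ κ.range = S.UU {r, Φ.neg r} := by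
  obtain ⟨φ, C⟩ := A.exists_cov
  let e : Fin 2 → Fin E.m := ![⟨_, E.lo_lt r⟩, ⟨_, E.hi_lt r⟩]
  have he : Function.Injective e := fun a b => by
    have := E.ne r
    fin_cases a <;> fin_cases b <;> simp [e, this, this.symm]
  let P : Matrix (Fin E.m) (Fin 2) F := (1 : Matrix _ _ F).submatrix id e
  have hP : Pᵀ * P = 1 := by
    ext a b
    simp [P, mul_apply, one_apply, he.eq_iff, eq_comm]
  have h1 : ∀ {a b : Fin 2} (h : a ≠ b) (c : F), blk P hP (Matrix.SpecialLinearGroup.transvection h c) =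
      Matrix.SpecialLinearGroup.transvection (he.ne h) c := fun {a b} h c => Subtype.ext (by
    show 1 + P * ((1 + single a b c - 1) * Pᵀ) = 1 + single (e a) (e b) c
    congr 1
    ext k l
    fin_cases a <;> fin_cases b <;> simp [P, mul_apply, one_apply, single_apply, @eq_comm _ (e _), ← ite_and, and_comm])
  have h2 : ∀ c, φ (blk P hP (Matrix.SpecialLinearGroup.transvection zero_ne_one c)) = S.x r c := fun c => by
    rw [h1, ← C.tv]; rfl
  have h3 : ∀ c, φ (blk P hP (Matrix.SpecialLinearGroup.transvection one_ne_zero c)) = S.x (Φ.neg r) c := fun c => by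
    rw [h1, ← C.tv, E.tv_eq (he.ne one_ne_zero) (E.lo_neg r) (E.hi_neg r)]
  refine ⟨φ.comp (blk P hP), (injective_iff_map_eq_one _).2 fun g hg => ?_, le_antisymm ?_ ?_⟩
  · obtain ⟨c, -, h4⟩ := Matrix.SpecialLinearGroup.mem_center_iff.1 (C.ker hg)
    obtain ⟨k, k1, k2⟩ := E.exists_idx [E.lo r, E.hi r] E.three
    have h5 := congrFun (congrFun h4 ⟨k, k1⟩) ⟨k, k1⟩
    simp only [List.mem_cons, List.not_mem_nil, or_false, not_or] at k2
    have h6 : c = 1 := by
      change _ = (1 + P * ((g.1 - 1) * Pᵀ) : Matrix _ _ F) _ _ at h5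
      simpa [P, e, mul_apply, one_apply, k2] using h5
    have h7 : P * ((g.1 - 1) * Pᵀ) = 0 := by
      rw [h6, map_one] at h4
      exact left_eq_add.1 h4
    have h8 := congrArg (fun M => Pᵀ * M * P) h7
    simp only [← Matrix.mul_assoc, hP, Matrix.one_mul, Matrix.mul_zero, Matrix.zero_mul] at h8
    rw [Matrix.mul_assoc, hP, Matrix.mul_one, sub_eq_zero] at h8
    exact Subtype.ext h8
  · rw [MonoidHom.range_eq_map, map_le_iff_le_comap, top_le_iff]
    refine Classical.sl_eq_top_of_transvection_mem _ fun a b h c => mem_comap.2 ?_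
    fin_cases a <;> fin_cases b
    · exact absurd rfl h
    · exact (h2 c).symm ▸ S.x_mem_UU (by simp) c
    · exact (h3 c).symm ▸ S.x_mem_UU (by simp) c
    · exact absurd rfl h
  · refine S.UU_le_iff.2 ?_
    rintro _ (rfl | rfl) c
    · exact ⟨_, h2 c⟩
    · exact ⟨_, h3 c⟩

theorem Amb.center_pair (A : Amb E S) {r : ι} {z : G} (hz : z ∈ S.UU {r, Φ.neg r})
    (h : ∀ y ∈ S.UU {r, Φ.neg r}, y * z = z * y) : z = 1 := by
  obtain ⟨κ, h1, h2⟩ := A.exists_sl2 r
  obtain ⟨g, rfl⟩ := h2.ge hz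
  obtain ⟨c, h3, h4⟩ := Matrix.SpecialLinearGroup.mem_center_iff.1 (mem_center_iff.2 fun y =>
    h1 (by rw [map_mul, map_mul, h _ (h2.le ⟨y, rfl⟩)]) : g ∈ center _)
  rw [Fintype.card_fin, sq_eq_one_iff, CharTwo.neg_eq, or_self] at h3
  rw [h3, map_one] at h4
  rw [show g = 1 from Subtype.ext h4.symm, map_one]

theorem Amb.exists_ord (A : Amb E S) {p : ℕ} (hp : p.Prime) (h : p ∣ Nat.card F + 1) (r : ι) :
    ∃ a ∈ S.UU {r, Φ.neg r}, orderOf a = p := by
  obtain ⟨κ, h1, h2⟩ := A.exists_sl2 r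
  have := Fact.mk hp
  have := Fintype.ofFinite F
  obtain ⟨g, hg⟩ := exists_prime_orderOf_dvd_card' (G := Matrix.SpecialLinearGroup (Fin 2) F) p (by
    rw [Classical.sl_card, Finset.prod_range_one, ← Nat.card_eq_fintype_card, zero_add, ← one_pow 2, Nat.sq_sub_sq]
    exact (h.mul_right _).mul_left _)
  exact ⟨κ g, h2.le ⟨g, rfl⟩, (orderOf_injective κ h1 g).trans hg⟩

end CfsgLib.SLA
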