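import Mathlib
import Cfsg.Agent.Lib.SLA.Gr
import Cfsg.Agent.Lib.SLA.MRank
import Cfsg.Agent.Lib.SLA.MSl2
import Cfsg.Agent.Lib.SLA.SemiA

/-!
# Graph involutions in odd dimension
-/

set_option autoImplicit false
set_option linter.unusedSectionVars false
set_option linter.unusedVariables false

namespace CfsgLib.SLA

open CfsgLib.RGD CfsgLib.Stein Subgroup
open scoped commutatorElement Pointwise

universe u

variable {ι κ : Type} [Fintype κ] [DecidableEq κ] [Finite ι] {Φ : RootSys ι κ} {E : ER Φ}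
  {F : Type} [Field F] [Finite F] [CharP F 2] {G : Type u} [Group G] [Finite G]
  {S : StSys Φ F G}

omit [Finite ι] [Finite F] [CharP F 2] [Finite G] in
/-- the facts about a graph involution in odd dimension -/
structure GrO (E : ER Φ) (S : StSys Φ F G) (s : G) : Prop where
  odd : Odd E.m
  nin : s ∉ N0 S
  inv : ∃ z ∈ ⁅CS S s, CS S s⁆, z ≠ 1 ∧ z * z = 1
  tor : ∀ p l : ℕ, p.Prime → p ∣ Nat.card F + 1 → E.m = 2 * l + 1 → ∃ B ≤ CS S s, ElAb p l B ∧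
    (2 < Nat.card F → B ≤ PfC S s) ∧ (Nat.card F = 2 → B ≤ ⁅CS S s, CS S s⁆ ∧ ∀ N : Subgroup G,
      CS S s ≤ normalizer (N : Set G) → B ⊓ N ≠ ⊥ → ∃ y ∈ N ⊓ CS S s, y ≠ 1 ∧ y * y = 1)

theorem exists_inv_of_pg {P : Subgroup G} (hP : IsPGroup 2 P) {w : G} (hw : w ∈ P) (h : w ≠ 1) :
    ∃ y ∈ P, y ≠ 1 ∧ y * y = 1 := by
  obtain ⟨k, hk⟩ := hP ⟨w, hw⟩
  replace hk : w ^ 2 ^ k = 1 := congrArg Subtype.val hk
  induction k generalizing w with
  | zero => exact absurd (by simpa using hk) h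
  | succ k ih =>
    by_cases c : w * w = 1
    · exact ⟨w, hw, h, c⟩
    · exact ih (mul_mem hw hw) c (by rwa [← sq, ← pow_mul, ← pow_succ'])

theorem exists_elab {l p : ℕ} (K : Fin l → Subgroup G) (hK : ∀ i j, i ≠ j → ∀ x ∈ K i, ∀ y ∈ K j, Commute x y)
    (hZ : ∀ i, ∀ z ∈ K i, (∀ y ∈ K i, y * z = z * y) → z = 1) (a : Fin l → G) (ha : ∀ i, a i ∈ K i)
    (ho : ∀ i, orderOf (a i) = p) : ∃ B, ElAb p l B ∧ (∀ M : Subgroup G, (∀ i, a i ∈ M) → B ≤ M) ∧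
      ∀ b ∈ B, b ≠ 1 → ∃ i, ∃ e ∈ zpowers (a i), e ≠ 1 ∧ ∃ g, (∀ y ∈ K i, Commute y g) ∧ b = e * g := by
  have hc : Pairwise fun i j => ∀ x y : G, x ∈ zpowers (a i) → y ∈ zpowers (a j) → Commute x y :=
    fun i j h x y hx hy => hK i j h x (zpowers_le.2 (ha i) hx) y (zpowers_le.2 (ha j) hy)
  let f := noncommPiCoprod hc
  have h1 : ∀ u i, ∃ g, (∀ y ∈ K i, Commute y g) ∧ f u = u i * g := fun u i => by
    refine ⟨f (Function.update u i 1), fun y hy => ?_, ?_⟩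
    · rw [noncommPiCoprod_apply]
      refine Finset.noncommProd_commute _ _ _ _ fun j _ => ?_
      by_cases c : j = i
      · subst c; simp
      · rw [Function.update_of_ne c]
        exact hK i j (Ne.symm c) y hy _ (zpowers_le.2 (ha j) (u j).2)
    · rw [← noncommPiCoprod_mulSingle (hcomm := hc) i (u i), ← map_mul]
      refine congrArg f (funext fun j => ?_)
      by_cases c : j = i
      · subst c; simp
      · simp [c]
  have h2 : Function.Injective f := (injective_iff_map_eq_one f).2 fun u hu => funext fun i => by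
    obtain ⟨g, h3, h4⟩ := h1 u i
    refine Subtype.ext (hZ i _ (zpowers_le.2 (ha i) (u i).2) fun y hy => ?_)
    rw [eq_inv_of_mul_eq_one_left (h4.symm.trans hu)]
    exact (h3 y hy).inv_right
  refine ⟨f.range, ⟨?_, ?_, ?_⟩, fun M hM => ?_, ?_⟩
  · rintro _ ⟨u, rfl⟩ _ ⟨v, rfl⟩
    rw [← map_mul, ← map_mul]
    exact congrArg f (funext fun i => mul_comm' _ _)
  · rintro _ ⟨u, rfl⟩
    rw [← map_pow, show u ^ p = 1 from funext fun i => by
      rw [Pi.pow_apply, ← ho i, ← Nat.card_zpowers, pow_card_eq_one']; rfl, map_one]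
  · rw [← Nat.card_congr (MonoidHom.ofInjective h2).toEquiv, Nat.card_pi]
    simp [ho]
  · rw [noncommPiCoprod_range]
    exact iSup_le fun i => zpowers_le.2 (hM i)
  · rintro _ ⟨u, rfl⟩ h
    obtain ⟨i, hi⟩ := Function.ne_iff.1 (show u ≠ 1 by rintro rfl; exact h (map_one f))
    exact ⟨i, u i, (u i).2, fun e => hi (Subtype.ext e), h1 u i⟩

theorem Amb.pair_le_CS (A : Amb E S) {δ : G} {d : ι → F} (hd : StdD S δ E.γ d 1) (h2 : δ * δ = 1) {r : ι}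
    (hr : E.γ r = r) : S.UU {r, Φ.neg r} ≤ CS S δ := by
  have k : ∀ r, E.γ r = r → ∀ c, S.x r c ∈ CS S δ := fun r hr c =>
    ⟨S.x_mem_grp r c, A.sm_fix_cent hd hr (by rw [A.gr_d1 hd h2 hr, one_mul]; rfl)⟩
  refine S.UU_le_iff.2 ?_
  rintro _ (rfl | rfl)
  · exact k _ hr
  · exact k _ (by rw [E.γn, hr])

theorem Amb.cube (A : Amb E S) (r : ι) : orderOf (S.x r 1 * S.x (Φ.neg r) 1) = 3 := by
  have := Fact.mk Nat.prime_three
  refine orderOf_eq_prime ?_ fun e => Φ.neg_ne r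
    (A.x_inj one_ne_zero ((eq_inv_of_mul_eq_one_left e).trans (A.x_inv _ _))).1.symm
  have h := A.exa_n r r 1
  rw [(E.rf_self r).1, inv_eq_of_mul_eq_one_right (A.n_sq r)] at h
  simp only [StSys.n, nOf, inv_one, CharTwo.neg_eq, mul_assoc] at h
  rw [← mul_assoc (S.x r 1) (S.x r 1), A.x_sq, one_mul] at h
  rw [pow_three, ← A.x_sq (Φ.neg r) 1]
  nth_rw 4 [← h]
  simp only [mul_assoc]

/-- the case `q = 2`: a normal subgroup containing an element of order three contains an involution -/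
theorem Amb.gro_inv (A : Amb E S) {δ : G} {d : ι → F} (hd : StdD S δ E.γ d 1) (h2 : δ * δ = 1) {r r' : ι}
    (hr : E.γ r = r) (hr' : E.γ r' = r') (o : ip Φ r r' = 0) {N : Subgroup G}
    (hN : CS S δ ≤ normalizer (N : Set G)) (ha : S.x r 1 * S.x (Φ.neg r) 1 ∈ N) :
    ∃ y ∈ N ⊓ CS S δ, y ≠ 1 ∧ y * y = 1 := by
  have o' := E.ip_zero_iff.1 o
  have := E.bd r
  have := E.bd r'
  have := E.γ_fix_iff.1 hr
  have := E.γ_fix_iff.1 hr'
  obtain ⟨s, hs⟩ := E.exists_e (i := E.lo r') (j := E.lo r) (by omega) (by omega) (by omega)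
  obtain ⟨k, hk⟩ := E.exists_e (i := E.lo r') (j := E.hi r) (by omega) (by omega) (by omega)
  obtain ⟨k', hk'⟩ := E.exists_e (i := E.lo r) (j := E.hi r') (by omega) (by omega) (by omega)
  have := E.γ_co s
  have h3 : S.x s 1 * S.x (E.γ s) (d s * 1) ∈ CS S δ := ⟨mul_mem (S.x_mem_grp _ _) (S.x_mem_grp _ _),
    A.sm_pair_cent hd (E.gp (.inr rfl)) h2 (E.nonneg_iff.2 (by omega)) 1⟩
  have h4 : S.x s 1 * S.x (E.γ s) (d s * 1) ∈ Q S r' :=
    mul_mem (S.x_mem_UU (E.one_le_iff.2 (by omega)) _) (S.x_mem_UU (E.one_le_iff.2 (by omega)) _)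
  have h5 : S.x r 1 * S.x (Φ.neg r) 1 ∈ S.UU {r, Φ.neg r} := mul_mem (S.x_mem_UU (by simp) _) (S.x_mem_UU (by simp) _)
  have h6 : S.x r 1 * S.x (Φ.neg r) 1 ∈ Y S r' :=
    mul_mem (S.x_mem_UU o.ge _) (S.x_mem_UU (show 0 ≤ ip Φ _ _ by rw [ip_neg_left, o, neg_zero]) _)
  obtain ⟨y, hy, h⟩ := exists_inv_of_pg (P := (N ⊓ CS S δ) ⊓ Q S r') (A.pg_Q r').to_inf_right
    (w := ⁅S.x r 1 * S.x (Φ.neg r) 1, S.x s 1 * S.x (E.γ s) (d s * 1)⁆) ⟨⟨by
      rw [commutatorElement_def, mul_assoc, mul_assoc, ← mul_assoc (_ * S.x (E.γ s) _)]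
      exact mul_mem ha (UFP.conj_mem (hN h3) (inv_mem ha)), commutator_le_self _
        (commutator_mem_commutator (A.pair_le_CS hd h2 hr h5) h3)⟩,
      (Q S r').mul_mem (UFP.conj_mem (A.Y_norm_Q r' h6) h4) (inv_mem h4)⟩ fun e => by
    have c1 : Commute (S.x (Φ.neg r) 1) (S.x s 1 * S.x (E.γ s) (d s * 1)) := Commute.mul_right
      (A.com (by rw [E.nonneg_iff, E.lo_neg, E.hi_neg]; omega) _ _)
      (A.com (by rw [E.nonneg_iff, E.lo_neg, E.hi_neg]; omega) _ _)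
    rw [commutatorElement_def, mul_inv_eq_one, mul_inv_rev, ← mul_assoc, mul_assoc (S.x r 1), c1.eq, ← mul_assoc,
      mul_inv_cancel_right, ← conj_mul, A.conj_x (r := k) ((E.radd_iff ..).2 (by omega)),
      A.conj_x (r := k') ((E.radd_iff ..).2 (by omega)), mul_assoc, mul_right_inj,
      A.com (a := E.γ s) (E.nonneg_iff.2 (by omega)), ← mul_assoc, mul_eq_right, mul_eq_one_iff_eq_inv, A.x_inv] at e
    exact absurd (E.eq_iff.1 (A.x_inj (by simp) e).1) (by omega)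
  exact ⟨y, hy.1, h⟩

theorem Amb.grO_std (A : Amb E S) (hm : Odd E.m) {δ : G} {d : ι → F} (hd : StdD S δ E.γ d 1)
    (h2 : δ * δ = 1) : GrO E S δ := by
  have tor : ∀ p l : ℕ, p.Prime → p ∣ Nat.card F + 1 → E.m = 2 * l + 1 → ∃ B ≤ CS S δ, ElAb p l B ∧
      (2 < Nat.card F → B ≤ PfC S δ) ∧ (Nat.card F = 2 → B ≤ ⁅CS S δ, CS S δ⁆ ∧ ∀ N : Subgroup G,
        CS S δ ≤ normalizer (N : Set G) → B ⊓ N ≠ ⊥ → ∃ y ∈ N ⊓ CS S δ, y ≠ 1 ∧ y * y = 1) := by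
    intro p l hp h1 hm
    have h3 : ∀ i : Fin l, ∃ r, E.lo r = i ∧ E.hi r = E.m - 1 - i := fun i =>
      E.exists_e (by omega) (by omega) (by omega)
    choose r hr using h3
    have h4 : ∀ i, E.γ (r i) = r i := fun i => E.γ_fix_iff.2 (by have := hr i; omega)
    have h5 : ∀ i j, i ≠ j → ip Φ (r i) (r j) = 0 := fun i j h => E.ip_zero_iff.2 (by
      have := hr i; have := hr j; have := Fin.val_ne_of_ne h; omega)
    have h6 : ∀ i, ∃ a ∈ S.UU {r i, Φ.neg (r i)}, orderOf a = p ∧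
        (Nat.card F = 2 → a = S.x (r i) 1 * S.x (Φ.neg (r i)) 1) := fun i => by
      by_cases c : Nat.card F = 2
      · exact ⟨_, mul_mem (S.x_mem_UU (by simp) _) (S.x_mem_UU (by simp) _), (A.cube _).trans
          ((Nat.prime_dvd_prime_iff_eq hp Nat.prime_three).1 (by rwa [c] at h1)).symm, fun _ => rfl⟩
      · obtain ⟨a, h⟩ := A.exists_ord hp h1 (r i)
        exact ⟨a, h.1, h.2, fun e => absurd e c⟩
    choose a ha ho hq using h6
    obtain ⟨B, hB, h7, h8⟩ := exists_elab (fun i => S.UU {r i, Φ.neg (r i)}) (fun i j h x hx y hy => A.gr_cc (by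
      rintro _ (rfl | rfl) _ (rfl | rfl) <;> simp [ip_neg_left, ip_neg_right, h5 i j h]) hx hy)
      (fun i z => A.center_pair) a ha ho
    have h9 : ∀ i, S.x (r i) 1 ∈ S.UU {r i, Φ.neg (r i)} := fun i => S.x_mem_UU (by simp) _
    refine ⟨B, h7 _ fun i => A.pair_le_CS hd h2 (h4 i) (ha i), hB, fun c => h7 _ fun i => le_PfC (A.pf_UU' (by
      rintro _ (rfl | rfl) <;> exact .inr ⟨by simp [Φ.neg_neg], c⟩)) (A.pair_le_CS hd h2 (h4 i)) (ha i), fun c => ?_⟩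
    obtain rfl := (Nat.prime_dvd_prime_iff_eq hp Nat.prime_three).1 (by rwa [c] at h1)
    have k : ∀ i, ∀ e ∈ zpowers (a i), S.x (r i) 1 * e * (S.x (r i) 1)⁻¹ * e⁻¹ = e := by
      rintro i _ ⟨n, rfl⟩
      have : S.x (r i) 1 * a i * (S.x (r i) 1)⁻¹ = (a i)⁻¹ := by
        rw [hq i c, ← mul_assoc, A.x_sq, one_mul, mul_inv_rev, A.x_inv, A.x_inv]
      dsimp only
      rw [← conj_zpow, this, inv_zpow, ← mul_inv_rev, inv_eq_iff_mul_eq_one, mul_assoc, ← pow_three, ← zpow_natCast,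
        ← zpow_mul, mul_comm, zpow_mul, zpow_natCast, ← ho i, pow_orderOf_eq_one, one_zpow]
    refine ⟨h7 _ fun i => k i _ (mem_zpowers _) ▸ commutator_mem_commutator (A.pair_le_CS hd h2 (h4 i) (h9 i))
      (A.pair_le_CS hd h2 (h4 i) (ha i)), fun N hN h0 => ?_⟩
    obtain ⟨⟨b, hb⟩, b1⟩ := ne_bot_iff_exists_ne_one.1 h0
    obtain ⟨i, e, he, e1, g, hg, rfl⟩ := h8 b hb.1 fun e => b1 (Subtype.ext e)
    have h10 := mul_mem (UFP.conj_mem (hN (A.pair_le_CS hd h2 (h4 i) (h9 i))) hb.2) (inv_mem hb.2)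
    rw [← conj_mul, (hg _ (h9 i)).eq, mul_inv_cancel_right, mul_inv_rev, ← mul_assoc, mul_inv_cancel_right,
      k i e he] at h10
    have := Fact.mk hp
    have h11 : zpowers e = zpowers (a i) := eq_of_le_of_card_ge (zpowers_le.2 he) (by
      rw [Nat.card_zpowers, Nat.card_zpowers, ho, orderOf_eq_prime (p := 3) (orderOf_dvd_iff_pow_eq_one.1
        (ho i ▸ orderOf_dvd_of_mem_zpowers he)) e1])
    have : Nontrivial (Fin l) := Fin.nontrivial_iff_two_le.2 (by have := A.five c; omega)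
    obtain ⟨j, hj⟩ := _root_.exists_ne i
    exact A.gro_inv hd h2 (h4 i) (h4 j) (h5 i j hj.symm) hN
      (hq i c ▸ zpowers_le.2 h10 (h11.ge (mem_zpowers _)))
  refine ⟨hm, fun h => E.γ_ne_one (A.typ_unique (Std.typ ⟨d, hd⟩) h (.inr rfl) (.inl rfl)).1, ?_, tor⟩
  obtain c | c := A.two_or
  · obtain ⟨l, hl⟩ := hm
    obtain ⟨B, -, h3, -, h4⟩ := tor 3 l Nat.prime_three (by rw [c]) hl
    obtain ⟨y, hy, h⟩ := (h4 c).2 ⁅CS S δ, CS S δ⁆ (fun g hg => mem_normalizer_fintype fun x hx => by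
      have := conj_mem_comm_CS hg.1 hx
      rwa [mem_centralizer_singleton_iff.1 hg.2, mul_inv_cancel_right] at this) fun e => by
        have h5 := h3.card
        rw [inf_eq_left.2 (h4 c).1] at e
        rw [e, card_bot, eq_comm, Nat.pow_eq_one] at h5
        have := E.three
        omega
    exact ⟨y, hy.1, h⟩
  · exact ⟨S.x E.θ 1, PfC_le_comm δ (le_PfC (A.pf_UU' (T := {E.θ, Φ.neg E.θ}) (by
      rintro _ (rfl | rfl) <;> exact .inr ⟨by simp [Φ.neg_neg], c⟩)) (A.pair_le_CS hd h2 E.γ_θ)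
      (S.x_mem_UU (by simp) _)), mt A.x_eq_one.1 one_ne_zero, A.x_sq _ _⟩

theorem GrO.conj {s g : G} (h : GrO E S s) (A : Amb E S) (hg : g ∈ S.grp) : GrO E S (g * s * g⁻¹) := by
  have k : ∀ {y : G}, y ≠ 1 ∧ y * y = 1 → g * y * g⁻¹ ≠ 1 ∧ g * y * g⁻¹ * (g * y * g⁻¹) = 1 := fun hy =>
    ⟨mt conj_eq_one_iff.1 hy.1, by rw [conj_mul, hy.2, mul_one, mul_inv_cancel]⟩
  refine ⟨h.odd, fun e => h.nin ((mem_normalizer_iff.1 (A.norm_N0 (le_normalizer hg)) s).2 e), ?_,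
    fun p l hp h1 h2 => ?_⟩
  · obtain ⟨z, h1, h2⟩ := h.inv
    exact ⟨_, conj_mem_comm_CS hg h1, k h2⟩
  obtain ⟨B, h3, h4, h5, h6⟩ := h.tor p l hp h1 h2
  refine ⟨MulAut.conj g • B, Coprime.conj_smul_le_iff.2 fun x hx => conj_mem_CS hg (h3 hx), ⟨?_, ?_, ?_⟩,
    fun c => Coprime.conj_smul_le_iff.2 fun x hx => conj_mem_PfC hg (h5 c hx), fun c =>
    ⟨Coprime.conj_smul_le_iff.2 fun x hx => conj_mem_comm_CS hg ((h6 c).1 hx), fun N hN h0 => ?_⟩⟩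
  · rintro _ ⟨a, ha, rfl⟩ _ ⟨b, hb, rfl⟩
    show g * a * g⁻¹ * (g * b * g⁻¹) = g * b * g⁻¹ * (g * a * g⁻¹)
    rw [conj_mul, conj_mul, h4.com a ha b hb]
  · rintro _ ⟨a, ha, rfl⟩
    show (g * a * g⁻¹) ^ p = 1
    rw [conj_pow, h4.pow a ha, mul_one, mul_inv_cancel]
  · rw [Coprime.card_conj_smul, h4.card]
  obtain ⟨N, rfl⟩ : ∃ N', N = MulAut.conj g • N' := ⟨(MulAut.conj g)⁻¹ • N, by simp⟩
  obtain ⟨y, hy, h7⟩ := (h6 c).2 N (fun x hx => by
    simpa [mul_assoc] using UFP.norm_conj' (hN (conj_mem_CS hg hx))) fun e => h0 (by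
      rw [← smul_inf, e, smul_bot])
  exact ⟨_, ⟨Coprime.conj_mem_conj_smul hy.1, conj_mem_CS hg hy.2⟩, k h7⟩

theorem Amb.grO (A : Amb E S) {s : G} (h : Typ S s E.γ 1) (hm : Odd E.m) (s2 : s * s = 1) :
    GrO E S s := by
  obtain ⟨l, hl, hn⟩ := A.exists_norm_U (UFP.pgroup_zpowers_of_sq s2) (zpowers_le.2 h.mem_NL)
  have e2 : l * s * l⁻¹ * (l * s * l⁻¹) = 1 := by rw [conj_mul, s2]; group
  obtain ⟨v, hv, δ, d, hd, h2, e⟩ := A.gr_std (h.conj E.γn hl) e2 (hn s (mem_zpowers s))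
  obtain ⟨u, hu, e'⟩ := A.graph_odd hm hd h2 hv (e ▸ e2)
  have := (A.grO_std hm hd h2).conj A (inv_mem (mul_mem (S.U_le_grp hu) hl))
  rwa [← e', ← e, show (u * l)⁻¹ * (u * (l * s * l⁻¹) * u⁻¹) * (u * l)⁻¹⁻¹ = s by group] at this

end CfsgLib.SLA
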