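import Mathlib
import Cfsg.Agent.Lib.SLA.A3

/-!
# Elements moving `t` by a root element
-/

set_option autoImplicit false
set_option linter.unusedSectionVars false
set_option maxHeartbeats 400000

namespace CfsgLib.SLA

open CfsgLib.RGD CfsgLib.Stein Subgroup
open scoped commutatorElement Pointwise

universe u

variable {ι κ : Type} [Fintype κ] [DecidableEq κ] [Finite ι] {Φ : RootSys ι κ} {E : ER Φ}
  {F : Type} [Field F] [Finite F] [CharP F 2] {G : Type u} [Group G] [Finite G]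
  {S : StSys Φ F G}

theorem InT.com {t g : G} {r s : ι} {c : F} (h : InT S t r c g) (hs : 0 ≤ ip Φ s r) (e : F) :
    Commute g (S.x s e) := (h.1 _ (S.x_mem_UU hs e)).symm

theorem InT.com_self {t g : G} {r : ι} {c : F} (h : InT S t r c g) (e : F) : Commute g (S.x r e) :=
  h.com (ip_pos r).le e

theorem conj_cm' (n g x : G) : n * (g * x * g⁻¹ * x⁻¹) * n⁻¹ =
    n * g * n⁻¹ * (n * x * n⁻¹) * (n * g * n⁻¹)⁻¹ * (n * x * n⁻¹)⁻¹ := by group

namespace Sit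

variable {t g g' : G} {r : ι} {c c' : F} (h : Sit E S t)
include h

theorem inT_mul (h1 : InT S t r c g) (h2 : InT S t r c' g') : InT S t r (c + c') (g * g') :=
  ⟨mul_mem h1.1 h2.1, by
    rw [show g * g' * t * (g * g')⁻¹ = g * (g' * t * g'⁻¹) * g⁻¹ by group, h2.2, ← conj_mul, h1.2,
      (h1.com_self c').eq, mul_inv_cancel_right, S.x_add, mul_assoc]⟩

theorem inT_inv (h1 : InT S t r c g) : InT S t r c g⁻¹ :=
  ⟨inv_mem h1.1, by
    rw [inv_inv, mul_assoc, inv_mul_eq_iff_eq_mul, ← mul_assoc, mul_inv_eq_iff_eq_mul.1 h1.2, mul_assoc,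
      (h1.com_self c).eq, mul_assoc, ← mul_assoc (S.x r c), h.amb.x_sq, one_mul]⟩

theorem inT_unique (h1 : InT S t r c g) (h2 : InT S t r c' g) : c = c' :=
  h.amb.nd.x_injective r (mul_left_cancel (h1.2.symm.trans h2.2))

theorem inT_of_com (h1 : g ∈ centralizer (Y S r : Set G)) (h2 : g * t = t * g) : InT S t r 0 g :=
  ⟨h1, by rw [h2, S.x_zero, mul_one, mul_inv_cancel_right]⟩

theorem com_of_inT (h1 : InT S t r 0 g) : g * t = t * g := by
  rw [← mul_inv_eq_iff_eq_mul, h1.2, S.x_zero, mul_one]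

theorem inT_CL (r : ι) (h1 : g ∈ CL S) (h2 : g * t = t * g) : InT S t r 0 g :=
  h.inT_of_com (centralizer_le (S.UU_le_grp _) h1) h2

theorem inT_x (r : ι) (e : F) : InT S t r 0 (S.x r e) :=
  h.inT_of_com (le_centralizer_iff.1 (h.amb.Y_le_cent r) (S.x_mem_X r e)) (h.com (S.x_mem_grp r e))

theorem inT_zero (h1 : InT S t r 0 g) : ∃ e, ∃ k ∈ CL S, k * t = t * k ∧ g = S.x r e * k := by
  have h2 := h.com_of_inT h1
  obtain ⟨e, k, hk, rfl⟩ := h.amb.cen_Y r (h.CN (mem_centralizer_singleton_iff.2 h2)) h1.1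
  refine ⟨e, k, hk, ?_, rfl⟩
  rwa [← mul_assoc, ← h.com (S.x_mem_grp r e), mul_assoc, mul_assoc, mul_right_inj] at h2

theorem inT_acts {n : G} {w : Equiv.Perm ι} (hn : n ∈ S.grp) (hw : w ∈ Φ.W) (ha : S.Acts n w)
    (he : n * S.x r c * n⁻¹ = S.x (w r) c') (h1 : InT S t r c g) : InT S t (w r) c' (n * g * n⁻¹) := by
  refine ⟨fun y hy => ?_, ?_⟩
  · have := h1.1 _ ((ha.inv hw).conj_mem_UU (fun s hs => show 0 ≤ ip Φ (w⁻¹ s) r by
      rw [← ip_apply hw]; simpa using hs) hy)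
    rw [show y * (n * g * n⁻¹) = n * (n⁻¹ * y * n⁻¹⁻¹ * g) * n⁻¹ by group, this]
    group
  · have e : n * t * n⁻¹ = t := by rw [h.com hn, mul_inv_cancel_right]
    conv_lhs => rw [← e]
    rw [show n * g * n⁻¹ * (n * t * n⁻¹) * (n * g * n⁻¹)⁻¹ = n * (g * t * g⁻¹) * n⁻¹ by group, h1.2, ← conj_mul, e, he]

theorem inT_exa {n : G} {w : Equiv.Perm ι} (hn : n ∈ S.grp) (hw : w ∈ Φ.W) (he : Exa S n w)
    (h1 : InT S t r c g) : InT S t (w r) c (n * g * n⁻¹) :=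
  h.inT_acts hn hw he.acts (he r c) h1

end Sit

namespace Mv

variable {t : G} (h : Mv E S t)
include h

theorem surj (r : ι) (c : F) : ∃ g, InT S t r c g ∧ CO S t g := by
  by_cases hc : c = 0
  · exact ⟨_, hc ▸ h.inT_x r 0, CO.of_mem (S.x_mem_grp r 0)⟩
  obtain ⟨c₀, g, h0, h1, h2⟩ := h.ex
  obtain ⟨w, hw, rfl⟩ := E.exists_θ r
  obtain ⟨n, hn, he⟩ := h.amb.exists_exa hw
  have hn := S.N_le_grp (h.amb.N1_le hn)
  have h3 := mul_ne_zero hc (inv_ne_zero h0)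
  have k : ∀ {l g}, l ∈ S.grp → CO S t g → CO S t (l * g * l⁻¹) := fun hl hg =>
    ((CO.of_mem hl).mul hg).mul (CO.of_mem hl).inv
  have h4 : InT S t E.θ c _ := h.inT_acts (w := 1) (c' := c) (S.h_mem_grp E.α _) (one_mem _) (S.acts_h _ h3) (by
    rw [h.amb.h_conj _ _ h3, E.ip_αθ, zpow_one, inv_mul_cancel_right₀ h0]; rfl) h1
  exact ⟨_, h.inT_exa hn hw he h4, k hn (k (S.h_mem_grp _ _) h2)⟩

theorem h1_aux {a b r : ι} (hr : RAdd Φ a b r) {c : F} {g : G} (hg : InT S t a c g) (u : F) :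
    ∃ e g', InT S t r (u * c) g' ∧ g * S.x b u * g⁻¹ * (S.x b u)⁻¹ = g' * S.x a e := by
  obtain ⟨-, i1, -⟩ := E.radd_ip hr
  obtain ⟨g', hg', -⟩ := h.surj r (u * c)
  have h1 : g * S.x b u * g⁻¹ * (S.x b u)⁻¹ ∈ centralizer (Y2 S a r : Set G) := fun y hy => by
    have le : Y2 S a r ≤ Y S a := S.UU_mono fun _ h => h.1
    have e := (inv_mem hg.1) _ (le (UFP.conj_mem' (h.amb.norm_Y2 hr u) hy))
    rw [← mul_assoc, ← mul_assoc, ← mul_assoc, hg.1 y (le hy), show g * y * S.x b u * g⁻¹ * (S.x b u)⁻¹ =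
      g * S.x b u * ((S.x b u)⁻¹ * y * S.x b u * g⁻¹) * (S.x b u)⁻¹ by group, e]
    group
  have h2 : g * S.x b u * g⁻¹ * (S.x b u)⁻¹ * t * (g * S.x b u * g⁻¹ * (S.x b u)⁻¹)⁻¹ = t * S.x r (u * c) := by
    have e : ∀ d, S.x b d * t * (S.x b d)⁻¹ = t := fun d => by rw [h.com (S.x_mem_grp _ _), mul_inv_cancel_right]
    rw [h.amb.x_inv, show ∀ x : G, g * x * g⁻¹ * x * t * (g * x * g⁻¹ * x)⁻¹ =
      g * (x * (g⁻¹ * (x * t * x⁻¹) * g⁻¹⁻¹) * x⁻¹) * g⁻¹ by intro; group, e, (h.inT_inv hg).2, ← conj_mul (b := S.x b u), e,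
      h.amb.conj_x hr.symm, ← conj_mul, ← conj_mul, hg.2, (hg.com_self c).eq, mul_inv_cancel_right,
      (hg.com (by rw [ip_comm, i1]; norm_num) _).eq, mul_inv_cancel_right, mul_assoc, ← mul_assoc (S.x a c),
      h.amb.x_sq, one_mul]
  generalize g * S.x b u * g⁻¹ * (S.x b u)⁻¹ = k at h1 h2
  have h3 : g'⁻¹ * k * t = t * (g'⁻¹ * k) := by
    rw [← mul_inv_eq_iff_eq_mul, show g'⁻¹ * k * t * (g'⁻¹ * k)⁻¹ = g'⁻¹ * (k * t * k⁻¹) * g' by group, h2, ← hg'.2]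
    group
  obtain ⟨e, e', κ, hκ, h4⟩ := h.amb.cen_Y2 i1 (h.CN (mem_centralizer_singleton_iff.2 h3))
    (mul_mem (inv_mem (centralizer_le (S.UU_mono fun _ h => h.2) hg'.1)) h1)
  have h5 : κ * t = t * κ := by
    rwa [h4, ← mul_assoc, ← h.com (mul_mem (S.x_mem_grp _ _) (S.x_mem_grp _ _)), mul_assoc, mul_assoc _ t,
      mul_right_inj] at h3
  refine ⟨e, g' * (S.x r e' * κ), ?_, ?_⟩
  · simpa using h.inT_mul hg' (h.inT_mul (h.inT_x r e') (h.inT_CL r hκ h5))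
  · rw [mul_assoc g', ← inv_mul_eq_iff_eq_mul, h4, h.amb.com (by rw [i1]; norm_num), mul_assoc,
      hκ _ (S.x_mem_grp _ _), mul_assoc]

end Mv

end CfsgLib.SLA
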