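import Mathlib
import Cfsg.Agent.Lib.SLA.Hat0

/-!
# The first hat commutator for m = 3
-/

set_option autoImplicit false
set_option linter.unusedSectionVars false
set_option linter.unusedVariables false

namespace CfsgLib.SLA

open CfsgLib.RGD CfsgLib.Stein Subgroup
open scoped commutatorElement Pointwise

universe u

variable {ι κ : Type} [Fintype κ] [DecidableEq κ] [Finite ι] {Φ : RootSys ι κ} {E : ER Φ}
  {F : Type} [Field F] [Finite F] [CharP F 2] {G : Type u} [Group G] [Finite G]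
  {S : StSys Φ F G}

/-- `k` acts on `X_b` as `x_a(e)` -/
def HD (S : StSys Φ F G) (b r : ι) (k : G) (e : F) : Prop :=
  (∀ c, Commute k (S.x r c)) ∧ ∀ v, k * S.x b v * k⁻¹ = S.x b v * S.x r (e * v)

theorem HD.mul {b r : ι} {k k' : G} {e e' : F} (h : HD S b r k e) (h' : HD S b r k' e') :
    HD S b r (k * k') (e + e') :=
  ⟨fun c => (h.1 c).mul_left (h'.1 c), fun v => by
    rw [show k * k' * S.x b v * (k * k')⁻¹ = k * (k' * S.x b v * k'⁻¹) * k⁻¹ by group, h'.2, ← conj_mul,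
      h.2, (h.1 _).eq, mul_inv_cancel_right, add_mul, S.x_add, mul_assoc]⟩

theorem HD.uniq (A : Amb E S) {b r : ι} {k : G} {e e' : F} (h : HD S b r k e) (h' : HD S b r k e') :
    e = e' := by
  simpa using A.nd.x_injective r (mul_left_cancel ((h.2 1).symm.trans (h'.2 1)))

theorem hd_zero {b r : ι} {k : G} (h1 : ∀ c, Commute k (S.x r c)) (h2 : ∀ c, Commute k (S.x b c)) :
    HD S b r k 0 :=
  ⟨h1, fun v => by rw [(h2 v).eq, mul_inv_cancel_right, zero_mul, S.x_zero, mul_one]⟩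

namespace Mv

variable {t : G} (h : Mv E S t) {a b r : ι}
include h

theorem h13_split {c : F} {g g' : G} (h1 : InT S t r c g) (h2 : InT S t r c g') :
    ∃ f o, o ∈ CL S ∧ o * t = t * o ∧ Odd (orderOf o) ∧
      (g' = g * S.x r f * o ∨ g' = g * S.x r f * o * t) := by
  have := h.inT_mul (h.inT_inv h1) h2
  rw [CharTwo.add_self_eq_zero] at this
  obtain ⟨f, k, hk, kt, e⟩ := h.inT_zero this
  rw [inv_mul_eq_iff_eq_mul, ← mul_assoc] at e
  rcases h.odd_or h.two hk kt with o | o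
  · exact ⟨f, k, hk, kt, o, .inl e⟩
  · exact ⟨f, k * t, mul_mem hk h.tC, by rw [← mul_assoc, kt], o, .inr (by
      rw [mul_assoc, mul_assoc k, h.t2, mul_one, e])⟩

theorem h13_comm {c : F} {g g' : G} (h1 : InT S t r c g) (co : CO S t g) (h2 : InT S t r c g') :
    g * g' * g⁻¹ = g' ∨ g * g' * g⁻¹ = g' * S.x r c := by
  obtain ⟨f, o, o1, o2, o3, e⟩ := h.h13_split h1 h2
  have c1 : Commute g (g * S.x r f * o) :=
    ((Commute.refl g).mul_right (h1.com_self f)).mul_right (co o o1 o2 o3)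
  rcases e with rfl | rfl
  · exact .inl (by rw [c1.eq, mul_inv_cancel_right])
  · exact .inr (by rw [← conj_mul, h1.2, c1.eq, mul_inv_cancel_right, ← mul_assoc])

theorem h13_sq {c p p' : F} {g g' : G} (h1 : InT S t r c g) (co : CO S t g) (h2 : InT S t r c g')
    (e1 : g * g = S.x r p) (e2 : g' * g' = S.x r p') : p + p' = 0 ∨ p + p' = c := by
  have A := h.amb
  obtain ⟨f, o, o1, o2, o3, e⟩ := h.h13_split h1 h2
  have c1 : Commute g o := co o o1 o2 o3
  have c2 : ∀ f, Commute (S.x r f) o := fun f => o1 _ (S.x_mem_grp r f)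
  have e3 : g * S.x r f * o * (g * S.x r f * o) = S.x r p * (o * o) := by
    rw [← pow_two, (c1.mul_left (c2 f)).mul_pow, (h1.com_self f).mul_pow, pow_two, pow_two, pow_two,
      e1, A.x_sq, mul_one]
  have k : ∀ d, S.x r p * (o * o) = S.x r d → p + d = 0 := fun d e => by
    have e4 : o * o = S.x r (p + d) := by rw [S.x_add, ← e, ← mul_assoc, A.x_sq, one_mul]
    exact A.x_eq_one.1 (A.eq_one (S.x_mem_grp r _) (e4 ▸ mul_mem o1 o1)
      (UFP.pgroup_zpowers_of_sq (A.x_sq _ _)))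
  rcases e with rfl | rfl
  · exact .inl (k _ (e3.symm.trans e2))
  · right
    have i1 : InT S t r c (g * S.x r f * o) := by
      simpa using h.inT_mul (h.inT_mul h1 (h.inT_x r f)) (h.inT_CL r o1 o2)
    generalize g * S.x r f * o = y at e2 e3 i1
    have e5 : y * t * (y * t) = y * y * S.x r c := by
      have := (h.inT_inv i1).2
      rw [inv_inv] at this
      calc _ = y * y * (y⁻¹ * t * y) * t := by group
        _ = _ := by rw [this, mul_assoc (y * y), mul_assoc t, h.com (S.x_mem_grp _ _), ← mul_assoc t,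
          h.t2, one_mul]
    have := k (p' + c) (by rw [S.x_add, ← e2, e5, ← e3, mul_assoc (y * y), A.x_sq, mul_one])
    rwa [← add_assoc, CharTwo.add_eq_zero] at this

theorem h13_hd (hr : RAdd Φ a b r) {c e : F} {g : G} (hg : InT S t r c g) :
    HD S b r (g * S.x a e) e := by
  obtain ⟨-, i1, i2⟩ := E.radd_ip hr
  simpa using (hd_zero hg.com_self (hg.com (by omega))).mul
    (⟨fun _ => h.amb.com (by omega) _ _, h.amb.conj_x hr e⟩ : HD S b r (S.x a e) e)

theorem h13_fun (hr : RAdd Φ a b r) : ∃ e : F → F → F, ∀ c u g, InT S t a c g →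
    HD S b r (g * S.x b u * g⁻¹ * (S.x b u)⁻¹) (e c u) := by
  have A := h.amb
  obtain ⟨-, i1, i2⟩ := E.radd_ip hr
  choose g₀ h₀ _ using h.surj a
  choose e g' h1 h2 using fun c u => h.h1_aux hr (h₀ c) u
  refine ⟨e, fun c u g hg => ?_⟩
  have := h.inT_mul (h.inT_inv (h₀ c)) hg
  rw [CharTwo.add_self_eq_zero] at this
  obtain ⟨f, k, hk, -, e1⟩ := h.inT_zero this
  rw [inv_mul_eq_iff_eq_mul] at e1
  have c1 : Commute (S.x b u) (S.x r (f * u)) := A.com (by omega) _ _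
  have c2 := (h₀ c).com (s := r) (by rw [ip_comm]; omega) (f * u)
  have e2 : g * S.x b u * g⁻¹ * (S.x b u)⁻¹ = g' c u * S.x a (e c u) * S.x r (f * u) := by
    calc _ = g₀ c * (S.x a f * (k * S.x b u * k⁻¹) * (S.x a f)⁻¹) * (g₀ c)⁻¹ * (S.x b u)⁻¹ := by
          rw [e1]; group
      _ = _ := by
        rw [← hk _ (S.x_mem_grp b u), mul_inv_cancel_right, A.conj_x hr, ← h2, mul_assoc _ _ (S.x r _),
          c1.inv_left.eq, ← mul_assoc _ (S.x r _), mul_assoc _ _ (S.x r _), c2.inv_left.eq]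
        group
  rw [e2]
  simpa using (h.h13_hd hr (h1 c u)).mul (hd_zero (k := S.x r (f * u))
    (fun _ => A.com (ip_pos r).le _ _) fun _ => A.com (by rw [ip_comm]; omega) _ _)

end Mv

theorem Mv.h1_three {t : G} (h : Mv E S t) (h3 : E.m = 3) {a b r : ι} (hr : RAdd Φ a b r) {c u e : F}
    {g g' : G} (hg : InT S t a c g) (hg' : InT S t r (u * c) g')
    (h1 : g * S.x b u * g⁻¹ * (S.x b u)⁻¹ = g' * S.x a e) : e = 0 := by
  have A := h.amb
  obtain ⟨i0, i1, i2⟩ := E.radd_ip hr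
  obtain ⟨ε, hε⟩ := h.h13_fun hr
  rw [(h.h13_hd hr (e := e) hg').uniq A (e' := ε c u) (h1 ▸ hε c u g hg)]
  clear h1 hg hg' g g' e
  have br : ∀ u v, Commute (S.x b u) (S.x r v) := fun u v => A.com (by omega) _ _
  have bb : ∀ u v, Commute (S.x b u) (S.x b v) := fun u v => A.com (ip_pos b).le _ _
  have ar : 0 ≤ ip Φ r a := by rw [ip_comm]; omega
  have add2 : ∀ c u u', ε c (u + u') = ε c u + ε c u' := fun c u u' => by
    obtain ⟨g, hg, -⟩ := h.surj a c
    refine (hε c _ g hg).uniq A ?_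
    rw [S.x_add, show ∀ x y : G, g * (x * y) * g⁻¹ * (x * y)⁻¹ =
      g * x * g⁻¹ * x⁻¹ * (x * (g * y * g⁻¹ * y⁻¹) * x⁻¹) by intros; group]
    have z := hd_zero (br u) (bb u)
    have := (z.mul (hε c u' g hg)).mul z
    rw [zero_add, add_zero] at this
    rw [A.x_inv b u] at *
    exact (A.x_inv b u ▸ hε c u g hg).mul this
  have tor : ∀ d {s : F}, s ≠ 0 → ∀ c u, ε (s ^ ip Φ d a * c) (s ^ ip Φ d b * u) =
      s ^ ip Φ d a * ε c u := fun d s s0 c u => by
    obtain ⟨g, hg, -⟩ := h.surj a c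
    have k := hε c u g hg
    refine (hε _ _ _ (h.inT_acts (w := 1) (S.h_mem_grp d s) (one_mem _) (S.acts_h d s0)
      (A.h_conj d a s0 c) hg)).uniq A ?_
    rw [← A.h_conj d b s0, ← conj_cm']
    generalize g * S.x b u * g⁻¹ * (S.x b u)⁻¹ = y at k
    have n0 : ∀ x, s ^ ip Φ d x ≠ 0 := fun x => zpow_ne_zero _ s0
    refine ⟨fun v => ?_, fun v => ?_⟩
    · rw [← mul_inv_cancel_left₀ (n0 r) v, ← A.h_conj d r s0]
      exact (k.1 _).conj _
    · conv_lhs => rw [← mul_inv_cancel_left₀ (n0 b) v, ← A.h_conj d b s0]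
      rw [show ∀ n x : G, n * y * n⁻¹ * (n * x * n⁻¹) * (n * y * n⁻¹)⁻¹ = n * (y * x * y⁻¹) * n⁻¹ by
        intros; group, k.2, ← conj_mul, A.h_conj d b s0, A.h_conj d r s0, mul_inv_cancel_left₀ (n0 b),
        ip_comm d r, hr.ip_left d, ip_comm a, ip_comm b, zpow_add₀ s0]
      congr 2
      field_simp [n0 b]
  have tr : ∀ {s : F}, s ≠ 0 → ∀ c u, ε (s * c) (s * u) = s * ε c u := fun s0 c u => by
    simpa [ip_comm r, i1, i2] using tor r s0 c u
  by_cases hq : ∃ s : F, s ≠ 0 ∧ s ^ 3 ≠ 1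
  · obtain ⟨s, s0, s1⟩ := hq
    have k : ∀ u, ε c (s ^ 3 * u) = ε c u := fun u => by
      have e1 := tor b s0 c u
      rw [ip_comm b a, i0, E.ip_self, zpow_neg_one] at e1
      have e2 := tr s0 (s⁻¹ * c) (s ^ (2 : ℤ) * u)
      rw [e1, mul_inv_cancel_left₀ s0, mul_inv_cancel_left₀ s0] at e2
      rw [← e2, zpow_two]; congr 1; ring
    have n0 : 1 + s ^ 3 ≠ 0 := fun e => s1 (CharTwo.add_eq_zero.1 e).symm
    rw [← mul_inv_cancel_left₀ n0 u, add_mul, add2, k, one_mul, CharTwo.add_self_eq_zero]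
  -- the field of order four
  push Not at hq
  have cok : ∀ {c u e g g'}, CO S t g → g * S.x b u * g⁻¹ * (S.x b u)⁻¹ = g' * S.x a e → InT S t a c g →
      CO S t g' := fun {c u e g g'} co e1 _ => by
    rw [eq_mul_inv_of_mul_eq e1.symm]
    exact (((co.mul (CO.of_mem (S.x_mem_grp _ _))).mul co.inv).mul
      (CO.of_mem (S.x_mem_grp _ _)).inv).mul (CO.of_mem (S.x_mem_grp _ _)).inv
  have sq : ∀ c u, ∃ g', InT S t r (u * c) g' ∧ CO S t g' ∧ g' * g' = S.x r (ε c u * u) := fun c u => by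
    obtain ⟨g, hg, co⟩ := h.surj a c
    obtain ⟨e, g', h1, h2⟩ := h.h1_aux hr hg u
    refine ⟨g', h1, cok co h2 hg, ?_⟩
    have k := hε c u g hg
    have e1 : g * S.x b u * g⁻¹ * (S.x b u)⁻¹ * S.x b u * (g * S.x b u * g⁻¹ * (S.x b u)⁻¹) =
        S.x b u := by
      rw [inv_mul_cancel_right, ← mul_assoc, conj_mul, A.x_sq, A.x_inv]; group
    have e2 : g * S.x b u * g⁻¹ * (S.x b u)⁻¹ * (g * S.x b u * g⁻¹ * (S.x b u)⁻¹) = g' * g' := by
      rw [h2, ← pow_two, (h1.com (by omega) e).mul_pow, pow_two, pow_two, A.x_sq, mul_one]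
    generalize g * S.x b u * g⁻¹ * (S.x b u)⁻¹ = y at k e1 e2
    rw [mul_inv_eq_iff_eq_mul.1 (k.2 u), mul_assoc, mul_assoc, mul_eq_left, e2] at e1
    rw [eq_inv_of_mul_eq_one_right e1, A.x_inv]
  have add1 : ∀ c c₁ u, c ≠ 0 → u * c₁ ≠ 0 →
      ε (c + c₁) u + ε c₁ u + ε c u = 0 ∨ ε (c + c₁) u + ε c₁ u + ε c u = c := fun c c₁ u c0 u0 => by
    obtain ⟨g₁, hg₁, -⟩ := h.surj a c
    obtain ⟨g₂, hg₂, co⟩ := h.surj a c₁
    obtain ⟨e₂, g', h1, h2⟩ := h.h1_aux hr hg₂ u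
    obtain ⟨e₃, g₃, h4, h5⟩ := h.h1_aux hr (h.inT_inv hg₁) (u * c₁ / c)
    rw [div_mul_cancel₀ _ c0] at h4
    have ya : ∀ v, Commute (g₁ * g' * g₁⁻¹ * g'⁻¹) (S.x a v) := fun v =>
      (((hg₁.com_self v).mul_left (h1.com (by omega) v)).mul_left (hg₁.com_self v).inv_left).mul_left
        (h1.com (by omega) v).inv_left
    have yt : g₁ * g' * g₁⁻¹ * g'⁻¹ * t = t * (g₁ * g' * g₁⁻¹ * g'⁻¹) := by
      have k1 : ∀ {x : G} {v}, InT S t a c x → x * (t * S.x r v) * x⁻¹ = t * S.x r v * S.x a c :=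
        fun {x v} hx => by
          rw [← conj_mul, hx.2, (hx.com ar v).eq, mul_inv_cancel_right, mul_assoc, mul_assoc,
            A.com ar]
      rw [← mul_inv_eq_iff_eq_mul, show g₁ * g' * g₁⁻¹ * g'⁻¹ * t * (g₁ * g' * g₁⁻¹ * g'⁻¹)⁻¹ =
        g₁ * (g' * (g₁⁻¹ * (g'⁻¹ * t * g'⁻¹⁻¹) * g₁⁻¹⁻¹) * g'⁻¹) * g₁⁻¹ by group, (h.inT_inv h1).2,
        k1 (h.inT_inv hg₁), ← conj_mul (b := g'), ← conj_mul (b := g'), h1.2, (h1.com_self _).eq,
        (h1.com (s := a) (by omega) _).eq, mul_inv_cancel_right, mul_inv_cancel_right, mul_assoc t,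
        A.x_sq, mul_one, ← conj_mul, hg₁.2, (hg₁.com_self _).eq, mul_inv_cancel_right, mul_assoc,
        A.x_sq, mul_one]
    have m1 : g₁ ∈ centralizer (Y2 S a r : Set G) := centralizer_le (S.UU_mono fun _ h => h.1) hg₁.1
    have m2 : g' ∈ centralizer (Y2 S a r : Set G) := centralizer_le (S.UU_mono fun _ h => h.2) h1.1
    obtain ⟨f, f', k, hk, ey⟩ := A.cen_Y2 i1 (h.mem_NL yt)
      (mul_mem (mul_mem (mul_mem m1 m2) (inv_mem m1)) (inv_mem m2))
    have hy : HD S b r (g₁ * g' * g₁⁻¹ * g'⁻¹) f := by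
      rw [ey]
      simpa using ((h.h13_hd hr (e := f) (h.inT_CL r (one_mem _) (by simp))).mul
        (hd_zero (k := S.x r f') (fun _ => A.com (ip_pos r).le _ _) fun _ => (br _ _).symm)).mul
        (hd_zero (k := k) (fun _ => (hk _ (S.x_mem_grp _ _)).symm) fun _ => (hk _ (S.x_mem_grp _ _)).symm)
    have e1 : ε (c + c₁) u = f + ε c₁ u + ε c u := by
      refine (hε _ u _ (h.inT_mul hg₁ hg₂)).uniq A ?_
      rw [show ∀ x : G, g₁ * g₂ * x * (g₁ * g₂)⁻¹ * x⁻¹ =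
        g₁ * (g₂ * x * g₂⁻¹ * x⁻¹) * g₁⁻¹ * (g₁ * x * g₁⁻¹ * x⁻¹) by intro; group]
      refine HD.mul ?_ (hε c u g₁ hg₁)
      rw [show g₁ * (g₂ * S.x b u * g₂⁻¹ * (S.x b u)⁻¹) * g₁⁻¹ =
        g₁ * g' * g₁⁻¹ * g'⁻¹ * (g₂ * S.x b u * g₂⁻¹ * (S.x b u)⁻¹) by
          rw [h2, ← conj_mul, (hg₁.com_self e₂).eq]; group]
      exact hy.mul (hε c₁ u g₂ hg₂)
    rw [e1, show f + ε c₁ u + ε c u + ε c₁ u + ε c u = f + (ε c₁ u + ε c₁ u) + (ε c u + ε c u) by ring,
      CharTwo.add_self_eq_zero, CharTwo.add_self_eq_zero, add_zero, add_zero]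
    have e2 := hy.2 (u * c₁ / c)
    have e3 : ∀ w, g' * g₃ * g'⁻¹ = g₃ * S.x r w → f * (u * c₁ / c) = w := fun w ew => by
      refine A.nd.x_injective r (mul_left_cancel (e2.symm.trans ?_))
      have c1 := h1.com (s := b) (by omega) (u * c₁ / c)
      have c2 := h1.com (s := a) (by omega) e₃
      have c3 := hg₁.com ar w
      have c4 : Commute (S.x a e₃) (S.x r w) := A.com (by omega) _ _
      have c5 := br (u * c₁ / c) w
      generalize S.x b (u * c₁ / c) = x, S.x a e₃ = y, S.x r w = z at *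
      have e4 : g₁⁻¹ * x * g₁ = g₃ * y * x := by rw [← h5]; group
      calc _ = g₁ * (g' * (g₁⁻¹ * (g'⁻¹ * x * g') * g₁) * g'⁻¹) * g₁⁻¹ := by group
        _ = g₁ * (g' * g₃ * g'⁻¹ * (g' * (y * x) * g'⁻¹)) * g₁⁻¹ := by
          rw [c1.inv_left.eq, inv_mul_cancel_right, e4]; group
        _ = g₁ * (g₃ * y * x) * z * g₁⁻¹ := by
          rw [ew, (c2.mul_right c1).eq, mul_inv_cancel_right, mul_assoc g₃, ← (c4.mul_left c5).eq]; group
        _ = _ := by rw [← e4, mul_assoc, ← c3.inv_left.eq]; group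
    rcases h.h13_comm h1 (cok co h2 hg₂) h4 with e4 | e4
    · exact .inl ((mul_eq_zero.1 (e3 0 (by rw [e4, S.x_zero, mul_one]))).resolve_right
        (div_ne_zero u0 c0))
    · have := e3 _ e4
      right
      field_simp at this
      exact mul_right_cancel₀ u0 (by linear_combination this)
  have z1 : ∀ u, ε 0 u = 0 := fun u => (hε 0 u 1 (h.inT_CL a (one_mem _) (by simp))).uniq A
    (by simpa using hd_zero (fun _ => Commute.one_left _) fun _ => Commute.one_left _)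
  have z2 : ∀ c, ε c 0 = 0 := fun c => by simpa using add2 c 0 0
  obtain ⟨ω, ω0, ω1⟩ := A.exists_ne (A.two_lt (by omega))
  have t2 : (2 : F) = 0 := CharTwo.two_eq_zero
  have ω2 : ω * ω = ω + 1 := by
    have := hq ω ω0
    refine mul_left_cancel₀ (sub_ne_zero.2 ω1) ?_
    linear_combination this + (1 - ω * ω) * t2
  have add1' : ∀ u, ε (ω + 1) u = ε ω u + ε 1 u := fun u => by
    by_cases u0 : u = 0
    · rw [u0, z2, z2, z2, add_zero]
    rcases add1 ω 1 u ω0 (by simpa using u0) with e1 | e1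
    · linear_combination e1 - (ε ω u + ε 1 u) * t2
    rcases add1 1 ω u one_ne_zero (mul_ne_zero u0 ω0) with e2 | e2 <;> rw [add_comm 1 ω] at e2
    · linear_combination e2 - (ε ω u + ε 1 u) * t2
    · exact absurd (by linear_combination e2 - e1) ω1
  have a1 := tr ω0 1 1
  have a2 := tr ω0 1 ω
  have a3 := tr ω0 ω 1
  rw [mul_one] at a1 a2 a3
  rw [ω2] at a2 a3
  have a4 := add2 ω ω 1
  have a5 := add1' ω
  have p1 : ε 1 ω = (ω + 1) * ε 1 1 := by grind
  have p2 : ε ω 1 = (ω + 1) * ε 1 1 := by grind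
  have p0 : ε 1 1 = 0 := by
    obtain ⟨g₁, i1, c1, s1⟩ := sq 1 1
    obtain ⟨g₂, i2, -, s2⟩ := sq (ω + 1) ω
    obtain ⟨g₃, i3, -, s3⟩ := sq ω (ω + 1)
    have w3 : ω * (ω + 1) = 1 := by linear_combination ω2 + ω * t2
    rw [mul_one] at i1
    rw [w3] at i2
    rw [mul_comm, w3] at i3
    have b2 := h.h13_sq i1 c1 i2 s1 s2
    have b3 := h.h13_sq i1 c1 i3 s1 s3
    rw [a3, p2, ← mul_assoc, w3] at b2
    rw [a2, p1, ← mul_assoc, w3] at b3
    by_contra n0
    rcases b2 with b2 | b2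
    · exact ω1 (mul_left_cancel₀ n0 (by linear_combination b2 - ε 1 1 * t2))
    rcases b3 with b3 | b3
    · exact ω0 (mul_left_cancel₀ n0 (by linear_combination b3 - ε 1 1 * t2))
    · exact n0 (by linear_combination b3 - b2)
  rw [p0, mul_zero] at p1 p2 a1
  have all : ∀ s : F, s = 0 ∨ s = 1 ∨ s = ω ∨ s = ω + 1 := fun s => by
    by_contra! n
    have := hq s n.1
    refine mul_ne_zero (sub_ne_zero.2 n.2.1) (mul_ne_zero (sub_ne_zero.2 n.2.2.1)
      (sub_ne_zero.2 n.2.2.2)) ?_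
    grind
  have k1 : ∀ c, ε c 1 = 0 → ε c ω = 0 → ε c u = 0 := fun c e1 e2 => by
    rcases all u with rfl | rfl | rfl | rfl
    exacts [z2 c, e1, e2, by rw [add2, e1, e2, add_zero]]
  rcases all c with rfl | rfl | rfl | rfl
  exacts [z1 u, k1 _ p0 p1, k1 _ p2 a1, by rw [add1', k1 _ p0 p1, k1 _ p2 a1, add_zero]]

end CfsgLib.SLA
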