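import Mathlib
import Cfsg.Agent.Lib.SLA.H13

/-!
# Hats, first part
-/

set_option autoImplicit false
set_option linter.unusedSectionVars false
set_option maxHeartbeats 400000

namespace CfsgLib.SLA

open CfsgLib.RGD CfsgLib.Stein Subgroup
open scoped commutatorElement Pointwise

universe u

variable {ι κ : Type} [Fintype κ] [DecidableEq κ] [Finite ι] {Φ : RootSys ι κ} {E : ER Φ}
  {F : Type} [Field F] [Finite F] [CharP F 2] {G : Type u} [Group G] [Finite G]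
  {S : StSys Φ F G}

namespace Mv

variable {t : G} (h : Mv E S t)
include h

/-- **H1** -/
theorem h1 {a b r : ι} (hr : RAdd Φ a b r) {c : F} {g : G} (hg : InT S t a c g) (u : F) :
    InT S t r (u * c) (g * S.x b u * g⁻¹ * (S.x b u)⁻¹) := by
  obtain ⟨e, g', hg', h1⟩ := h.h1_aux hr hg u
  suffices e = 0 by rwa [h1, this, S.x_zero, mul_one]
  rcases E.three.eq_or_lt with h3 | h4
  · exact h.h1_three h3.symm hr hg hg' h1
  have A := h.amb
  obtain ⟨-, i1, -⟩ := E.radd_ip hr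
  obtain ⟨r', i2, i3⟩ := E.ex2' h4 i1
  obtain ⟨b', hb⟩ := E.exists_sub ((ip_comm _ _).trans i2)
  obtain ⟨d, hd⟩ := E.exists_sub ((ip_comm _ _).trans i3)
  have hd' : RAdd Φ b d b' := fun j => by have := hr j; have := hb j; have := hd j; omega
  have i4 : ip Φ d a = 0 := by have := hd.ip_left a; rw [ip_comm r] at this; omega
  have i5 : ip Φ b r' = 0 := by have := hr.ip_left r'; rw [ip_comm r, ip_comm a] at this; omega
  have i6 : ip Φ b' r = 0 := by have := hb.ip_left r; omega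
  have h2 := h.inT_exa (S.n_mem_grp d 1) (rf_mem d) (A.exa_n d) hg'
  rw [(E.rf_add hd).1] at h2
  have h3 : g * S.x b' u * g⁻¹ * (S.x b' u)⁻¹ = S.n d 1 * g' * (S.n d 1)⁻¹ * S.x a e := by
    rw [← E.rf_orth i4, ← A.exa_n d a, conj_mul, ← h1, ← (E.rf_add hd').1, ← A.exa_n d b, conj_cm',
      hg.1 _ (A.n_mem_Y i4 1), mul_inv_cancel_right]
  generalize S.n d 1 * g' * (S.n d 1)⁻¹ = g'' at h2 h3
  have h4 : S.x d 1 * g' * (S.x d 1)⁻¹ * S.x a e = g' * g'' * S.x r (u * e) := by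
    have e1 : S.x d 1 * S.x a e * (S.x d 1)⁻¹ = S.x a e := by rw [A.com i4.ge, mul_inv_cancel_right]
    rw [← e1, conj_mul, ← h1, conj_cm', ← (hg.com i4.ge 1).eq,
      mul_inv_cancel_right, A.conj_x hd'.symm, one_mul, show ∀ x y : G, g * (x * y) * g⁻¹ * (x * y)⁻¹ =
        g * x * g⁻¹ * x⁻¹ * (x * (g * y * g⁻¹ * y⁻¹) * x⁻¹) by intros; group, h1, h3, ← conj_mul (b := S.x b u),
      ← (h2.com i5.ge u).eq, mul_inv_cancel_right, A.conj_x hr.symm, ← mul_assoc g'',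
      (h2.com (by rw [ip_comm, i2]; norm_num) e).eq, mul_assoc, mul_assoc, ← mul_assoc (S.x a e), A.x_sq, one_mul,
      mul_assoc]
  have c1 : Commute (S.x d 1) (S.x b' 1) := A.com (by rw [(E.radd_ip hd').2.2]; norm_num) 1 1
  have c2 := hg'.com i6.ge 1
  have c3 : Commute (S.x a e) (S.x b' 1) := by
    rw [eq_inv_mul_of_mul_eq h4]
    exact ((c1.mul_left c2).mul_left c1.inv_left).inv_left.mul_left ((c2.mul_left
      (h2.com (by rw [(E.radd_ip hb).2.2]; norm_num) 1)).mul_left (A.com ((ip_comm _ _).trans i6).ge _ _))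
  rw [← mul_one e, ← A.x_eq_one, ← A.rel.cm a b' r' hb, c3.eq]
  group

theorem h1_sq {a b r : ι} (hr : RAdd Φ a b r) {c : F} {g : G} (hg : InT S t a c g) (u : F) :
    g * S.x b u * g⁻¹ * (S.x b u)⁻¹ * (g * S.x b u * g⁻¹ * (S.x b u)⁻¹) = 1 := by
  have e := ((h.h1 hr hg u).com (by rw [(E.radd_ip hr).2.2]; norm_num) u).eq
  rw [inv_mul_cancel_right] at e
  nth_rewrite 2 [← mul_inv_cancel_left (S.x b u)⁻¹ (g * S.x b u * g⁻¹ * (S.x b u)⁻¹)]
  rw [inv_inv, ← e, show ∀ x : G, g * x * g⁻¹ * x⁻¹ * (x⁻¹ * (g * x * g⁻¹)) = g * x * g⁻¹ * (x * x)⁻¹ * (g * x * g⁻¹) by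
    intro; group, h.amb.x_sq, inv_one, mul_one, conj_mul, h.amb.x_sq]
  group

end Mv

end CfsgLib.SLA
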