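import Mathlib
import Cfsg.Agent.Lib.SLA.Hat1a

/-!
# Hats form subgroups; their commutators
-/

set_option autoImplicit false
set_option linter.unusedSectionVars false
set_option maxHeartbeats 400000

namespace CfsgLib.SLA

open CfsgLib.RGD CfsgLib.Stein Subgroup
open scoped commutatorElement Pointwise

universe u

variable {ι κ : Type} [Fintype κ] [DecidableEq κ] [Finite ι] {Φ : RootSys ι κ} {E : ER Φ}
  {F : Type} [Field F] [Finite F] [CharP F 2] {G : Type u} [Group G] [Finite G]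
  {S : StSys Φ F G}

namespace Sit

variable {t k m : G} {r : ι} {c : F} (h : Sit E S t)
include h

theorem ne_t_mul {l l' : G} (hl : l ∈ S.grp) (hl' : l' ∈ S.grp) : l ≠ t * l' := fun e =>
  h.t_not_mem (by rw [eq_mul_inv_of_mul_eq e.symm]; exact mul_mem hl (inv_mem hl'))

theorem inT_t_mul (r : ι) (e : F) : InT S t r 0 (t * S.x r e) := by
  simpa using h.inT_mul (h.inT_CL r h.tC rfl) (h.inT_x r e)

theorem hat_of (hc : c ≠ 0) (h1 : InT S t r c m) (h2 : m * m = 1) : IsHat S t r m :=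
  ⟨h2, h1.1, ⟨c, h1.2⟩, fun e he => hc (h.inT_unique h1 (he ▸ h.inT_t_mul r e))⟩

theorem hat_mul_x (h1 : IsHat S t r m) (e : F) : IsHat S t r (m * S.x r e) := by
  obtain ⟨h2, h3, ⟨c, h4⟩, h5⟩ := h1
  have h6 := h.inT_mul ⟨h3, h4⟩ (h.inT_x r e)
  refine ⟨?_, h6.1, ⟨_, h6.2⟩, fun d hd => h5 (d + e) ?_⟩
  · rw [(InT.com_self ⟨h3, h4⟩ e).symm.mul_mul_mul_comm, h2, h.amb.x_sq, one_mul]
  · rw [S.x_add, ← mul_assoc, ← hd, mul_assoc, h.amb.x_sq, mul_one]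

theorem hat_x (r : ι) (e : F) : IsHat S t r (S.x r e) :=
  ⟨h.amb.x_sq r e, (h.inT_x r e).1, ⟨0, (h.inT_x r e).2⟩, fun _ => h.ne_t_mul (S.x_mem_grp _ _) (S.x_mem_grp _ _)⟩

/-- two involutions over the same value -/
theorem eq_mul_x (h2 : Two S) (k1 : InT S t r c k) (k2 : k * k = 1) (k3 : CO S t k) (m1 : InT S t r c m)
    (m2 : m * m = 1) : ∃ e, m = k * S.x r e ∨ (c = 0 ∧ m = k * (t * S.x r e)) := by
  obtain ⟨e, κ, hκ, κt, h1⟩ := h.inT_zero (CharTwo.add_self_eq_zero c ▸ h.inT_mul (h.inT_inv k1) m1)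
  obtain rfl := eq_mul_of_inv_mul_eq h1
  have sq : ∀ {o : G}, Odd (orderOf o) → o * o = 1 → o = 1 := fun ho e =>
    UFP.eq_one_of_odd (UFP.pgroup_zpowers_of_sq e) (mem_zpowers _) ho (pow_orderOf_eq_one _)
  have c1 := k1.com_self e
  rcases h.odd_or h2 hκ κt with ho | ho
  · have c2 : Commute k κ := k3 κ hκ κt ho
    have c3 : Commute (S.x r e) κ := hκ _ (S.x_mem_grp _ _)
    rw [(c1.mul_right c2).symm.mul_mul_mul_comm, c3.symm.mul_mul_mul_comm, k2, h.amb.x_sq, one_mul, one_mul] at m2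
    exact ⟨e, .inl (by rw [sq ho m2, mul_one])⟩
  · obtain ⟨o, rfl⟩ : ∃ o, κ = o * t := ⟨κ * t, by rw [mul_assoc, h.t2, mul_one]⟩
    rw [mul_assoc, h.t2, mul_one] at ho
    rw [mul_mem_cancel_right h.tC] at hκ
    have c4 : Commute o t := by rwa [← mul_assoc t, mul_left_inj] at κt
    have c2 : Commute k o := k3 o hκ c4 ho
    have c3 : Commute (S.x r e * o) (k * t) := (c1.symm.mul_right (h.com (S.x_mem_grp _ _))).mul_left
      (c2.symm.mul_right c4)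
    have c5 : Commute (S.x r e) o := hκ _ (S.x_mem_grp _ _)
    have e1 : k * (S.x r e * (o * t)) = S.x r e * o * (k * t) := by
      rw [← mul_assoc (S.x r e), ← mul_assoc, (c1.mul_right c2).eq, mul_assoc]
    have e2 : k * t * (k * t) = S.x r c := by
      rw [← mul_assoc, ← inv_eq_of_mul_eq_one_right k2, inv_eq_of_mul_eq_one_right k2]
      nth_rewrite 2 [← inv_eq_of_mul_eq_one_right k2]
      rw [k1.2, mul_assoc, h.com (S.x_mem_grp _ _), ← mul_assoc, h.t2, one_mul]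
    rw [e1, c3.symm.mul_mul_mul_comm, c5.symm.mul_mul_mul_comm, h.amb.x_sq, one_mul, e2] at m2
    have e3 : S.x r c = 1 := h.amb.eq_one (S.x_mem_grp _ _)
      (eq_inv_of_mul_eq_one_right m2 ▸ inv_mem (mul_mem hκ hκ)) (UFP.pgroup_zpowers_of_sq (h.amb.x_sq r c))
    rw [e3, mul_one] at m2
    exact ⟨e, .inr ⟨h.amb.x_eq_one.1 e3, by rw [sq ho m2, one_mul, h.com (S.x_mem_grp _ _)]⟩⟩

theorem hat_zero (h2 : Two S) (h1 : IsHat S t r m) (h3 : InT S t r 0 m) : ∃ e, m = S.x r e := by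
  obtain ⟨e, h4 | h4⟩ := h.eq_mul_x h2 (h.inT_CL r (one_mem _) (by simp)) (one_mul 1) (CO.of_mem (one_mem _)) h3 h1.1
  · exact ⟨e, by rw [h4, one_mul]⟩
  · exact absurd (by rw [h4.2, one_mul]) (h1.2.2.2 e)

end Sit

namespace Mv

variable {t : G} (h : Mv E S t)
include h

theorem exists_k {a b r : ι} (hr : RAdd Φ a b r) (c : F) : ∃ g, InT S t a c g ∧
    InT S t r c (g * S.x b 1 * g⁻¹ * (S.x b 1)⁻¹) ∧ CO S t (g * S.x b 1 * g⁻¹ * (S.x b 1)⁻¹) := by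
  obtain ⟨g, h1, h2⟩ := h.surj a c
  have h3 : CO S t (S.x b 1) := CO.of_mem (S.x_mem_grp _ _)
  exact ⟨g, h1, by simpa only [one_mul] using h.h1 hr h1 1, ((h2.mul h3).mul h2.inv).mul h3.inv⟩

theorem hat_mul {r : ι} {m m' : G} (h1 : IsHat S t r m) (h2 : IsHat S t r m') : IsHat S t r (m * m') := by
  obtain ⟨c, h3⟩ := h1.2.2.1
  obtain ⟨c', h4⟩ := h2.2.2.1
  have m1 : InT S t r c m := ⟨h1.2.1, h3⟩
  have m2 : InT S t r c' m' := ⟨h2.2.1, h4⟩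
  by_cases hc : c = 0
  · obtain ⟨e, rfl⟩ := h.hat_zero h.two h1 (hc ▸ m1)
    exact (m2.com_self e).eq ▸ h.hat_mul_x h2 e
  by_cases hc' : c' = 0
  · obtain ⟨e, rfl⟩ := h.hat_zero h.two h2 (hc' ▸ m2)
    exact h.hat_mul_x h1 e
  obtain ⟨a, b, hr⟩ := E.exists_radd r
  obtain ⟨g, g1, g2, g3⟩ := h.exists_k hr c
  obtain ⟨e, rfl | ⟨e0, -⟩⟩ := h.eq_mul_x h.two g2 (h.h1_sq hr g1 1) g3 m1 h1.1
  swap
  · exact absurd e0 hc
  by_cases hcc : c = c'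
  · obtain ⟨e', rfl | ⟨e0, -⟩⟩ := h.eq_mul_x h.two g2 (h.h1_sq hr g1 1) g3 (hcc ▸ m2) h2.1
    · rw [(g2.com_self e).symm.mul_mul_mul_comm, h.h1_sq hr g1, one_mul, ← S.x_add]
      exact h.hat_x r _
    · exact absurd e0 hc
  obtain ⟨g', g1', g2', g3'⟩ := h.exists_k hr c'
  obtain ⟨e', rfl | ⟨e0, -⟩⟩ := h.eq_mul_x h.two g2' (h.h1_sq hr g1' 1) g3' m2 h2.1
  swap
  · exact absurd e0 hc'
  have k1 := h.h1 hr (h.inT_mul g1' g1) 1
  have k2 := h.h1_sq hr (h.inT_mul g1' g1) 1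
  have k3 := h.inT_mul k1 (h.inT_inv g2')
  rw [one_mul, add_comm c', add_assoc, CharTwo.add_self_eq_zero, add_zero] at k3
  have k4 : g' * g * S.x b 1 * (g' * g)⁻¹ * (S.x b 1)⁻¹ * (g' * S.x b 1 * g'⁻¹ * (S.x b 1)⁻¹)⁻¹ =
      g' * (g * S.x b 1 * g⁻¹ * (S.x b 1)⁻¹) * g'⁻¹ := by group
  obtain ⟨e'', k5 | ⟨e0, -⟩⟩ := h.eq_mul_x h.two g2 (h.h1_sq hr g1 1) g3 k3
    (by rw [k4, conj_mul, h.h1_sq hr g1, mul_one, mul_inv_cancel])
  · rw [eq_mul_of_mul_inv_eq k5, mul_assoc _ (S.x r e''), ← (g2'.com_self e'').eq, ← mul_assoc _ _ (S.x r e'')] at k1 k2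
    have k6 := h.hat_mul_x (h.hat_of (by rwa [one_mul, Ne, CharTwo.add_eq_zero, eq_comm]) k1 k2) (e'' + (e + e'))
    rwa [mul_assoc, ← S.x_add, ← add_assoc, CharTwo.add_self_eq_zero, zero_add, S.x_add,
      ← (g2'.com_self e).symm.mul_mul_mul_comm] at k6
  · exact absurd e0 hc

theorem exists_hat (r : ι) (c : F) : ∃ k, InT S t r c k ∧ k * k = 1 ∧ CO S t k := by
  obtain ⟨a, b, hr⟩ := E.exists_radd r
  obtain ⟨g, g1, g2, g3⟩ := h.exists_k hr c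
  exact ⟨_, g2, h.h1_sq hr g1 1, g3⟩

end Mv

theorem Mv.hats {t : G} (h : Mv E S t) : ∃ Z, Hats E S t Z := by
  refine ⟨fun r => ⟨⟨⟨{b | IsHat S t r b}, h.hat_mul⟩, S.x_zero r ▸ h.hat_x r 0⟩, fun {b} hb =>
    (inv_eq_of_mul_eq_one_right hb.1).symm.subst (motive := IsHat S t r) hb⟩, h.toSit, h.two, fun _ _ => Iff.rfl,
    fun r c => ?_, fun r b hb e => ?_, fun r b hb => ?_, fun a b r hr g hg u => ?_⟩
  · by_cases hc : c = 0
    · exact ⟨_, h.hat_x r 0, hc ▸ (h.inT_x r 0).2⟩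
    · obtain ⟨k, k1, k2, -⟩ := h.exists_hat r c
      exact ⟨k, h.hat_of hc k1 k2, k1.2⟩
  · exact S.mem_X_iff.2 (h.hat_zero h.two hb (h.inT_of_com hb.2.1 e))
  · obtain ⟨c, h1⟩ := hb.2.2.1
    by_cases hc : c = 0
    · obtain ⟨e, rfl⟩ := h.hat_zero h.two hb ⟨hb.2.1, hc ▸ h1⟩
      exact CO.of_mem (S.x_mem_grp _ _)
    · obtain ⟨k, k1, k2, k3⟩ := h.exists_hat r c
      obtain ⟨e, rfl | ⟨e0, -⟩⟩ := h.eq_mul_x h.two k1 k2 k3 ⟨hb.2.1, h1⟩ hb.1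
      · exact k3.mul (CO.of_mem (S.x_mem_grp _ _))
      · exact absurd e0 hc
  · obtain ⟨c, h1⟩ := hg.2.2.1
    have k1 := h.h1 hr ⟨hg.2.1, h1⟩ u
    refine ⟨h.h1_sq hr ⟨hg.2.1, h1⟩ u, k1.1, ⟨_, k1.2⟩, fun e he => ?_⟩
    refine h.ne_t_mul ?_ (S.x_mem_grp _ _) he
    rcases mul_eq_zero.1 (h.inT_unique k1 (he ▸ h.inT_t_mul r e)) with rfl | rfl
    · simp [S.x_zero]
    · obtain ⟨d, rfl⟩ := h.hat_zero h.two hg ⟨hg.2.1, h1⟩
      exact mul_mem (mul_mem (mul_mem (S.x_mem_grp _ _) (S.x_mem_grp _ _)) (inv_mem (S.x_mem_grp _ _)))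
        (inv_mem (S.x_mem_grp _ _))

namespace Hats

variable {t : G} {Z : ι → Subgroup G} (h : Hats E S t Z)
include h

theorem sq {r : ι} {g : G} (hg : g ∈ Z r) : g * g = 1 := ((h.mem r g).1 hg).1

theorem cent {r : ι} {g : G} (hg : g ∈ Z r) : g ∈ centralizer (Y S r : Set G) :=
  ((h.mem r g).1 hg).2.1

theorem X_le (r : ι) : S.X r ≤ Z r := fun _ hx => by
  obtain ⟨e, rfl⟩ := S.mem_X_iff.1 hx
  exact (h.mem r _).2 (h.hat_x r e)

theorem inT {r : ι} {g : G} (hg : g ∈ Z r) : ∃ c, InT S t r c g :=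
  ((h.mem r g).1 hg).2.2.1.imp fun _ e => ⟨h.cent hg, e⟩

theorem mv : Mv E S t := ⟨h.toSit, h.two, (h.surj E.θ 1).elim fun g hg =>
  ⟨1, g, one_ne_zero, ⟨h.cent hg.1, hg.2⟩, h.co _ g hg.1⟩⟩

theorem com_x {r s : ι} (hs : 0 ≤ ip Φ s r) {g : G} (hg : g ∈ Z r) (c : F) :
    g * S.x s c = S.x s c * g := (h.cent hg _ (S.x_mem_UU hs c)).symm

theorem com_self {r : ι} {g g' : G} (hg : g ∈ Z r) (hg' : g' ∈ Z r) : g * g' = g' * g := by
  rw [← inv_eq_of_mul_eq_one_right (h.sq (mul_mem hg hg')), mul_inv_rev, inv_eq_of_mul_eq_one_right (h.sq hg),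
    inv_eq_of_mul_eq_one_right (h.sq hg')]

theorem exa {n : G} {w : Equiv.Perm ι} (hn : n ∈ S.grp) (hw : w ∈ Φ.W) (he : Exa S n w) {r : ι}
    {g : G} (hg : g ∈ Z r) : n * g * n⁻¹ ∈ Z (w r) := by
  obtain ⟨c, h1⟩ := h.inT hg
  have h2 := h.inT_exa hn hw he h1
  refine (h.mem _ _).2 ⟨by rw [conj_mul, h.sq hg, mul_one, mul_inv_cancel], h2.1, ⟨c, h2.2⟩, fun e h3 =>
    ((h.mem r g).1 hg).2.2.2 e ((MulAut.conj n).injective ?_)⟩
  rw [MulAut.conj_apply, MulAut.conj_apply, h3, ← conj_mul, he, h.com hn, mul_inv_cancel_right]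

theorem eq_one {r s : ι} (hrs : r ≠ s) {g : G} (h1 : g ∈ Z r) (h2 : g ∈ Z s) : g = 1 := by
  have k : ∀ {c d}, S.x r c = S.x s d → c = 0 := fun e => by_contra fun hc => hrs (h.amb.x_inj hc e).1
  obtain ⟨c, h3⟩ := h.inT h1
  obtain ⟨d, h4⟩ := h.inT h2
  have h5 := h.com_of_inT (k (mul_left_cancel (h3.2.symm.trans h4.2)) ▸ h3)
  obtain ⟨c, e⟩ := S.mem_X_iff.1 (h.ker r g h1 h5)
  obtain ⟨d, e'⟩ := S.mem_X_iff.1 (h.ker s g h2 h5)
  rw [e, k (e.symm.trans e'), S.x_zero]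

theorem card_Z (r : ι) : Nat.card (Z r) = Nat.card F ^ 2 := by
  choose f hf using fun g : Z r => h.inT g.2
  let φ : Z r →* Multiplicative F := MonoidHom.mk' (fun g => Multiplicative.ofAdd (f g)) fun a b =>
    congrArg Multiplicative.ofAdd (h.inT_unique (hf (a * b)) (h.inT_mul (hf a) (hf b)))
  have h1 : φ.range = ⊤ := MonoidHom.range_eq_top.2 fun c => by
    obtain ⟨b, hb, e⟩ := h.surj r c.toAdd
    exact ⟨⟨b, hb⟩, congrArg Multiplicative.ofAdd (h.inT_unique (hf ⟨b, hb⟩) ⟨h.cent hb, e⟩)⟩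
  have h2 : φ.ker = (S.X r).subgroupOf (Z r) := ext fun g => ⟨fun e => h.ker r g g.2
    (h.com_of_inT ((show f g = 0 from e) ▸ hf g)), fun e => by
      obtain ⟨c, e⟩ := S.mem_X_iff.1 e
      exact congrArg Multiplicative.ofAdd (h.inT_unique (hf g) ((show (g : G) = _ from e) ▸ h.inT_x r c))⟩
  have h3 : Nat.card F = Nat.card (S.X r) := Nat.card_congr (Equiv.ofBijective (fun c => ⟨_, S.x_mem_X r c⟩)
    ⟨fun _ _ e => h.amb.nd.x_injective r (congrArg Subtype.val e), fun x =>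
      (S.mem_X_iff.1 x.2).imp fun _ e => Subtype.ext e.symm⟩)
  rw [← card_mul_index φ.ker, index_ker, h1, card_top, h2, Nat.card_congr (subgroupOfEquivOfLe (h.X_le r)).toEquiv,
    ← h3, pow_two]
  rfl

/-- the action of a commutator on `t` -/
theorem cx_t {a b r : ι} (hr : RAdd Φ a b r) {g : G} (hg : g ∈ Z a) {c : F}
    (hc : g * t * g⁻¹ = t * S.x a c) (u : F) :
    g * S.x b u * g⁻¹ * (S.x b u)⁻¹ * t * (g * S.x b u * g⁻¹ * (S.x b u)⁻¹)⁻¹ = t * S.x r (u * c) :=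
  (h.mv.h1 hr ⟨h.cent hg, hc⟩ u).2

end Hats

end CfsgLib.SLA
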