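import Mathlib
import Cfsg.Agent.Lib.SLA.Aut
import Cfsg.Agent.Lib.SLA.NG
import Cfsg.Agent.Lib.SLA.Pfc

/-!
# The group generated by the hats; odd subgroups normalised by `t` and `U`
-/

set_option autoImplicit false

namespace CfsgLib.SLA

open CfsgLib.RGD CfsgLib.Stein CfsgLib.UFP Subgroup
open scoped commutatorElement Pointwise

universe u

variable {ι κ : Type} [Fintype κ] [DecidableEq κ] [Finite ι] {Φ : RootSys ι κ} {E : ER Φ}
  {F : Type} [Field F] [Finite F] [CharP F 2] {G : Type u} [Group G] [Finite G]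
  {S : StSys Φ F G} {t : G} {Z : ι → Subgroup G}

theorem norm_iSup {α : Type*} {Z : α → Subgroup G} {g : G}
    (h : ∀ r, ∀ b ∈ Z r, g * b * g⁻¹ ∈ ⨆ r, Z r) :
    g ∈ normalizer ((⨆ r, Z r : Subgroup G) : Set G) := by
  rw [iSup_eq_closure] at h ⊢
  exact norm_closure fun x hx => by
    obtain ⟨r, hr⟩ := Set.mem_iUnion.1 hx
    exact h r x hr

theorem norm_cent {K : Subgroup G} {g : G} (hg : g ∈ normalizer (K : Set G)) :
    g ∈ normalizer ((centralizer (K : Set G) : Subgroup G) : Set G) :=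
  mem_normalizer_fintype fun _ hx => conj_cent hg hx

/-- a four-group of long root elements centralises the odd subgroups which it normalises -/
theorem Amb.cent_of_odd (A : Amb E S) {r r' : ι} (h : ip Φ r r' = 1) {c : F} (hc : c ≠ 0)
    {V : Subgroup G} (hV : Odd (Nat.card V)) (h1 : V ≤ NL S)
    (h2 : S.x r c ∈ normalizer (V : Set G)) (h3 : S.x r' 1 ∈ normalizer (V : Set G)) :
    V ≤ centralizer {S.x r c} := by
  obtain ⟨b, hb⟩ := E.exists_sub h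
  have key : ∀ v ∈ V, ∀ x ∈ normalizer (V : Set G), ∀ g s,
      g⁻¹ * (v * x * v⁻¹ * x⁻¹) * g ∈ Q S s → x * v = v * x := fun v hv x hx g s hq => by
    have e1 : v * x * v⁻¹ * x⁻¹ ∈ V := by
      have := V.mul_mem hv (conj_mem hx (V.inv_mem hv))
      rwa [← mul_assoc, ← mul_assoc] at this
    have e2 := eq_one_of_odd (A.pg_Q s) hq (odd_orderOf hV e1) (by
      rw [show g⁻¹ * (v * x * v⁻¹ * x⁻¹) * g = g⁻¹ * (v * x * v⁻¹ * x⁻¹) * g⁻¹⁻¹ by group,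
        conj_pow, pow_orderOf_eq_one]; group)
    have e3 : v * x * v⁻¹ * x⁻¹ = 1 := by simpa [mul_eq_one_iff_eq_inv] using e2
    rw [mul_inv_eq_one, mul_inv_eq_iff_eq_mul] at e3
    exact e3.symm
  have hne : S.x r c * S.x r' 1 ≠ 1 := fun e => by
    rw [mul_eq_one_iff_eq_inv, A.x_inv] at e
    have := (A.x_inj hc e).1
    rw [this, E.ip_self] at h; omega
  refine le_of_four hV (A.x_sq r c) (A.x_sq r' 1) (A.com (by omega) _ _)
    (fun e => hc (A.x_eq_one.1 e)) (fun e => one_ne_zero (A.x_eq_one.1 e)) hne h2 h3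
    inf_le_right ?_ ?_
  · rintro v ⟨hv, hv'⟩
    have hq := (A.norm_of_cent_x (h1 hv) one_ne_zero (mem_cent1.1 hv').symm).2.1
    have hx : S.x r c ∈ Q S r' := S.x_mem_UU (show 1 ≤ ip Φ r r' by omega) c
    refine mem_cent1.2 (key v hv _ h2 1 r' ?_)
    simpa using (Q S r').mul_mem (conj_mem hq hx) ((Q S r').inv_mem hx)
  · rintro v ⟨hv, hv'⟩
    have e := A.conj_x hb.symm c⁻¹ c
    rw [inv_mul_cancel₀ hc] at e
    have hv2 := mem_cent1.1 hv'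
    have hg : S.x b c⁻¹ ∈ NL S := le_normalizer (S.x_mem_grp _ _)
    have hc' : (S.x b c⁻¹)⁻¹ * v * S.x b c⁻¹ * S.x r c = S.x r c * ((S.x b c⁻¹)⁻¹ * v * S.x b c⁻¹) := by
      rw [← e] at hv2
      calc _ = (S.x b c⁻¹)⁻¹ * (v * (S.x b c⁻¹ * S.x r c * (S.x b c⁻¹)⁻¹)) * S.x b c⁻¹ := by group
        _ = _ := by rw [← hv2]; group
    have hq := (A.norm_of_cent_x (mul_mem (mul_mem (inv_mem hg) (h1 hv)) hg) hc hc').2.1
    have hx : S.x r' 1 ∈ Q S r := S.x_mem_UU (show 1 ≤ ip Φ r' r by rw [ip_comm]; omega) 1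
    have h4 := (Q S r).mul_mem (conj_mem hq hx) ((Q S r).inv_mem hx)
    have h5 : S.x b c⁻¹ * S.x r' 1 = S.x r' 1 * S.x b c⁻¹ :=
      A.com (by have := (E.radd_ip hb).2.2; omega) _ _
    have h6 := key v hv _ h3 (S.x b c⁻¹) r (by
      have e1 : (S.x b c⁻¹)⁻¹ * v * S.x b c⁻¹ * S.x r' 1 * ((S.x b c⁻¹)⁻¹ * v * S.x b c⁻¹)⁻¹ *
          (S.x r' 1)⁻¹ = (S.x b c⁻¹)⁻¹ * (v * (S.x b c⁻¹ * S.x r' 1 * (S.x b c⁻¹)⁻¹) * v⁻¹ *
          (S.x b c⁻¹ * S.x r' 1 * (S.x b c⁻¹)⁻¹)⁻¹) * S.x b c⁻¹ := by group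
      rwa [e1, h5, mul_inv_cancel_right] at h4)
    refine mem_cent1.2 (mul_right_cancel (b := S.x r' 1) ?_)
    rw [mul_assoc, ← h6, ← mul_assoc, hv2, mul_assoc]

namespace Hats

variable (d : Hats E S t Z)
include d

theorem x_mem (r : ι) (c : F) : S.x r c ∈ Z r :=
  (d.mem r _).2 ⟨d.amb.x_sq r c, mem_cent.2 fun y hy =>
    (mem_cent.1 (d.amb.Y_le_cent r hy) _ (S.x_mem_X r c)).symm,
    ⟨0, by rw [d.toSit.com (S.x_mem_grp r c), S.x_zero]; group⟩, fun e he => d.toSit.t_not_mem (by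
      rw [← mul_inv_eq_iff_eq_mul] at he
      exact he ▸ mul_mem (S.x_mem_grp _ _) (inv_mem (S.x_mem_grp _ _)))⟩

theorem L_le : S.grp ≤ ⨆ r, Z r := S.UU_le_iff.2 fun r _ c => le_iSup Z r (d.x_mem r c)

theorem conj_mem {g : G} (hg : g * t = t * g) {r s : ι} {e : F}
    (h : g * S.x r 1 * g⁻¹ = S.x s e) {b : G} (hb : b ∈ Z r) : g * b * g⁻¹ ∈ Z s := by
  have hN : g ∈ NL S := d.CN (mem_cent1.2 hg.symm)
  have he : e ≠ 0 := fun h0 => by
    rw [h0, S.x_zero] at h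
    exact one_ne_zero (d.amb.x_eq_one.1 (by simpa [mul_eq_one_iff_eq_inv] using h))
  obtain ⟨h1, -, -⟩ := d.amb.norm_of_conj_x hN one_ne_zero h
  obtain ⟨h2, -, h3⟩ := d.amb.norm_of_conj_x (inv_mem hN) he (s := r) (e := 1) (by rw [← h]; group)
  obtain ⟨b1, b2, ⟨c, b3⟩, b4⟩ := (d.mem r b).1 hb
  have ht : g * t * g⁻¹ = t := by rw [hg]; group
  refine (d.mem s _).2 ⟨by rw [show g * b * g⁻¹ * (g * b * g⁻¹) = g * (b * b) * g⁻¹ by group, b1]; group,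
    mem_cent.2 fun y hy => ?_, ?_, fun c' hc' => ?_⟩
  · have := mem_cent.1 b2 _ (h3 y hy)
    calc _ = g * (g⁻¹ * y * g⁻¹⁻¹ * b) * g⁻¹ := by group
      _ = _ := by rw [this]; group
  · obtain ⟨c', hc'⟩ := S.mem_X_iff.1 (h1 _ (S.x_mem_X r c))
    refine ⟨c', ?_⟩
    calc _ = g * b * g⁻¹ * (g * t * g⁻¹) * (g * b * g⁻¹)⁻¹ := by rw [ht]
      _ = g * (b * t * b⁻¹) * g⁻¹ := by group
      _ = g * t * g⁻¹ * (g * S.x r c * g⁻¹) := by rw [b3]; group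
      _ = _ := by rw [ht, hc']
  · obtain ⟨c'', h4⟩ := S.mem_X_iff.1 (h2 _ (S.x_mem_X s c'))
    refine b4 c'' ?_
    rw [← h4]
    calc b = g⁻¹ * (g * b * g⁻¹) * g := by group
      _ = g⁻¹ * (g * t * g⁻¹ * S.x s c') * g := by rw [hc', ht]
      _ = _ := by group

theorem cent_le : centralizer {t} ≤ normalizer ((⨆ r, Z r : Subgroup G) : Set G) := fun g hg => by
  obtain ⟨π, σ, -, l, hl, dd, -, hd⟩ := d.amb.aut g (d.CN hg)
  have h1 : l * g * t = t * (l * g) := by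
    rw [mul_assoc, ← mem_cent1.1 hg, ← mul_assoc, d.toSit.com hl, mul_assoc]
  have h2 : l * g ∈ normalizer ((⨆ r, Z r : Subgroup G) : Set G) :=
    norm_iSup fun r b hb => le_iSup Z _ (d.conj_mem h1 (hd r 1) hb)
  exact (Subgroup.mul_mem_cancel_left _ (le_normalizer (d.L_le hl))).1 h2

theorem t_mem : t ∈ normalizer ((⨆ r, Z r : Subgroup G) : Set G) := d.cent_le (mem_cent1.2 rfl)

theorem G0_le : ⨆ r, Z r ≤ S.grp ⊔ Z E.θ := iSup_le fun r b hb => by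
  obtain ⟨l, hl, h, -⟩ := d.amb.exists_conj_x r (one_ne_zero (α := F))
  have hl' := S.N_le_grp hl
  have := d.conj_mem (g := l⁻¹) (d.toSit.com (inv_mem hl')) (r := r) (s := E.θ) (e := 1)
    (by rw [← h]; group) hb
  rw [show b = l * (l⁻¹ * b * l⁻¹⁻¹) * l⁻¹ by group]
  exact mul_mem (mul_mem (mem_sup_left hl') (mem_sup_right this)) (mem_sup_left (inv_mem hl'))

theorem odd_W : Odd (Nat.card (centralizer ((⨆ r, Z r : Subgroup G) : Set G))) := by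
  refine odd_of_inv d.t2 (norm_cent d.t_mem) fun c hc c2 ct => ?_
  refine (d.toSit.eq_t (centralizer_le d.L_le hc) c2 ct).resolve_right fun e => ?_
  obtain ⟨b, hb, h⟩ := d.surj E.θ 1
  rw [e] at hc
  rw [mem_cent.1 hc b (le_iSup Z _ hb), mul_inv_cancel_right, left_eq_mul] at h
  exact one_ne_zero (d.amb.x_eq_one.1 h)

theorem hat {r : ι} (hr : Φ.Pos r) {c : F} (hc : c ≠ 0) : Hat t S.U (S.x r c) := by
  obtain ⟨r', hr', h⟩ := E.pos1 hr
  obtain ⟨y, hy, e⟩ := d.surj r c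
  have hy' := ((d.mem r y).1 hy).2.1
  refine ⟨y, closure {S.x r c, S.x r' 1}, e.symm, subset_closure (Or.inl rfl), (closure_le _).2 ?_,
    (closure_le _).2 ?_, fun V hV h1 h2 => d.amb.cent_of_odd h hc hV (h1.trans d.CN)
      (h2 (subset_closure (Or.inl rfl))) (h2 (subset_closure (Or.inr rfl)))⟩
  · rintro _ (rfl | rfl)
    exacts [S.x_mem_U hr _, S.x_mem_U hr' _]
  · rintro _ (rfl | rfl)
    · exact mem_cent1.2 (mem_cent.1 hy' _
        (S.x_mem_UU (show 0 ≤ ip Φ r r by rw [E.ip_self]; omega) _)).symm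
    · exact mem_cent1.2 (mem_cent.1 hy' _
        (S.x_mem_UU (show 0 ≤ ip Φ r' r by rw [ip_comm]; omega) _)).symm

theorem iso {R : Subgroup G} {G1 : Subgroup G}
    (h : ∀ m ∈ G1, m ∈ centralizer (R : Set G) → ∃ e ∈ R,
      ∃ k ∈ centralizer ((⨆ r, Z r : Subgroup G) : Set G), m * t * m⁻¹ = k * (t * e)) :
    Iso G1 t R := fun m hm hc P hP h1 h2 h3 => by
  obtain ⟨e, he, k, hk, h4⟩ := h m hm hc
  have h5 : k = 1 := eq_one_of_odd' hP d.odd_W (by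
    rw [h4] at h3; exact (P.mul_mem_cancel_right (P.mul_mem h2 (h1 he))).1 h3) hk
  rw [h4, h5, one_mul, inv_mul_cancel_left]
  exact he

/-- **UW** -/
theorem uw (h : U (normalizer ((⨆ r, Z r : Subgroup G) : Set G)) t)
    (hQ : ∀ m ∈ normalizer ((⨆ r, Z r : Subgroup G) : Set G),
      (∀ r, 1 ≤ ip Φ r E.θ → ∀ c, m * S.x r c = S.x r c * m) → ∃ u ∈ Z E.θ,
      ∃ k ∈ centralizer ((⨆ r, Z r : Subgroup G) : Set G), m * t * m⁻¹ = k * (u * t * u⁻¹))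
    (hR : ∀ m ∈ normalizer ((⨆ r, Z r : Subgroup G) : Set G),
      (∀ r, Φ.Pos r → r ≠ E.α → ∀ c, m * S.x r c = S.x r c * m) → ∃ u ∈ Z E.θ, ∃ v ∈ Z E.β,
      ∃ k ∈ centralizer ((⨆ r, Z r : Subgroup G) : Set G),
        m * t * m⁻¹ = k * (u * v * t * (u * v)⁻¹))
    (hR' : ∀ m ∈ normalizer ((⨆ r, Z r : Subgroup G) : Set G),
      (∀ r, Φ.Pos r → r ≠ E.α' → ∀ c, m * S.x r c = S.x r c * m) → ∃ u ∈ Z E.θ, ∃ v ∈ Z E.β',
      ∃ k ∈ centralizer ((⨆ r, Z r : Subgroup G) : Set G),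
        m * t * m⁻¹ = k * (u * v * t * (u * v)⁻¹))
    (hS : ∀ z ∈ Z E.θ, ∃ g ∈ ⨆ r, Z r, ∃ l ∈ S.grp, z = g * l * g⁻¹ * l⁻¹) :
    UW (normalizer ((⨆ r, Z r : Subgroup G) : Set G)) t S.U := by
  have A := d.amb
  have hX : ∀ r, Φ.Pos r → ∀ c, S.x r c ∈
      closure {x | ∃ r, Φ.Pos r ∧ ∃ c, c ≠ 0 ∧ x = S.x r c} := fun r hr c => by
    by_cases hc : c = 0
    · rw [hc, S.x_zero]; exact one_mem _
    · exact subset_closure ⟨r, hr, c, hc, rfl⟩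
  obtain ⟨J, hJ⟩ : ∃ J : Bool → κ, J = fun i => cond i E.i₀ E.i₁ := ⟨_, rfl⟩
  obtain ⟨b, hb⟩ : ∃ b : Bool → ι, b = fun i => cond i E.β E.β' := ⟨_, rfl⟩
  have hRU : ∀ i : Option Bool,
      (i.elim (Q S E.θ) fun j => S.UU ({r | Φ.Pos r} \ {Φ.simple (J j)})) ≤ S.U := by
    rintro (_ | j)
    exacts [A.Q_le_U, S.UU_mono Set.sdiff_subset]
  have hθ : ip Φ E.θ E.θ = 2 := E.ip_self _
  have hθα : ∀ j, E.θ ≠ Φ.simple (J j) := fun j e => by
    have := E.top (J j)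
    rw [← e, hθ] at this
    split_ifs at this <;> omega
  have hβα : ∀ j, b j ≠ Φ.simple (J j) ∧ Φ.Pos (b j) := fun j => by
    subst hJ hb
    cases j
    · exact ⟨fun e : E.β' = E.α' => by have := E.ip_α'β'; rw [e, E.ip_self] at this; omega, E.pos_β'⟩
    · exact ⟨fun e : E.β = E.α => by have := E.ip_αβ; rw [e, E.ip_self] at this; omega, E.pos_β⟩
  have hRR : ∀ j, ∀ m ∈ normalizer ((⨆ r, Z r : Subgroup G) : Set G),
      (∀ r, Φ.Pos r → r ≠ Φ.simple (J j) → ∀ c, m * S.x r c = S.x r c * m) → ∃ u ∈ Z E.θ, ∃ v ∈ Z (b j),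
      ∃ k ∈ centralizer ((⨆ r, Z r : Subgroup G) : Set G),
        m * t * m⁻¹ = k * (u * v * t * (u * v)⁻¹) := fun j => by
    subst hJ hb
    cases j
    exacts [hR', hR]
  refine UWData.uw (L := S.grp) (Zh := Z E.θ) (X := {x | ∃ r, Φ.Pos r ∧ ∃ c, c ≠ 0 ∧ x = S.x r c})
    (R := fun i : Option Bool =>
      i.elim (Q S E.θ) fun j => S.UU ({r | Φ.Pos r} \ {Φ.simple (J j)}))
    (P := fun i : Option Bool =>
      i.elim (Y S E.θ) fun j => S.UU {r | Φ.Pos r ∨ r = Φ.neg (Φ.simple (J j))}) ⟨⟨none⟩, ?_,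
      fun l hl => mem_cent1.2 (d.toSit.com hl).symm, ?_, ?_, ?_, fun K hK h1 => ?_, fun i => ?_,
      fun i => A.pg_U.to_le (hRU i), ?_, fun i hi => d.toSit.t_not_mem (S.U_le_grp (hRU i hi)), ?_,
      fun i z hz => centralizer_le ((hRU i).trans A.U_le_Y) ((d.mem _ z).1 hz).2.1,
      fun z hz => ?_, fin_of (fun K hK h1 z hz => ?_) ?_⟩ h
  · rintro _ ⟨r, hr, c, hc, rfl⟩; exact d.hat hr hc
  · rintro (_ | _)
    exacts [A.U_le_Y, S.UU_mono fun _ hr => Or.inl hr]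
  · rintro (_ | _) <;> exact S.UU_le_grp _
  · have e := S.UU_simple_eq Set.univ
    rw [show {r | Φ.InSub Set.univ r} = Set.univ from Set.eq_univ_of_forall Φ.inSub_univ] at e
    rw [StSys.grp, ← e]
    refine S.UU_le_iff.2 ?_
    rintro r ⟨i, -, rfl | rfl⟩ c
    · exact mem_iSup_of_mem (some true) (S.x_mem_UU (Or.inl (Φ.pos_simple i)) c)
    · by_cases hi : i = E.i₀
      · exact mem_iSup_of_mem (some true) (S.x_mem_UU (Or.inr (by rw [hi, hJ]; rfl)) c)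
      by_cases hi' : i = E.i₁
      · exact mem_iSup_of_mem (some false) (S.x_mem_UU (Or.inr (by rw [hi', hJ]; rfl)) c)
      · refine mem_iSup_of_mem none (S.x_mem_UU ?_ c)
        show 0 ≤ ip Φ _ _
        rw [ip_neg_left, E.top, if_neg (not_or.2 ⟨hi, hi'⟩)]; rfl
  · refine S.grp_le_of_simple (fun g hg k hk => UFP.conj_mem (hK hg) hk) fun i c => ?_
    exact (closure_le K).2 h1 (hX _ (Φ.pos_simple i) c)
  · exact (hRU i).trans (S.UU_le_iff.2 hX)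
  · rintro (_ | j)
    · exact A.Y_norm_Q _
    · have e : S.UU ({r | Φ.Pos r} \ {Φ.simple (J j)}) = S.UJ {J j} := by
        rw [StSys.pos_diff_simple_eq]; rfl
      show _ ≤ normalizer (S.UU ({r | Φ.Pos r} \ {Φ.simple (J j)}) : Set G)
      rw [e]
      refine le_trans (S.UU_le_iff.2 ?_) (S.P_le_normalizer_UJ _)
      rintro r (hr | rfl) c
      · exact StSys.B_le_P (S := S) {J j} (S.x_mem_B hr c)
      · exact StSys.x_mem_P (S := S) (J := {J j})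
          (Φ.inSub_neg_iff.2 ((Φ.inSub_simple_iff (i := J j)).2 rfl)) c
  · rintro (_ | j)
    · refine d.iso fun m hm hc => ?_
      obtain ⟨u, hu, k, hk, e⟩ := hQ m hm fun r hr c => (mem_cent_UU.1 hc r hr c).symm
      obtain ⟨c, hc⟩ := ((d.mem _ u).1 hu).2.2.1
      exact ⟨S.x E.θ c, S.x_mem_UU (show 1 ≤ ip Φ E.θ E.θ by omega) c, k, hk, by rw [e, hc]⟩
    · refine d.iso fun m hm hc => ?_
      obtain ⟨u, hu, v, hv, k, hk, e⟩ := hRR j m hm fun r hr h' c =>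
        (mem_cent_UU.1 hc r ⟨hr, h'⟩ c).symm
      obtain ⟨-, hu1, ⟨c, hc⟩, -⟩ := (d.mem _ u).1 hu
      obtain ⟨c', hc'⟩ := ((d.mem _ v).1 hv).2.2.1
      refine ⟨S.x E.θ c * S.x (b j) c', mul_mem
        (S.x_mem_UU (Ψ := {r | Φ.Pos r} \ {Φ.simple (J j)}) ⟨E.pos_θ, hθα j⟩ _)
        (S.x_mem_UU (Ψ := {r | Φ.Pos r} \ {Φ.simple (J j)}) ⟨(hβα j).2, (hβα j).1⟩ _), k, hk, ?_⟩
      have := mem_cent.1 hu1 _ (A.U_le_Y (S.x_mem_U (hβα j).2 c'))
      rw [e, show u * v * t * (u * v)⁻¹ = u * (v * t * v⁻¹) * u⁻¹ by group, hc',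
        show u * (t * S.x (b j) c') * u⁻¹ = u * t * u⁻¹ * (u * S.x (b j) c') * u⁻¹ by group, hc, ← this]
      group
  · obtain ⟨c, hc⟩ := ((d.mem _ z).1 hz).2.2.1
    rw [hc, inv_mul_cancel_left]
    exact hX _ E.pos_θ c
  · obtain ⟨g, hg, l, hl, rfl⟩ := hS z hz
    exact K.mul_mem (UFP.conj_mem (hK (d.G0_le hg)) (h1 hl)) (K.inv_mem (h1 hl))
  · exact (centralizer_le d.G0_le).trans (centralizer_le_normalizer _)

end Hats

end CfsgLib.SLA
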