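import Mathlib
import Cfsg.Agent.Lib.SLA.MHom
import Cfsg.Agent.Lib.ClAut.PSL

/-!
# The matrix model: automorphisms
-/

set_option autoImplicit false
set_option linter.unusedSectionVars false
set_option linter.unusedVariables false

namespace CfsgLib.SLA

open CfsgLib.RGD CfsgLib.Stein Subgroup
open scoped commutatorElement Pointwise

universe u

variable {ι κ : Type} [Fintype κ] [DecidableEq κ] [Finite ι] {Φ : RootSys ι κ} {E : ER Φ}
  {F : Type} [Field F] [Finite F] [CharP F 2] {G : Type u} [Group G] [Finite G]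
  {S : StSys Φ F G}

open Matrix CfsgLib.ClSys CfsgLib.ClAut

section psl

variable {m : ℕ}

theorem exists_mono (M : GL (Fin m) F) (π : Equiv.Perm (Fin m)) (i : Fin m) :
    ∃ s D l, M = slGL _ F s * D ∧ IsMono D.1 π l ∧ ∀ j, l j ≠ 0 := by
  have h0 : M.1.det ≠ 0 := M.det_ne_zero
  let l : Fin m → F := Function.update 1 i M.1.det
  have h1 : ((π⁻¹).permMatrix F * diagonal l).det = M.1.det := by
    rw [det_mul, det_permutation, det_diagonal, Finset.prod_update_of_mem (Finset.mem_univ _)]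
    rcases Int.units_eq_one_or (Equiv.Perm.sign π⁻¹) with h | h <;> simp [h, CharTwo.neg_eq]
  let D := GeneralLinearGroup.mkOfDetNeZero _ (h1 ▸ h0 : ((π⁻¹).permMatrix F * diagonal l).det ≠ 0)
  obtain ⟨s, hs⟩ : M * D⁻¹ ∈ (slGL _ F).range := by
    rw [mem_range_slGL, Units.val_mul, det_mul, mul_comm, ← h1]
    exact det_coe_inv_mul D
  refine ⟨s, D, l, by rw [hs, inv_mul_cancel_right], fun a b => ?_, fun j => ?_⟩
  · show ((π⁻¹).permMatrix F * diagonal l) a b = _
    simp [mul_diagonal, PEquiv.toMatrix_apply, Equiv.toPEquiv_apply, Equiv.symm_apply_eq]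
  · by_cases h : j = i <;> simp [l, h, h0]

theorem pslConj_tv {D : GL (Fin m) F} {π : Equiv.Perm (Fin m)} {l : Fin m → F} (h : IsMono D.1 π l)
    (hl : ∀ j, l j ≠ 0) {i j : Fin m} (hij : i ≠ j) (c : F) :
    pslConj _ F D (QuotientGroup.mk (Matrix.SpecialLinearGroup.transvection hij c)) = QuotientGroup.mk
      (Matrix.SpecialLinearGroup.transvection (π.injective.ne hij) (l i * (l j)⁻¹ * c)) :=
  indAut_mk _ slGL_injective _ (eq_mul_inv_of_mul_eq (Units.ext (by
    simp only [Units.val_mul, coe_slGL, Matrix.SpecialLinearGroup.transvection_coe, mul_add, add_mul, mul_one,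
      one_mul, h.mul_single (hl j)])))

theorem pslField_tv (σ : F ≃+* F) {i j : Fin m} (hij : i ≠ j) (c : F) :
    pslField _ F σ (QuotientGroup.mk (Matrix.SpecialLinearGroup.transvection hij c)) = QuotientGroup.mk
      (Matrix.SpecialLinearGroup.transvection hij (σ c)) :=
  indAut_mk _ slGL_injective _ (Units.ext (by
    show (1 : Matrix _ _ F) + single i j (σ c) = ((1 : Matrix _ _ F) + single i j c).map σ
    ext k l
    simp [one_apply, single_apply, apply_ite σ]))

theorem pslInvT_tv {i j : Fin m} (hij : i ≠ j) (c : F) :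
    pslInvT _ F (QuotientGroup.mk (Matrix.SpecialLinearGroup.transvection hij c)) = QuotientGroup.mk
      (Matrix.SpecialLinearGroup.transvection hij.symm c) :=
  indAut_mk _ slGL_injective _ (Units.ext (by
    show _ = (glInvT _ F (slGL _ F _)).1
    rw [coe_glInvT, ← map_inv, Matrix.SpecialLinearGroup.transvection_inv, coe_slGL, coe_slGL,
      Matrix.SpecialLinearGroup.transvection_coe, Matrix.SpecialLinearGroup.transvection_coe, transpose_add,
      transpose_one, transpose_single, CharTwo.neg_eq]))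

end psl

theorem Cov.aut {φ : Matrix.SpecialLinearGroup (Fin E.m) F →* G} (C : Cov E S.x φ) (rel : Rel Φ S.x)
    {g : G} (hg : g ∈ NL S) : ∃ π σ, (π = 1 ∨ π = E.γ) ∧ Typ S g π σ := by
  obtain ⟨θ, h1, h2, h3⟩ := C.exists_psl
  let ψ := S.grp.normalizerMonoidHom ⟨g, hg⟩
  let β₀ := θ.liftOfSurjective h1 ⟨θ.comp ψ.toMonoidHom, fun x hx => (h3 _).2 fun y hy => by
    have := (h3 x).1 hx _ ((mem_normalizer_iff''.1 hg y).1 hy)
    show y * (g * x * g⁻¹) = g * x * g⁻¹ * y
    rw [mul_assoc g, mul_assoc g, mul_assoc x.1, ← mul_inv_cancel_right (g⁻¹ * y) g, ← mul_assoc x.1, ← this]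
    group⟩
  have h4 : ∀ x, β₀ (θ x) = θ (ψ x) := fun x => MonoidHom.liftOfRightInverse_comp_apply ..
  have h5 : Function.Surjective β₀ := fun y => by
    obtain ⟨x, rfl⟩ := (h1.comp ψ.surjective) y
    exact ⟨_, h4 x⟩
  let β := MulEquiv.ofBijective β₀ (Finite.surjective_iff_bijective.1 h5)
  have sq : ∀ r c, S.x r c * S.x r c = 1 := fun r c => by
    rw [← rel.add, CharTwo.add_self_eq_zero, S.x_zero]
  have key : ∀ (π : Equiv.Perm ι) (d : ι → F) (σ : F ≃+* F) s, (∀ r, d r * d (Φ.neg r) = 1) →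
      (∀ r c, β (QuotientGroup.mk (E.tv F r c)) =
        MulAut.conj (QuotientGroup.mk s) (QuotientGroup.mk (E.tv F (π r) (d r * σ c)))) → Typ S g π σ := by
    intro π d σ s hd h
    refine ⟨(φ s)⁻¹, inv_mem (C.mem_grp s), d, hd, fun r c => ?_⟩
    let a : S.grp := ⟨_, C.mem_grp s⟩⁻¹ * ψ ⟨_, C.mem_grp (E.tv F r c)⟩ * ⟨_, C.mem_grp s⟩
    have ha : (φ s)⁻¹ * g * S.x r c * ((φ s)⁻¹ * g)⁻¹ = a := by
      show _ = (φ s)⁻¹ * (g * φ _ * g⁻¹) * φ s
      rw [C.tv]; group
    refine C.eq_of_sq (ha ▸ a.2) (S.x_mem_grp _ _) (by rw [conj_mul, sq, mul_one, mul_inv_cancel]) (sq _ _) ?_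
    rw [ha, ← C.tv]
    refine (h3 (a⁻¹ * ⟨_, C.mem_grp _⟩)).1 ?_
    rw [map_mul, map_inv, map_mul, map_mul, map_inv, ← h4, h2, h2, h2]
    erw [h r c]
    simp [mul_assoc]
  obtain ⟨M, σ, h | h⟩ := psl_aut (by simpa using E.three.trans' (by decide)) β
  · obtain ⟨s, D, l, rfl, hD, hl⟩ := exists_mono M 1 ⟨0, E.three.trans_lt' (by decide)⟩
    refine ⟨1, σ, .inl rfl, key 1 (fun r => l ⟨_, E.lo_lt r⟩ * (l ⟨_, E.hi_lt r⟩)⁻¹) σ s (fun r => ?_) fun r c => ?_⟩
    · simp only [E.lo_neg, E.hi_neg]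
      field_simp [hl]
    · rw [h, map_mul, pslConj_slGL, MulAut.mul_apply, MulAut.mul_apply, ER.tv, pslField_tv, pslConj_tv hD hl]
      rfl
  · obtain ⟨s, D, l, rfl, hD, hl⟩ := exists_mono M Fin.revPerm ⟨0, E.three.trans_lt' (by decide)⟩
    refine ⟨E.γ, σ, .inr rfl,
      key E.γ (fun r => l ⟨_, E.hi_lt r⟩ * (l ⟨_, E.lo_lt r⟩)⁻¹) σ s (fun r => ?_) fun r c => ?_⟩
    · simp only [E.lo_neg, E.hi_neg]
      field_simp [hl]
    · rw [h, map_mul, pslConj_slGL, MulAut.mul_apply, MulAut.mul_apply, MulAut.mul_apply, ER.tv, pslInvT_tv,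
        pslField_tv, pslConj_tv hD hl, E.tv_eq (r := E.γ r)]
      · have := E.lo_γ r
        simp only [Fin.revPerm_apply, Fin.val_rev]; omega
      · have := E.hi_γ r
        simp only [Fin.revPerm_apply, Fin.val_rev]; omega

end CfsgLib.SLA
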