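import Mathlib
import Cfsg.Agent.Lib.SLA.MAut

/-!
# The matrix model: every family with the relations is a good system
-/

set_option autoImplicit false
set_option linter.unusedSectionVars false
set_option linter.unusedVariables false

namespace CfsgLib.SLA

open CfsgLib.RGD CfsgLib.Stein Subgroup
open scoped commutatorElement Pointwise

universe u

variable {ι κ : Type} [Fintype κ] [DecidableEq κ] [Finite ι] {Φ : RootSys ι κ} {E : ER Φ}
  {F : Type} [Field F] [Finite F] [CharP F 2] {G : Type u} [Group G] [Finite G]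
  {S : StSys Φ F G}

/-- the pair of indices of a root -/
def ER.pr (E : ER Φ) (r : ι) : ClSys.OffD E.m :=
  ⟨(⟨E.lo r, E.lo_lt r⟩, ⟨E.hi r, E.hi_lt r⟩), fun h => E.ne r (congrArg Fin.val h)⟩

theorem h_tv (r : ι) (c : F) :
    (Pre.sys E (E.rel_tv (F := F))).h r c = (ClSys.slSys E.m F).h (E.pr r) c := by
  have k : ∀ c : F, E.tv F (Φ.neg r) c = _ := E.tv_eq (i := ⟨E.hi r, E.hi_lt r⟩) (j := ⟨E.lo r, E.lo_lt r⟩)
    (fun h => E.ne r (congrArg Fin.val h).symm) (E.lo_neg r) (E.hi_neg r)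
  show E.tv F r c * E.tv F (Φ.neg r) _ * E.tv F r c * (E.tv F r _ * E.tv F (Φ.neg r) _ * E.tv F r _) = _
  rw [k, k]
  rfl

namespace Cov

variable {φ : Matrix.SpecialLinearGroup (Fin E.m) F →* G} (C : Cov E S.x φ)
include C

theorem nondeg (rel : Rel Φ S.x) : S.Nondeg := by
  let T := Pre.sys E (E.rel_tv (F := F))
  have hT : ∀ r t, φ (T.x r t) = S.x r t := C.tv
  have hB : T.B ≤ ClSys.triSub (ClSys.slCoe E.m F) id := by
    refine sup_le ((closure_le _).2 ?_) (((closure_le _).2 ?_).trans (ClSys.slSys_H_le.trans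
      (ClSys.diagSub_le_triSub _ _)))
    · rintro _ ⟨r, hr, t, rfl⟩
      exact ClSys.slSys_B_le ((ClSys.slSys E.m F).U_le_B (subset_closure
        ⟨E.pr r, ClSys.rootA_pos_iff.2 (E.pos_iff.1 hr), t, rfl⟩))
    · rintro _ ⟨r, c, hc, rfl⟩
      exact subset_closure ⟨E.pr r, c, hc, h_tv r c⟩
  have h1 : T.Nondeg := ClSys.nondeg_of_le _ hB fun i => ClSys.slSys_neg_notMem (r := E.pr _)
    (ClSys.rootA_neg_iff.2 (by
      show E.hi _ < E.lo _
      rw [E.lo_neg, E.hi_neg, E.lo_simple, E.hi_simple]; omega)) one_ne_zero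
  intro i
  obtain ⟨t, ht⟩ := ClSys.mapSys_nondeg_of_ker_le_center h1 E.UUx_tv φ C.ker i
  refine ⟨t, fun h => ht ?_⟩
  rw [← map_B φ (S := T) (S₀ := ClSys.mapSys T φ) fun _ _ => rfl, map_B φ hT]
  rwa [← hT] at h

theorem r3 : R3 S := by
  refine ClSys.r3_map φ (S := Pre.sys E (E.rel_tv (F := F))) C.tv fun r c d hc hd => ?_
  rw [h_tv, h_tv, h_tv]
  exact ClSys.slSys_r3 _ c d hc hd

theorem simp {K : Subgroup G} (h1 : K ≤ S.grp) (h2 : S.grp ≤ normalizer (K : Set G)) :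
    K ≤ CL S ∨ K = S.grp := by
  have : (K.comap φ).Normal := ⟨fun a ha x => by
    rw [mem_comap, map_mul, map_mul, map_inv]
    exact (mem_normalizer_iff.1 (h2 (C.mem_grp x)) _).1 ha⟩
  refine (sl_normal E.three (K.comap φ)).imp (fun h x hx => ?_) fun h => le_antisymm h1 fun x hx => ?_
  · obtain ⟨g, rfl⟩ := C.range.ge (h1 hx)
    exact C.mem_CL.2 (h hx)
  · obtain ⟨g, rfl⟩ := C.range.ge hx
    exact h.ge (mem_top g)

end Cov

theorem ER.kit (E : ER Φ) : Kit.{u} E := by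
  intro K _ _ _ G _ _ y big rel h
  obtain ⟨φ, C⟩ := rel.exists_cov E h
  have C' : Cov E (Pre.sys E rel).x φ := C
  exact ⟨Pre.sys E rel, rfl, C'.nondeg rel, rel, C'.r3, fun _ hg => C'.aut rel hg,
    fun _ h1 h2 => C'.simp h1 h2, linf_of_rel E (C'.nondeg rel) rel, big⟩

end CfsgLib.SLA
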