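import Mathlib
import Cfsg.Agent.Lib.SLA.Defs
import Cfsg.Agent.Lib.Stein.TypeA

/-!
# The root system of type A
-/

set_option autoImplicit false
set_option linter.unusedSectionVars false
set_option linter.unusedVariables false

namespace CfsgLib.SLA

open CfsgLib.RGD CfsgLib.Stein Subgroup
open scoped commutatorElement Pointwise

universe u

variable {ι κ : Type} [Fintype κ] [DecidableEq κ] [Finite ι] {Φ : RootSys ι κ} {E : ER Φ}
  {F : Type} [Field F] [Finite F] [CharP F 2] {G : Type u} [Group G] [Finite G]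
  {S : StSys Φ F G}

open CfsgLib.ClSys

/-- the root system of type `A` with roots of norm two -/
def rA (n : ℕ) : RootSys (OffD n) (Fin (n - 1)) :=
  { rootA n with
    d := fun _ => 1
    d_pos := fun _ => one_pos
    d_symm := fun i j => by
      rw [one_mul, one_mul, rootA_A, rootA_A]
      simp only [eq_comm, or_comm] }

theorem ip_rA {n : ℕ} (r s : OffD n) : ip (rA n) r s =
    (if r.1.1.val = s.1.1.val then 1 else 0) + (if r.1.2.val = s.1.2.val then 1 else 0) -
      (if r.1.1.val = s.1.2.val then 1 else 0) - if r.1.2.val = s.1.1.val then 1 else 0 := by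
  have : ip (rootA n) r s = 2 * ip (rA n) r s := by
    rw [ip_eq_sum, ip_eq_sum, Finset.mul_sum]
    refine Finset.sum_congr rfl fun i _ => ?_
    show _ * (evA _ ⬝ᵥ evA _ * _) = 2 * ((rootA n).rt r i * (1 * (rootA n).wt i s))
    rw [evA_dot_self]; ring
  simp only [ip_A, Fin.ext_iff] at this
  omega

theorem sum_ite_le (N a : ℕ) : ∑ k : Fin N, (if a ≤ k.val then 1 else 0 : ℤ) = (N - a : ℕ) := by
  induction N with
  | zero => simp
  | succ N ih => simp only [Fin.sum_univ_castSucc, Fin.val_castSucc, ih, Fin.val_last]; omega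

theorem laced_rA {n : ℕ} (h : 3 ≤ n) : Laced (rA n) 2 := by
  refine ⟨fun r => ?_, fun r s h1 h2 => ?_, fun r => ?_⟩
  · have := Fin.val_ne_of_ne r.2
    rw [ip_rA]; omega
  · have := ne_A h1 h2
    have := Fin.val_ne_of_ne r.2
    have := Fin.val_ne_of_ne s.2
    simp only [Fin.ext_iff] at *
    rw [ip_rA]; omega
  · obtain ⟨x, hx⟩ := exists_fresh [r.1.1, r.1.2] h
    simp only [List.mem_cons, List.not_mem_nil, or_false, not_or] at hx
    have := Fin.val_ne_of_ne r.2
    refine ⟨⟨(r.1.1, x), Ne.symm hx.1⟩, ?_⟩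
    simp only [Fin.ext_iff] at hx
    simp only [ip_rA, if_true]; omega

theorem exists_er {n : ℕ} (h : 3 ≤ n) : ∃ E : ER (rA n), E.m = n := by
  let p (i j : ℕ) (h : i < n ∧ j < n ∧ i ≠ j) : OffD n :=
    ⟨(⟨i, h.1⟩, ⟨j, h.2.1⟩), fun e => h.2.2 (congrArg Fin.val e)⟩
  refine ⟨{
    m := n
    lo r := r.1.1
    hi r := r.1.2
    e i j := if h : i < n ∧ j < n ∧ i ≠ j then p i j h else p 0 1 (by omega)
    idx i := i
    i₀ := ⟨0, by omega⟩
    i₁ := ⟨n - 2, by omega⟩
    θ := p 0 (n - 1) (by omega)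
    β := p 1 (n - 1) (by omega)
    β' := p 0 (n - 2) (by omega)
    γ := Function.Involutive.toPerm (fun r => ⟨(r.1.2.rev, r.1.1.rev), fun e => r.2 (Fin.rev_injective e).symm⟩)
      fun r => by simp
    three := h
    lac := laced_rA h
    lo_lt r := r.1.1.2
    hi_lt r := r.1.2.2
    ne r := Fin.val_ne_of_ne r.2
    ext r s h1 h2 := Subtype.ext (Prod.ext (Fin.ext h1) (Fin.ext h2))
    lo_e i j h1 h2 h3 := by rw [dif_pos ⟨h1, h2, h3⟩]
    hi_e i j h1 h2 h3 := by rw [dif_pos ⟨h1, h2, h3⟩]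
    ip_eq := ip_rA
    lo_neg r := rfl
    hi_neg r := rfl
    ht_eq r := ?_
    radd_iff a b k := ⟨fun h1 => ?_, fun h1 j => ?_⟩
    lo_simple i := rfl
    hi_simple i := rfl
    idx_surj j hj := ⟨⟨j, by omega⟩, rfl⟩
    rt_eq := rootA_rt
    idx₀ := rfl
    idx₁ := Nat.sub_add_cancel (by omega)
    lo_θ := rfl
    hi_θ := Nat.sub_add_cancel (by omega)
    lo_β := rfl
    hi_β := Nat.sub_add_cancel (by omega)
    lo_β' := rfl
    hi_β' := Nat.sub_add_cancel (by omega)
    lo_γ r := ?_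
    hi_γ r := ?_
    perm π hπ := ⟨permAHom n (Fin.equivSubtype.symm.permCongr (π.subtypePerm hπ)),
      rootA_W.ge ⟨_, rfl⟩, fun r => ⟨rfl, rfl⟩⟩
    np_eq := ?_ }, rfl⟩
  · have := r.1.1.2; have := r.1.2.2
    show ∑ j, (rootA n).rt r j = _
    simp only [rootA_rt, Finset.sum_sub_distrib, sum_ite_le]
    omega
  · obtain ⟨h1, h2, h3⟩ := (laced_rA h).ip_radd h1
    have k1 : ∀ r s : OffD n, 2 * ip (rA n) r s = 2 → (r.1.1.val = s.1.1.val ∨ r.1.2.val = s.1.2.val) ∧
        r.1.1.val ≠ s.1.2.val ∧ r.1.2.val ≠ s.1.1.val := fun r s e => by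
      have := Fin.val_ne_of_ne r.2; have := Fin.val_ne_of_ne s.2
      rw [ip_rA] at e; omega
    have k2 := k1 a (negA b) ((congrArg (2 * ·) (ip_neg_right a b)).trans (by omega))
    have := k1 _ _ h2; have := k1 _ _ h3
    have := Fin.val_ne_of_ne a.2; have := Fin.val_ne_of_ne b.2
    simp only [negA] at k2
    omega
  · show (rootA n).rt k j = (rootA n).rt a j + (rootA n).rt b j
    simp only [rootA_rt]
    obtain ⟨h1, h2, h3⟩ | ⟨h1, h2, h3⟩ := h1 <;> rw [h1, h2, h3] <;> ring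
  · show r.1.2.rev.val + _ + 1 = n
    have := r.1.2.2; rw [Fin.val_rev]; omega
  · show r.1.1.rev.val + _ + 1 = n
    have := r.1.1.2; rw [Fin.val_rev]; omega
  · show 2 * {r | (rootA n).Pos r}.ncard = _
    rw [rootA_ncard_pos, Nat.two_mul_div_two_of_even (Nat.even_mul_pred_self n)]

end CfsgLib.SLA
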