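import Mathlib
import Cfsg.Agent.Lib.SLA.SemC
import Cfsg.Agent.Lib.SLA.Vec

/-!
# The unitary involution in rank two
-/

set_option autoImplicit false
set_option linter.unusedSectionVars false
set_option linter.unusedVariables false

namespace CfsgLib.SLA

open CfsgLib.RGD CfsgLib.Stein Subgroup
open scoped commutatorElement Pointwise

universe u

variable {ι κ : Type} [Fintype κ] [DecidableEq κ] [Finite ι] {Φ : RootSys ι κ} {E : ER Φ}
  {F : Type} [Field F] [Finite F] [CharP F 2] {G : Type u} [Group G] [Finite G]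
  {S : StSys Φ F G}

theorem sd_fix (hq : 4 < Nat.card F) {σ : F ≃+* F} (h1 : σ * σ = 1) (h2 : σ ≠ 1) :
    ∃ l, σ l = l ∧ l ≠ 0 ∧ l ≠ 1 := by
  obtain ⟨q, -, -, h3, -, h5, -⟩ := aut_two h1 h2
  by_contra! k
  have : Nat.card {c // σ c = c} ≤ Nat.card Bool :=
    Nat.card_le_card_of_injective (fun c => by classical exact decide (c.1 = 0)) fun a b e => by
      classical
      by_cases ha : a.1 = 0
      · have hb : b.1 = 0 := by simpa [ha] using e
        exact Subtype.ext (ha.trans hb.symm)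
      · have hb : b.1 ≠ 0 := by simpa [ha] using e
        exact Subtype.ext ((k _ a.2 ha).trans (k _ b.2 hb).symm)
  rw [h5, Nat.card_eq_fintype_card, Fintype.card_bool] at this
  have := Nat.pow_le_pow_left this 2
  omega

theorem Amb.uni3 (A : Amb E S) (h3 : E.m = 3) (hq : 4 < Nat.card F) {s : G} {d : ι → F} {σ : F ≃+* F}
    (h : StdD S s E.γ d σ) (hσ : σ ≠ 1) (s2 : s * s = 1) :
    S.U ⊓ centralizer {s} ≤ ⁅CS S s, CS S s⁆ ∧
      ∀ p ∈ S.U ⊓ centralizer {s}, p * p = 1 → p ∈ S.X E.θ := by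
  have gp := E.gp (Or.inr rfl)
  have co := E.co
  constructor
  · obtain ⟨l, l1, l0, l2⟩ := sd_fix hq (A.sm_σ h gp s2) hσ
    have ha := S.h_mem_H E.θ l0
    have hs : S.h E.θ l ∈ centralizer {s} := by
      have := A.std_conj_h ⟨d, h⟩ gp E.θ l0
      rw [E.γ_θ, l1] at this
      exact mem_centralizer_singleton_iff.2 (mul_inv_eq_iff_eq_mul.1 this).symm
    refine A.fix_le_of h (Or.inr rfl) hσ s2 fun r hr c => ?_
    obtain ⟨p, hp, y, hy, e⟩ := A.sc_tor h (Or.inr rfl) hσ s2 ha hs hr (fun e => by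
      rw [A.h_conj _ _ l0, mul_one] at e
      have e1 := A.nd.x_injective _ e
      have b := E.bd r
      have := E.pos_iff.1 hr
      by_cases k : r = E.θ
      · rw [k, E.ip_self, zpow_two, mul_self_eq_one_iff, CharTwo.neg_eq, or_self] at e1
        exact l2 e1
      · rw [E.eq_iff] at k
        rw [E.ip_one_iff.2 (show _ from by omega), zpow_one] at e1
        exact l2 e1) c
    refine ⟨_, commutator_mem_commutator ⟨S.H_le_grp ha, hs⟩ ⟨S.U_le_grp hp.1, hp.2⟩, ?_, y, hy, e⟩
    exact mul_mem (mul_mem (mul_mem hs hp.2) (inv_mem hs)) (inv_mem hp.2)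
  · intro p hp p2
    have hQ : p ∈ Q S E.θ := A.Q_three h3 ▸ hp.1
    have one : ∀ r, ip Φ r E.θ = 1 → r = E.α ∨ r = E.β := fun r hr => by
      have := E.bd r
      rw [E.ip_one_iff] at hr
      rw [E.eq_iff, E.eq_iff]
      omega
    have ne : E.α ≠ E.β := by rw [Ne, E.eq_iff]; omega
    have pα : Φ.Pos E.α := E.pos_iff.2 (by omega)
    have m1 : ∀ c, S.x E.α c ∈ Q S E.θ := fun c => S.x_mem_UU (vec_mem E.ip_αθ) c
    have m2 : ∀ c, S.x E.β c ∈ Q S E.θ := fun c => S.x_mem_UU (vec_mem E.ip_βθ) c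
    have mw := mul_mem (m1 (cf S p E.α)) (m2 (cf S p E.β))
    have hz := (A.congr_iff hQ mw).2 fun r hr => by
      rw [A.vec_mul (m1 _) (m2 _) hr]
      rcases one r hr with rfl | rfl
      · rw [A.cf_x_self pα, A.cf_x_ne E.pos_β ne, add_zero]
      · rw [A.cf_x_self E.pos_β, A.cf_x_ne pα ne.symm, zero_add]
    have hab : cf S p E.α * cf S p E.β = 0 := by
      obtain ⟨c, hc⟩ := S.mem_X_iff.1 hz
      have e1 := A.vec_cZ (A.vec_Q_le_Y mw) (z := S.x E.θ c) (S.mem_X_iff.2 ⟨c, rfl⟩)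
      have e2 := A.rel.cm _ _ _ E.hβ (cf S p E.α) (cf S p E.β)
      rw [A.x_inv, A.x_inv] at e2
      rw [← A.x_eq_one (r := E.θ), ← e2]
      rw [eq_comm, eq_mul_inv_iff_mul_eq] at hc
      rw [mul_inv_eq_iff_eq_mul] at e1
      have e3 := p2
      conv_lhs at e3 => rw [← hc]
      rw [mul_assoc, ← mul_assoc _ (S.x E.θ c), e1, ← mul_assoc, ← mul_assoc (S.x E.θ c), A.x_sq, one_mul] at e3
      rw [← e3]
      simp only [mul_assoc]
    have hb : cf S p E.β = d E.α * σ (cf S p E.α) := by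
      have := A.sm_cf_std h gp (m := 1) (u := p) (sm_UU_one (S := S) ▸ hp.1) (k := E.β) fun k => by
        have := k.2
        rw [E.ht_eq] at this
        omega
      rwa [← mem_centralizer_singleton_iff.1 hp.2, mul_inv_cancel_right, E.γ_β,
        show E.β' = E.α from E.eq_iff.2 (by omega)] at this
    have ha : cf S p E.α = 0 := by
      by_contra k
      rw [hb] at hab
      exact mul_ne_zero k (mul_ne_zero (h.ne_zero _) ((map_ne_zero σ).2 k)) hab
    refine (A.mem_Z_iff hQ).2 fun r hr => ?_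
    rcases one r hr with rfl | rfl
    · exact ha
    · rw [hb, ha, map_zero, mul_zero]

end CfsgLib.SLA
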