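import Mathlib
import Cfsg.Agent.Lib.SLA.NH
import Cfsg.Agent.Lib.SLA.AutF
import Cfsg.Agent.Lib.SLA.Semi
import Cfsg.Agent.Lib.SLA.SemD
import Cfsg.Agent.Lib.SLA.GrL
import Cfsg.Agent.Lib.SLA.GrO
import Cfsg.Agent.Lib.SLA.U1

/-!
# The field case: `G0` is normal
-/

set_option autoImplicit false
set_option linter.unusedSectionVars false

namespace CfsgLib.SLA

open CfsgLib.RGD CfsgLib.Stein CfsgLib.UFP Subgroup
open scoped commutatorElement Pointwise

universe u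

variable {ι κ : Type} [Fintype κ] [DecidableEq κ] [Finite ι] {Φ : RootSys ι κ} {E : ER Φ}
  {F : Type} [Field F] [Finite F] [CharP F 2] {G : Type u} [Group G] [Finite G]
  {S : StSys Φ F G} {t : G} {Z : ι → Subgroup G}

theorem four_lt (n : ℕ) : 4 * n < 8 ^ n := by
  induction n with
  | zero => simp
  | succ n ih =>
    have : 0 < 8 ^ n := by positivity
    rw [pow_succ]; omega

theorem two_le_card : 2 ≤ Nat.card F := Finite.one_lt_card

theorem even_card : Even (Nat.card F) := by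
  have h1 := card_aut (F := F)
  have h2 := two_le_card (F := F)
  rw [h1] at h2 ⊢
  exact (Nat.even_pow' fun e => by rw [e] at h2; omega).2 even_two

theorem lay_ht {n : ℤ} : Lay Φ {r | Φ.Pos r ∧ n ≤ Φ.ht r} {r | Φ.Pos r ∧ n + 1 ≤ Φ.ht r} :=
  ⟨fun _ h => h.1, fun _ h => ⟨h.1, by have := h.2; omega⟩, fun a ha b hb k h => ⟨radd_pos h ha.1 hb.1,
    by have := Φ.ht_pos hb.1; have := ha.2; rw [radd_ht h]; omega⟩⟩

namespace Amb

variable (A : Amb E S)
include A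

theorem mem_grp (hW : Odd (Nat.card (CL S))) {g : G} (hg : g ∈ N0 S)
    (hp : IsPGroup 2 (zpowers g)) : g ∈ S.grp := by
  obtain ⟨l, hl, c, hc, rfl, -, h⟩ := A.exists_mul_of_N0 hg hp
  rw [eq_one_of_odd' h hW (mem_zpowers c) hc, mul_one]; exact hl

theorem pow_mem_U {a : G} (h1 : a ∈ S.grp) (h2 : a ∈ normalizer (S.U : Set G)) :
    a ^ (Nat.card F - 1) ∈ S.U := by
  obtain ⟨u, hu, h, hh, rfl⟩ := S.mem_B_iff.1 (A.nd.normalizer_U.le ⟨h2, h1⟩)
  have : ∀ k : ℕ, (u * h) ^ k * (h ^ k)⁻¹ ∈ S.U := fun k => by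
    induction k with
    | zero => simp
    | succ k ih =>
      rw [show (u * h) ^ (k + 1) * (h ^ (k + 1))⁻¹ = u * (h * ((u * h) ^ k * (h ^ k)⁻¹) * h⁻¹) by
        rw [pow_succ', pow_succ']; group]
      exact mul_mem hu (S.H_conj_mem_UU hh ih)
  simpa [A.H_pow hh] using this (Nat.card F - 1)

theorem U_norm_ht (n : ℤ) :
    S.U ≤ normalizer (S.UU {r | Φ.Pos r ∧ n ≤ Φ.ht r} : Set G) :=
  S.UU_le_normalizer (StSys.ideal_ht Φ.closed_pos (fun _ h => h) n)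

theorem inf_le_U {P : Subgroup G} (hP : IsPGroup 2 P) (h : S.U ≤ P) : P ⊓ S.grp ≤ S.U :=
  A.le_U hP.to_inf_left inf_le_right (le_inf h S.U_le_grp)

theorem le_norm_U {P : Subgroup G} (hP : IsPGroup 2 P) (h : S.U ≤ P) {g : G} (h1 : g ∈ P)
    (h2 : g ∈ NL S) : g ∈ normalizer (S.U : Set G) :=
  mem_normalizer_fintype fun _ hu => A.inf_le_U hP h
    ⟨P.mul_mem (P.mul_mem h1 (h hu)) (P.inv_mem h1), conj_mem h2 (S.U_le_grp hu)⟩

end Amb

/-- a large 2-subgroup of `N0 ∩ C(t)` contains a Sylow subgroup of `L` -/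
theorem Sit.exists_U (h : Sit E S t) (h2 : Two S) {R : Subgroup G} (hR : IsPGroup 2 R) (h0 : R ≤ N0 S)
    (hc : R ≤ centralizer {t}) (ht : t ∈ R) (hn : 2 * Nat.card F ^ NP Φ ≤ Nat.card R) :
    ∃ l ∈ S.grp, (SLA.cj S l).U ≤ R := by
  have key : ∀ r ∈ R, r ∈ S.grp ∨ r * t ∈ S.grp := fun r hr => by
    obtain ⟨l, hl, c, hc', rfl, -, p⟩ := h.amb.exists_mul_of_N0 (h0 hr) (pg_zpowers hR hr)
    have c1 : c * t = t * c := by
      have := mem_cent1.1 (hc hr)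
      rw [← mul_assoc, ← h.com hl, mul_assoc, mul_assoc] at this
      exact (mul_left_cancel this).symm
    have h3 := h2 _ (sup_le (zpowers_le.2 h.tC) (zpowers_le.2 hc')) (h.pg_sup p c1)
    have h4 : c ∈ zpowers t := (Core.eq_of_le_of_card_le le_sup_left (h3.trans (by
      rw [Nat.card_zpowers, Invol.orderOf_eq_two h.t1 h.t2]))).ge (mem_sup_right (mem_zpowers c))
    rcases u1_zp h.t2 h4 with rfl | rfl
    · exact Or.inl (by rwa [mul_one])
    · exact Or.inr (by rwa [mul_assoc, h.t2, mul_one])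
  have h3 : (S.grp.subgroupOf R).index ≤ 2 := by
    by_cases h4 : S.grp.subgroupOf R = ⊤
    · rw [h4, index_top]; omega
    · refine (index_eq_two_iff'.2 ⟨⟨t, ht⟩, fun b => ?_⟩).le
      have h5 := h.t_not_mem
      rcases key b b.2 with h6 | h6
      · exact Or.inr ⟨h6, fun h7 => h5 ((Subgroup.mul_mem_cancel_right _ h6).1 h7)⟩
      · have h7 : t * b ∈ S.grp := by rwa [mem_cent1.1 (hc b.2)]
        exact Or.inl ⟨h7, fun h8 =>
          h5 ((S.grp.mul_mem_cancel_right (show (b : G) ∈ S.grp from h8)).1 h7)⟩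
  have h4 := card_mul_index (S.grp.subgroupOf R)
  rw [← inf_subgroupOf_right, Nat.card_congr (subgroupOfEquivOfLe inf_le_right).toEquiv,
    inf_subgroupOf_right] at h4
  obtain ⟨l, hl, e⟩ := h.amb.eq_cj_U (hR.to_inf_right (H := S.grp)) inf_le_left (by nlinarith)
  exact ⟨l, hl, e.ge.trans inf_le_right⟩

namespace DblF

variable {K : Type} [Field K] [Finite K] [CharP K 2] {T : StSys Φ K G} {f : F →+* K} {τ : K ≃+* K}
  (d : DblF E S t Z T f τ)
include d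

theorem G0_eq : ⨆ r, Z r = T.grp :=
  le_antisymm (iSup_le fun r => d.ZT r ▸ T.UU_le_grp _)
    (T.UU_le_iff.2 fun r _ c => le_iSup Z r (d.ZT r ▸ T.x_mem_X r c))

theorem std : StdD T t 1 (fun _ => 1) τ := ⟨fun _ => one_mul 1, fun r c => by simpa using d.tT r c⟩

theorem τ_ne : τ ≠ 1 := fun e => by
  have h1 : Function.Surjective f := fun v => ((d.fix v).1 (by rw [e]; rfl)).imp fun _ h => h.symm
  have h2 := Nat.card_le_card_of_surjective f h1
  have h3 := two_le_card (F := F)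
  rw [d.card] at h2
  nlinarith

theorem x_one (r : ι) : T.x r 1 = S.x r 1 := by rw [← d.ext, map_one]

theorem cent : centralizer {t} ≤ NL T := by
  have := d.toHats.cent_le
  rwa [d.G0_eq] at this

theorem odd : Odd (Nat.card (CL T)) := by
  have := d.toHats.odd_W
  rwa [d.G0_eq] at this

theorem UU_le (Ψ : Set ι) : S.UU Ψ ≤ T.UU Ψ :=
  S.UU_le_iff.2 fun r hr c => d.ext r c ▸ T.x_mem_UU hr _

theorem t_norm (Ψ : Set ι) : t ∈ normalizer (T.UU Ψ : Set G) :=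
  d.ambT.std_norm ⟨_, d.std⟩ fun _ h => h

theorem pg : IsPGroup 2 (T.U ⊔ zpowers t : Subgroup G) :=
  IsPGroup.to_sup_of_normal_left' d.ambT.pg_U (pgroup_zpowers_of_sq d.t2)
    (zpowers_le.2 (d.t_norm _))

theorem τ2 : τ * τ = 1 :=
  d.ambT.sq_of_typ (Std.typ ⟨_, d.std⟩) (Or.inl rfl) (by rw [d.t2]; exact one_mem _)

/-- conjugates of `t` do not induce linear automorphisms -/
theorem not_lin {g : G} {π : Equiv.Perm ι} (hπ : π = 1 ∨ π = E.γ) (h : Typ T (g * t * g⁻¹) π 1) :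
    False := by
  have A := d.ambT
  have H := d.toSit.cj g
  have h3 : 0 < Nat.card F ^ NP Φ := pow_pos Nat.card_pos _
  have q2 := two_le_card (F := F)
  by_cases h0 : π = 1 ∨ (π = E.γ ∧ Even E.m)
  · rcases A.lb h h0 H.t2 with ⟨R, hR1, hR, hR2⟩ | ⟨-, R, hR1, hR, hR2⟩ <;>
      rw [d.card, ← pow_mul, mul_comm, pow_mul, pow_le_pow_iff_left₀ (by omega) (by omega) two_ne_zero,
        pow_add] at hR2
    · have h1 := H.amb.card_le (d.two.cj g) hR (hR1.trans (inf_le_right.trans H.CN))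
      have h2 := four_lt (Nat.card (F ≃+* F))
      rw [show (8 : ℕ) = 2 ^ 3 from rfl, ← pow_mul, mul_comm 3, pow_mul, ← card_aut] at h2
      nlinarith
    · have h1 := H.amb.card_le0 (d.two.cj g) hR (hR1.trans (H.comm_le inf_le_right inf_le_right))
      have h2 := Nat.pow_le_pow_left q2 2
      nlinarith
  obtain rfl := hπ.resolve_left fun e => h0 (Or.inl e)
  have O := A.grO h (Nat.not_even_iff_odd.1 fun e => h0 (Or.inr ⟨rfl, e⟩)) H.t2
  obtain ⟨k, hk⟩ := O.odd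
  have hp := Nat.minFac_prime (n := Nat.card K + 1) (by have := Nat.card_pos (α := K); omega)
  have hd := Nat.minFac_dvd (Nat.card K + 1)
  generalize (Nat.card K + 1).minFac = p at hp hd
  have p2 : p ≠ 2 := fun e => by
    rw [e] at hd
    exact Nat.not_even_iff_odd.2 (even_card (F := K)).add_one (even_iff_two_dvd.2 hd)
  obtain ⟨B, -, b2, b3, -⟩ := O.tor p k hp hd hk
  have b4 := (b3 (by rw [d.card]; nlinarith)).trans H.PfC_le
  rw [d.card] at hd
  have hd' : ∀ i, 0 < i → i < 4 → ¬ p ∣ Nat.card F ^ i - 1 := fun i i0 i4 h1 => by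
    have : Fact p.Prime := ⟨hp⟩
    have e1 : (Nat.card F : ZMod p) ^ 2 + 1 = 0 := by
      exact_mod_cast (ZMod.natCast_eq_zero_iff _ _).2 hd
    have e2 : (Nat.card F : ZMod p) ^ i = 1 := by
      have := (ZMod.natCast_eq_zero_iff _ _).2 h1
      rwa [Nat.cast_sub (Nat.one_le_pow _ _ (by omega)), Nat.cast_pow, Nat.cast_one, sub_eq_zero] at this
    have e3 : ((2 : ℕ) : ZMod p) = 0 := by
      generalize (Nat.card F : ZMod p) = x at e1 e2
      push_cast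
      interval_cases i
      · linear_combination e1 - (x + 1) * e2
      · linear_combination e1 - e2
      · linear_combination (x ^ 4 - x ^ 2 + 1) * e1 - (x ^ 3 + 1) * e2
    exact p2 ((Nat.prime_dvd_prime_iff_eq hp Nat.prime_two).1 ((ZMod.natCast_eq_zero_iff _ _).1 e3))
  have := H.amb.rank_le hp p2 (by omega) hd' b2 (b4.trans le_sup_left)
    (H.amb.inf_CL_eq_bot hp (by simpa using hd' 1 one_pos (by omega)) b2 b4)
  have := E.three
  omega

/-- conjugates of `t` do not induce graph field automorphisms -/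
theorem not_gf {g : G} {dd : ι → K} {σ : K ≃+* K} (hd : StdD T (g * t * g⁻¹) E.γ dd σ) (hσ : σ ≠ 1) :
    False := by
  have A := d.ambT
  have h := d.toSit.cj g
  have D := A.semiD_std hd (Or.inr rfl) hσ h.t2
  have hc := D.card
  rw [d.card, ← pow_mul, mul_comm 2, pow_mul, pow_left_inj₀ (by omega) (by omega) two_ne_zero] at hc
  rcases E.three.eq_or_lt with m3 | m4
  · obtain ⟨u1, u2⟩ := A.uni3 m3.symm (by have := d.amb.big (by omega); rw [d.card]; nlinarith) hd hσ h.t2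
    have hn : g * t * g⁻¹ ∈ normalizer ((T.U ⊓ centralizer {g * t * g⁻¹} : Subgroup G) : Set G) :=
      centralizer_le_normalizer _ (mem_cent.2 fun a ha => (mem_cent1.1 ha.2).symm)
    obtain ⟨l, hl, e⟩ := h.exists_U (d.two.cj g) (IsPGroup.to_sup_of_normal_left' A.pg_U.to_inf_left
      (pgroup_zpowers_of_sq h.t2) (zpowers_le.2 hn))
      (sup_le (u1.trans (h.comm_le inf_le_right inf_le_right))
        (zpowers_le.2 (le_N0 (mem_sup_right h.tC))))
      (sup_le inf_le_right (zpowers_le.2 (mem_cent1.2 rfl))) (mem_sup_right (mem_zpowers _))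
      (hc ▸ card_sup_inv h.t2 (fun e => hσ (A.typ_unique (Std.typ ⟨_, hd⟩)
        (typ_of_mem (mem_sup_left (T.U_le_grp e.1))) (Or.inr rfl) (Or.inl rfl)).2) hn)
    have A' := h.amb.cj l
    generalize SLA.cj (SLA.cj S g) l = S' at e A'
    have s2 := h.t2
    generalize g * t * g⁻¹ = s at *
    have key : ∀ y ∈ S'.U, y * y = 1 → ∃ p ∈ T.X E.θ, Commute p s ∧ (y = p ∨ y = p * s) := by
      intro y hy y2
      rcases mem_sup_inv s2 hn (e hy) with h1 | h1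
      · exact ⟨y, u2 y h1 y2, (mem_cent1.1 h1.2).symm, Or.inl rfl⟩
      · have c1 : Commute (y * s) s := (mem_cent1.1 h1.2).symm
        have c2 : Commute y s := by simpa using c1.mul_left (Commute.refl s).inv_left
        exact ⟨y * s, u2 _ h1 (by rw [c2.symm.mul_mul_mul_comm, y2, s2, mul_one]), c1,
          Or.inr (by rw [mul_assoc, s2, mul_one])⟩
    obtain ⟨a, ha, a1, a2⟩ := key _ (S'.x_mem_U (r := E.α) (Φ.pos_simple _) 1) (A'.x_sq _ _)
    obtain ⟨b, hb, b1, b2⟩ := key _ (S'.x_mem_U E.pos_β 1) (A'.x_sq _ _)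
    have ab : Commute a b := (A.center_U.ge hb).2 a (A.center_U.ge ha).1
    have c3 : Commute (S'.x E.α 1) (S'.x E.β 1) := by
      rcases a2 with a2 | a2 <;> rcases b2 with b2 | b2 <;> rw [a2, b2]
      exacts [ab, ab.mul_right a1, ab.mul_left b1.symm,
        (ab.mul_right a1).mul_left (b1.symm.mul_right (Commute.refl s))]
    have := A'.rel.cm _ _ _ E.hβ 1 1
    rw [c3.eq, mul_inv_cancel_right, mul_inv_cancel, mul_one] at this
    exact one_ne_zero (A'.x_eq_one.1 this.symm)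
  have hM : PfC T (g * t * g⁻¹) ≤ _ := h.PfC_le
  obtain ⟨l, hl, e1⟩ := h.amb.eq_cj_U A.pg_U.to_inf_left ((D.PM m4).trans hM) hc.ge
  obtain ⟨a, ha1, ha2, ha3, ha4⟩ := A.exists_torus m4 hd hσ h.t2 d.card
  have h2 := (h.amb.cj l).pow_mem_U (a := a) (by rw [cj_grp_of_mem (le_normalizer hl)]; exact hM ha1)
    (by
      rw [← e1]
      exact norm_inf (T.H_le_normalizer_UU _ ha2) (le_normalizer (PfC_le _ ha1).2))
  have h3 : Odd (Nat.card F + 1) := even_card.add_one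
  have h4 := eq_one_of_odd (h.amb.cj l).pg_U h2 h3 (by rw [← pow_mul, mul_comm, pow_mul, ha4, one_pow])
  have h5 := two_le_card (F := F)
  have h6 : a ^ 2 = 1 := by
    rw [show Nat.card F + 1 = Nat.card F - 1 + 2 by omega, pow_add, h4, one_mul] at ha4
    exact ha4
  exact ha3 (eq_one_of_odd (pgroup_zpowers_of_sq (by rw [← pow_two, h6])) (mem_zpowers a) h3 ha4)

/-- **(U)** -/
theorem u : U (NL T) t := by
  have A := d.ambT
  refine ⟨d.t2, d.cent (mem_cent1.2 rfl), fun g0 hg0 => ?_⟩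
  have sq : ∀ g : G, g * t * g⁻¹ * (g * t * g⁻¹) = 1 := fun g => by
    rw [show g * t * g⁻¹ * (g * t * g⁻¹) = g * (t * t) * g⁻¹ by group, d.t2]; group
  obtain ⟨k, hk, P, hP1, hP, hP2, hP3⟩ := exists_conj_pgroup d.pg
    (sup_le (T.U_le_grp.trans le_normalizer) (zpowers_le.2 (d.cent (mem_cent1.2 rfl)))) hg0 (sq g0)
  rw [← Subgroup.mul_mem_cancel_left _ hk]
  obtain ⟨g, hg⟩ : ∃ g, g = k * g0 := ⟨_, rfl⟩
  rw [show k * (g0 * t * g0⁻¹) * k⁻¹ = g * t * g⁻¹ by rw [hg]; group] at hP3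
  rw [← hg]
  have hU := A.le_norm_U hP (le_sup_left.trans hP2) hP3 (hP1 hP3)
  obtain ⟨π, σ, hπ, hty⟩ := A.aut _ (hP1 hP3)
  by_cases hσ : σ = 1
  · subst hσ
    exact (d.not_lin hπ hty).elim
  have hσ2 := A.sq_of_typ hty hπ (by rw [sq]; exact one_mem _)
  obtain rfl : σ = τ := aut_eq_of_sq hσ2 d.τ2 hσ d.τ_ne
  by_cases h1 : π = 1
  · subst h1
    have h2 : g * t * g⁻¹ * t ∈ N0 T := by
      have := Typ.mul hty (Std.typ ⟨_, d.std⟩) fun _ => rfl
      rwa [hσ2, mul_one] at this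
    have h3 := P.mul_mem hP3 (hP2 (mem_sup_right (mem_zpowers t)))
    have h4 := A.inf_le_U hP (le_sup_left.trans hP2) ⟨h3, A.mem_grp d.odd h2 (pg_zpowers hP h3)⟩
    have e : g * t * g⁻¹ * t * t = g * t * g⁻¹ := by rw [mul_assoc, d.t2, mul_one]
    obtain ⟨v, hv, h5⟩ := (A.semiD_std d.std (Or.inl rfl) hσ d.t2).conj _ h4 (by rw [e, sq])
    rw [e] at h5
    refine (Subgroup.mul_mem_cancel_left _ (inv_mem (le_normalizer (T.U_le_grp hv)))).1
      (d.cent (mem_cent1.2 ?_))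
    calc _ = v⁻¹ * (v * t * v⁻¹) * g := by group
      _ = _ := by rw [← h5]; group
  obtain ⟨v, -, u, -, e, dd, hd⟩ := A.exists_conj_std hty hπ hσ (sq g) hU
  rw [← e, show v * (g * t * g⁻¹) * v⁻¹ = v * g * t * (v * g)⁻¹ by group, hπ.resolve_left h1] at hd
  exact (d.not_gf hd hσ).elim

theorem comm_CL {g : G} {σ : K ≃+* K} (hg : StdD T g 1 (fun _ => 1) σ) :
    g * t * g⁻¹ * t⁻¹ ∈ CL T := by
  refine mem_cent_UU.2 fun r _ c => ?_
  obtain ⟨c, rfl⟩ := (τ * σ).surjective c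
  have h1 : ∀ c, g * T.x r c * g⁻¹ = T.x r (σ c) := fun c => by simpa using hg.2 r c
  have h2 : T.x r ((τ * σ) c) = t * (g * T.x r c * g⁻¹) * t⁻¹ := by rw [h1, d.tT]; rfl
  have h3 : T.x r ((τ * σ) c) = g * (t * T.x r c * t⁻¹) * g⁻¹ := by
    rw [d.tT, h1, aut_mul_comm]; rfl
  calc _ = g * (t * T.x r c * t⁻¹) * g⁻¹ * (g * t * g⁻¹ * t⁻¹) := by rw [← h3]
    _ = g * t * g⁻¹ * t⁻¹ * (t * (g * T.x r c * g⁻¹) * t⁻¹) := by group
    _ = _ := by rw [← h2]

theorem conj_t {m u : G} {σ : K ≃+* K} (hu : u ∈ T.grp) (h : StdD T (u * m) 1 (fun _ => 1) σ) :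
    ∃ k ∈ CL T, m * t * m⁻¹ = k * (u⁻¹ * t * u⁻¹⁻¹) := by
  refine ⟨_, d.comm_CL h, ?_⟩
  have := mem_cent.1 (d.comm_CL h) _ (inv_mem hu)
  rw [← mul_assoc _ (u⁻¹ * t), ← mul_assoc _ u⁻¹, ← this]
  group

theorem uw : UW (NL T) t S.U := by
  have A := d.ambT
  have h := d.toHats.uw
  rw [d.G0_eq] at h
  refine h d.u (fun m hm h1 => ?_) (fun m hm h1 => ?_) (fun m hm h1 => ?_) fun z hz => ?_
  · obtain ⟨u, hu, σ, h2⟩ := A.cen_Q1 hm fun r hr => by rw [d.x_one]; exact h1 r hr 1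
    exact ⟨u⁻¹, d.ZT _ ▸ inv_mem hu, d.conj_t (T.UU_le_grp _ hu) h2⟩
  · obtain ⟨u, hu, σ, h2⟩ := A.cen_R1 hm fun r hr h' => by rw [d.x_one]; exact h1 r hr h' 1
    obtain ⟨c, e, h3⟩ := A.mem_W_iff.1 (inv_mem hu)
    exact ⟨T.x E.θ c, d.ZT _ ▸ T.x_mem_X _ _, T.x E.β e, d.ZT _ ▸ T.x_mem_X _ _,
      h3 ▸ d.conj_t (T.UU_le_grp _ hu) h2⟩
  · obtain ⟨u, hu, σ, h2⟩ := A.flip.cen_R1 hm fun r hr h' => by rw [d.x_one]; exact h1 r hr h' 1
    obtain ⟨c, e, h3⟩ := A.flip.mem_W_iff.1 (inv_mem hu)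
    exact ⟨T.x E.θ c, d.ZT _ ▸ T.x_mem_X _ _, T.x E.β' e, d.ZT _ ▸ T.x_mem_X _ _,
      (show u⁻¹ = T.x E.θ c * T.x E.β' e from h3) ▸ d.conj_t (T.UU_le_grp _ hu) h2⟩
  · rw [d.ZT] at hz
    obtain ⟨c, rfl⟩ := T.mem_X_iff.1 hz
    exact ⟨_, T.x_mem_grp _ c, _, S.x_mem_grp E.β 1, by
      rw [← d.x_one, A.rel.cm _ _ _ E.hβ, mul_one]⟩

theorem chain : Chain t T.U (Φ.ht E.θ).toNat
    fun i => T.UU {r | Φ.Pos r ∧ Φ.ht E.θ + 1 - i ≤ Φ.ht r} := by
  have A := d.ambT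
  have h0 := Φ.ht_pos E.pos_θ
  have hU : T.U = T.UU {r | Φ.Pos r ∧ 1 ≤ Φ.ht r} :=
    congrArg T.UU (Set.ext fun r => ⟨fun h => ⟨h, Φ.ht_pos h⟩, fun h => h.1⟩)
  have e : ∀ i : ℕ, Φ.ht E.θ + 1 - i = Φ.ht E.θ + 1 - (i + 1 : ℕ) + 1 := fun i => by
    push_cast; ring
  refine ⟨?_, ?_, fun i _ => T.UU_mono fun r hr => ⟨hr.1, by have := hr.2; push_cast; omega⟩,
    fun i _ => d.t_norm _, fun i _ u hu x hx => ?_, fun i _ x hx => ?_, fun i _ x hx h => ?_⟩
  · rw [← T.UU_empty]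
    refine congrArg T.UU (Set.eq_empty_of_forall_notMem fun r hr => ?_)
    have := hr.2
    by_cases h : r = E.θ
    · rw [h] at this; push_cast at this; omega
    · have := E.ht_lt_θ h; push_cast at *; omega
  · rw [hU, Int.toNat_of_nonneg h0.le, add_sub_cancel_left]
  · rw [e, add_comm _ 1]
    exact A.comm_mem_wt Φ.ht (fun _ => Φ.ht_pos) (fun _ _ _ => radd_ht) (hU ▸ hu) hx
  · rw [e]
    simpa using A.mul_inv_mem lay_ht hx (inv_mem hx) fun r _ hr => (A.cf_inv lay_ht hx hr).symm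
  · simp only [e i] at h ⊢
    generalize Φ.ht E.θ + 1 - (i + 1 : ℕ) = n at *
    have hc : ∀ y ∈ T.UU {r | Φ.Pos r ∧ n ≤ Φ.ht r}, ∀ r ∉ {r | Φ.Pos r ∧ n + 1 ≤ Φ.ht r},
        cf T (t * y * t⁻¹) r = τ (cf T y r) := fun y hy r hr => by
      simpa using A.cf_std lay_ht d.std (fun _ => Iff.rfl) (fun _ => Iff.rfl) hy hr
    obtain ⟨q, -, -, -, -, -, -, hq⟩ := aut_two d.τ2 d.τ_ne
    have : ∀ r, r ∉ {r | Φ.Pos r ∧ n + 1 ≤ Φ.ht r} → ∃ a, cf T x r = a + 1 * τ a := fun r hr => by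
      refine (hq 1 (by simp)).2 _ ?_
      have h1 := A.cf_eq_zero (E.closed_of_idl (E.idl_ht _)) (fun _ h => h.1) h hr
      rw [A.cf_mul lay_ht (conj_mem (d.t_norm _) hx) (inv_mem hx) hr, hc x hx r hr,
        A.cf_inv lay_ht hx hr] at h1
      rw [one_mul, eq_neg_of_add_eq_zero_left h1, CharTwo.neg_eq]
    choose! a ha using this
    obtain ⟨L, hL, hL'⟩ := StSys.exists_list {r | Φ.Pos r ∧ n ≤ Φ.ht r}
    have hy := T.xprod_mem_UU (fun r hr => (hL' r).1 hr) a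
    refine ⟨T.xprod L a, hy, ?_⟩
    rw [← mul_assoc]
    refine A.mul_inv_mem lay_ht (mul_mem hx (conj_mem (d.t_norm _) hy)) hy fun r h1 h2 => ?_
    rw [A.cf_mul lay_ht hx (conj_mem (d.t_norm _) hy) h2, hc _ hy r h2,
      (A.cf_xprod lay_ht hL (fun r hr => (hL' r).1 hr) a h2).1 ((hL' r).2 h1), ha r h2, one_mul,
      add_assoc, CharTwo.add_self_eq_zero, add_zero]

/-- **Field case** -/
theorem eq {Gs : Subgroup G} (g : Glob Gs t) : T.grp = Gs := by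
  have A := d.ambT
  have hu := d.u
  have h0 : T.grp ≤ Gs := g.pf_le A.pf_grp.1
  obtain ⟨B, _, _, l, hB, hl⟩ := exists_two_hom (N0_le (S := T)) fun _ ha _ hb => A.comm_mem_N0 ha hb
  have ht : t ∉ Gs := g.not_mem (not_mem_commutator d.t2 hu.mem l (fun h => by
    obtain ⟨m, hm, h1⟩ := (hl _).1 h
    exact d.τ_ne (A.typ_unique (Std.typ ⟨_, d.std⟩)
      (mem_of_odd_pow (pgroup_zpowers_of_sq d.t2) hm h1) (Or.inl rfl) (Or.inl rfl)).2)
    fun x hx _ => hu.uniq x hx)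
  have hU1 : T.U ≤ NL T := T.U_le_grp.trans le_normalizer
  obtain ⟨P, hP1, hP2, hP, hP3⟩ := exists_syl d.pg (sup_le hU1 (zpowers_le.2 hu.mem))
  have hP4 := d.chain.syl hu (g.index ht) ht g.perf hP3 hP2 (hP1 (mem_sup_right (mem_zpowers t)))
    hU1 l hB (fun x hx => by
      obtain ⟨m, hm, h1⟩ := (hl _).1 hx
      obtain ⟨j, hj, h2⟩ := exists_two_pow ((x : G) ^ m)
      exact g.mem_of_odd hm (g.mem_of_odd hj (h0 (A.mem_grp d.odd (pow_mem h1 j) h2))))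
    (fun x hx => (hl x).2 ⟨1, odd_one, by rw [pow_one]; exact le_N0 (mem_sup_left (T.U_le_grp hx))⟩)
    fun x hx h => by
      obtain ⟨m, hm, h1⟩ := (hl _).1 h
      exact A.inf_le_U hP (le_sup_left.trans hP1) ⟨hx, A.mem_grp d.odd
        (mem_of_odd_pow (pg_zpowers hP hx) hm h1) (pg_zpowers hP hx)⟩
  have fix : ∀ r (M : Subgroup G), t * T.x r 1 * t⁻¹ * (T.x r 1)⁻¹ ∈ M := fun r M => by
    rw [d.tT, map_one, mul_inv_cancel]; exact one_mem _
  have D : FldData (NL T) Gs t T.U _ _ := ⟨d.chain, hU1, T.U_le_grp.trans h0,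
    fun R h1 h2 => (hP3 R h1 h2).imp fun x hx => ⟨hx.1, fun p hp => hP4 (hx.2 p hp)⟩,
    fun i _ j _ w hw h => comm_closure (T.UU_le_U fun _ h => h.1) (A.U_norm_ht _) (by
      rintro _ ⟨r, hr, c, rfl⟩
      exact A.linf _ (E.idl_ht _) r hr.1 w hw (h _ (T.x_mem_UU hr 1) (fix r _)) c),
    fun i _ m hm h x hx => conj_mem (norm_closure (by
      rintro _ ⟨r, hr, c, rfl⟩
      exact T.UU_mono (Set.singleton_subset_iff.2 hr) (conj_mem (A.norm_of_cent_x hm one_ne_zero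
        (h _ (T.x_mem_UU hr 1) (fix r _)).symm).1 (T.x_mem_X r c)))) hx,
    d.uw.mono (le_inf (d.UU_le _) fun x hx => mem_cent1.2 (d.toSit.com (S.U_le_grp hx)).symm)⟩
  have h1 : T.x E.θ 1 ≠ 1 := fun e => one_ne_zero (A.x_eq_one.1 e)
  exact g.eq_of_norm h0 (le_of_invol g.simple (h0 (T.x_mem_grp _ _)) h1 (A.x_sq _ _)
    fun u h2 h3 => D.mem hu (g.index ht) ht h2 h3) (T.x_mem_grp _ _) h1

end DblF

end CfsgLib.SLA
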