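import Mathlib
import Cfsg.Agent.Lib.SLA.NF
import Cfsg.Agent.Lib.SLA.J3
import Cfsg.Agent.Lib.RGD.Coef

/-!
# The Sylow subgroup `U` modulo its commutator subgroup
-/

set_option autoImplicit false
set_option linter.unusedSectionVars false

namespace CfsgLib.SLA

open CfsgLib.RGD CfsgLib.Stein CfsgLib.UFP Subgroup
open scoped commutatorElement Pointwise

universe u

variable {ι κ : Type} [Fintype κ] [DecidableEq κ] [Finite ι] {Φ : RootSys ι κ} {E : ER Φ}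
  {F : Type} [Field F] [Finite F] [CharP F 2] {G : Type u} [Group G] [Finite G]
  {S : StSys Φ F G}

theorem exists_ne' (hq : 2 < Nat.card F) : ∃ c : F, c ≠ 0 ∧ c ≠ 1 ∧ c ^ 2 ≠ 1 := by
  classical
  by_contra h
  push Not at h
  have : (Set.univ : Set F) ⊆ {0, 1} := fun c _ => by
    by_contra hc
    simp only [Set.mem_insert_iff, Set.mem_singleton_iff, not_or] at hc
    rcases sq_eq_one_iff.1 (h c hc.1 hc.2) with e | e
    exacts [hc.2 e, hc.2 (by rw [e, CharTwo.neg_eq])]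
  have h1 := Set.ncard_le_ncard this
  rw [Set.ncard_univ, Set.ncard_pair zero_ne_one] at h1
  omega

theorem ER.sep (E : ER Φ) (h4 : 4 ≤ E.m) {r s : ι} (h1 : s ≠ r) (h2 : s ≠ Φ.neg r) :
    ∃ d, ip Φ d s = 0 ∧ (ip Φ d r = 1 ∨ ip Φ d r = 2) := by
  have key : ∀ s, ip Φ r s = -1 → ∃ d, ip Φ d s = 0 ∧ ip Φ d r = 1 := fun s h => by
    have b1 := E.bd r
    have b2 := E.bd s
    rcases E.ip_neg_one_iff.1 h with h | h
    · obtain ⟨n, n1, n2⟩ := E.exists_idx [E.lo r, E.hi r, E.lo s] (by simp; omega)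
      simp only [List.mem_cons, List.not_mem_nil, or_false, not_or] at n2
      obtain ⟨d, d1, d2⟩ := E.exists_e n1 b1.2.1 n2.2.1
      exact ⟨d, E.ip_zero_iff.2 (by omega), E.ip_one_iff.2 (by omega)⟩
    · obtain ⟨n, n1, n2⟩ := E.exists_idx [E.lo r, E.hi r, E.hi s] (by simp; omega)
      simp only [List.mem_cons, List.not_mem_nil, or_false, not_or] at n2
      obtain ⟨d, d1, d2⟩ := E.exists_e b1.1 n1 (Ne.symm n2.1)
      exact ⟨d, E.ip_zero_iff.2 (by omega), E.ip_one_iff.2 (by omega)⟩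
  rcases E.ip_cases r s with h | h | h | h | h
  · exact absurd h.1 h1
  · obtain ⟨d, d1, d2⟩ := key (Φ.neg s) (by rw [ip_neg_right, h])
    exact ⟨d, by rwa [ip_neg_right, neg_eq_zero] at d1, Or.inl d2⟩
  · exact ⟨r, h, Or.inr (E.ip_self r)⟩
  · exact (key s h).imp fun _ h => ⟨h.1, Or.inl h.2⟩
  · exact absurd h.1 h2

theorem ER.ip_simple (E : ER Φ) {i j : κ} (h : i ≠ j) :
    ip Φ (Φ.simple i) (Φ.simple j) = 0 ∨ ip Φ (Φ.simple i) (Φ.simple j) = -1 := by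
  rcases E.ip_cases (Φ.simple i) (Φ.simple j) with h1 | h1 | h1 | h1 | h1
  · exact absurd (Φ.simple_injective h1.1).symm h
  · obtain ⟨b, hb⟩ := E.exists_sub h1
    have e1 := hb i
    have e2 := hb j
    simp only [Φ.rt_simple, if_neg h, if_neg h.symm, if_true] at e1 e2
    rcases Φ.sign b with h2 | h2
    · have := h2 i; omega
    · have := h2 j; omega
  · exact Or.inl h1
  · exact Or.inr h1
  · exact absurd h1.1 (Φ.ne_neg_of_pos (Φ.pos_simple i) (Φ.pos_simple j))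

theorem ER.simple_ne_θ (E : ER Φ) (i : κ) : Φ.simple i ≠ E.θ := fun e => by
  have h1 := radd_ht E.hβ
  have h2 := Φ.ht_pos E.pos_β
  rw [← e, ER.α, Φ.ht_simple, Φ.ht_simple] at h1
  omega

/-- the preimage of the `i`-th coordinate axis of `U / U'` -/
def Ax (hS : S.Nondeg) (i : κ) : Subgroup G where
  carrier := {u | u ∈ S.U ∧ ∀ j, j ≠ i → S.scoef j u = 0}
  one_mem' := ⟨one_mem _, fun j _ => hS.scoef_one j⟩
  mul_mem' h h' := ⟨mul_mem h.1 h'.1, fun j hj => by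
    rw [hS.scoef_mul j h.1 h'.1, h.2 j hj, h'.2 j hj, add_zero]⟩
  inv_mem' h := ⟨inv_mem h.1, fun j hj => by rw [hS.scoef_inv j h.1, h.2 j hj, neg_zero]⟩

namespace Amb

variable (A : Amb E S)
include A

theorem x_mem_comm {r : ι} (hr : Φ.Pos r) (h : ∀ i, r ≠ Φ.simple i) (c : F) :
    S.x r c ∈ ⁅S.U, S.U⁆ := by
  obtain ⟨i, a, ha, e⟩ := E.down_pos hr h
  rw [← mul_one c, ← A.rel.cm _ _ _ e]
  exact commutator_mem_commutator (S.x_mem_U ha c) (S.x_mem_U (Φ.pos_simple i) 1)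

theorem mem_comm {u : G} : u ∈ ⁅S.U, S.U⁆ ↔ u ∈ S.U ∧ ∀ i, S.scoef i u = 0 := by
  refine ⟨fun h => ⟨comm_le_self _ h, fun i => ?_⟩, fun h => ?_⟩
  · refine (A.nd.scoef_eq_zero_iff (comm_le_self _ h)).2 (commutator_le.2 (fun a ha b hb => ?_) h)
    have h1 := mul_mem (mul_mem ha hb) (inv_mem ha)
    rw [commutatorElement_def, ← A.nd.scoef_eq_zero_iff (mul_mem h1 (inv_mem hb)),
      A.nd.scoef_mul i h1 (inv_mem hb), A.nd.scoef_conj_U i ha hb, A.nd.scoef_inv i hb,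
      add_neg_cancel]
  · exact S.UU_le_iff.2 (fun r hr c => A.x_mem_comm hr.1 hr.2 c)
      (A.nd.mem_UU_of_scoef Φ.closed_pos (fun _ h => h) h.1 h.2)

theorem comm_le_Ax (i : κ) : ⁅S.U, S.U⁆ ≤ Ax A.nd i := fun _ h =>
  ⟨(A.mem_comm.1 h).1, fun j _ => (A.mem_comm.1 h).2 j⟩

theorem x_mem_Ax (i : κ) (c : F) : S.x (Φ.simple i) c ∈ Ax A.nd i :=
  ⟨S.x_mem_U (Φ.pos_simple i) c, fun _ hj => A.nd.scoef_x_of_ne (Φ.pos_simple i)
    (fun e => hj (Φ.simple_injective e).symm) c⟩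

theorem dec_Ax {i : κ} {u : G} (h : u ∈ Ax A.nd i) :
    (S.x (Φ.simple i) (S.scoef i u))⁻¹ * u ∈ ⁅S.U, S.U⁆ := by
  have h1 := (Ax A.nd i).mul_mem (inv_mem (A.x_mem_Ax i (S.scoef i u))) h
  refine A.mem_comm.2 ⟨h1.1, fun j => ?_⟩
  by_cases hj : j = i
  · rw [hj]; exact (A.nd.scoef_eq_zero_iff h1.1).2 (StSys.scoef_spec i h.1)
  · exact h1.2 j hj

theorem B_eq : S.grp ⊓ normalizer (S.U : Set G) = S.B := by rw [inf_comm, A.nd.normalizer_U]

theorem norm_Ax (i : κ) : S.B ≤ normalizer (Ax A.nd i : Set G) := fun b hb => by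
  obtain ⟨u, hu, h, hh, rfl⟩ := S.mem_B_iff.1 hb
  refine mul_mem (mem_normalizer_fintype fun x hx => ⟨mul_mem (mul_mem hu hx.1) (inv_mem hu),
    fun j hj => by rw [A.nd.scoef_conj_U j hu hx.1, hx.2 j hj]⟩)
    (mem_normalizer_fintype fun x hx => ⟨S.H_conj_mem_UU hh hx.1, fun j hj => ?_⟩)
  obtain ⟨l, -, hl⟩ := S.acts_of_mem_H hh
  rw [A.nd.scoef_conj j hl hx.1, hx.2 j hj, mul_zero]

theorem Ax_le (hm4 : 4 ≤ E.m) (hq : 2 < Nat.card F) {V : Subgroup G} (h1 : ⁅S.U, S.U⁆ ≤ V) (h2 : V ≤ S.U)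
    (h3 : S.B ≤ normalizer (V : Set G)) {v : G} (hv : v ∈ V) {i : κ} (hi : S.scoef i v ≠ 0) :
    Ax A.nd i ≤ V := fun u hu => by
  let T : AddSubgroup (κ → F) :=
    { carrier := {f | ∃ v ∈ V, f = fun j => S.scoef j v}
      zero_mem' := ⟨1, one_mem _, funext fun j => (A.nd.scoef_one j).symm⟩
      add_mem' := by
        rintro _ _ ⟨a, ha, rfl⟩ ⟨b, hb, rfl⟩
        exact ⟨a * b, mul_mem ha hb, funext fun j => (A.nd.scoef_mul j (h2 ha) (h2 hb)).symm⟩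
      neg_mem' := by
        rintro _ ⟨a, ha, rfl⟩
        exact ⟨a⁻¹, inv_mem ha, funext fun j => (A.nd.scoef_inv j (h2 ha)).symm⟩ }
  obtain ⟨c, c0, c1, c2⟩ := exists_ne' hq
  obtain ⟨w, hw, e⟩ := single_mem_of_stable T
    {χ | ∃ d c, c ≠ 0 ∧ χ = fun j => c ^ ip Φ d (Φ.simple j)} (by
      rintro _ ⟨d, c, hc, rfl⟩ _ ⟨a, ha, rfl⟩
      exact ⟨_, conj_mem (h3 (S.H_le_B (S.h_mem_H d hc))) ha,
        funext fun j => (A.nd.scoef_conj j (fun s => A.h_conj d s hc) (h2 ha)).symm⟩) (i := i)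
    (fun j hj => by
      obtain ⟨d, d1, d2⟩ := E.sep hm4 (r := Φ.simple i) (s := Φ.simple j)
        (fun e => hj (Φ.simple_injective e)) (Φ.ne_neg_of_pos (Φ.pos_simple i) (Φ.pos_simple j))
      refine ⟨_, ⟨d, c, c0, rfl⟩, by simp [d1], ?_⟩
      rcases d2 with d2 | d2 <;> simp only [d2]
      · rwa [zpow_one]
      · exact_mod_cast c2)
    (fun a ha => ⟨_, ⟨Φ.simple i, a, ha, rfl⟩, by simp only [E.ip_self]; exact zpow_two a ▸ (sq a).symm⟩)
    ⟨v, hv, rfl⟩ hi (S.scoef i u)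
  have h4 : w⁻¹ * u ∈ ⁅S.U, S.U⁆ := A.mem_comm.2 ⟨mul_mem (inv_mem (h2 hw)) hu.1, fun j => by
    rw [A.nd.scoef_mul j (inv_mem (h2 hw)) hu.1, A.nd.scoef_inv j (h2 hw), ← congrFun e j]
    by_cases hj : j = i
    · rw [hj, Pi.single_eq_same, neg_add_cancel]
    · rw [Pi.single_eq_of_ne hj, hu.2 j hj, neg_zero, add_zero]⟩
  exact (V.mul_mem_cancel_left (inv_mem hw)).1 (h1 h4)

theorem adj_iff (i j : κ) : ⁅Ax A.nd i, Ax A.nd j⁆ ≤ ⁅⁅S.U, S.U⁆, S.U⁆ ↔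
    0 ≤ ip Φ (Φ.simple i) (Φ.simple j) := by
  have hU : S.U ≤ S.UU {r | Φ.Pos r ∧ 1 ≤ Φ.ht r} := S.UU_mono fun r h => ⟨h, Φ.ht_pos h⟩
  refine ⟨fun h => ?_, fun h => commutator_le.2 fun a ha b hb => ?_⟩
  · by_contra hn
    obtain ⟨r, hr⟩ := E.exists_add ((E.ip_simple (i := i) (j := j) fun e => hn (by
      rw [e, E.ip_self]; omega)).resolve_left fun e => hn e.ge)
    have h1 := h (commutator_mem_commutator (A.x_mem_Ax i 1) (A.x_mem_Ax j 1))
    rw [commutatorElement_def, A.rel.cm _ _ _ hr] at h1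
    have h2 : ⁅S.U, S.U⁆ ≤ S.UU {r | Φ.Pos r ∧ 1 + 1 ≤ Φ.ht r} := commutator_le.2 fun a ha b hb =>
      A.comm_mem_wt Φ.ht (fun _ => Φ.ht_pos) (fun _ _ _ => radd_ht) (hU ha) (hU hb)
    have h3 : ⁅⁅S.U, S.U⁆, S.U⁆ ≤ S.UU {r | Φ.Pos r ∧ 1 + 1 + 1 ≤ Φ.ht r} :=
      commutator_le.2 fun a ha b hb =>
        A.comm_mem_wt Φ.ht (fun _ => Φ.ht_pos) (fun _ _ _ => radd_ht) (h2 ha) (hU hb)
    have h4 := (A.nd.mem_of_x_mem_UU (E.closed_of_idl (E.idl_ht _)) (fun _ h => h.1)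
      (mul_ne_zero one_ne_zero one_ne_zero) (h3 h1)).2
    rw [radd_ht hr, Φ.ht_simple, Φ.ht_simple] at h4
    omega
  · have hN : S.U ≤ normalizer ((⁅⁅S.U, S.U⁆, S.U⁆ : Subgroup G) : Set G) :=
      normalizer_commutator_ge_right _ _
    have h1 := A.dec_Ax ha
    have h2 := A.dec_Ax hb
    have h3 := A.com h (S.scoef i a) (S.scoef j b)
    have x1 := (A.x_mem_Ax i (S.scoef i a)).1
    have x2 := (A.x_mem_Ax j (S.scoef j b)).1
    generalize S.x (Φ.simple i) (S.scoef i a) = x, S.x (Φ.simple j) (S.scoef j b) = y at *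
    have h4 := mul_mem (conj_mem (hN x1) (commutator_mem_commutator h1 hb.1))
      (conj_mem (hN x2) (inv_mem (commutator_mem_commutator h2 x1)))
    rwa [show x * ⁅x⁻¹ * a, b⁆ * x⁻¹ * (y * ⁅y⁻¹ * b, x⁆⁻¹ * y⁻¹) =
      a * b * a⁻¹ * x * b⁻¹ * x⁻¹ * (y * x) * y⁻¹ * b * x⁻¹ * b⁻¹ by
        simp only [commutatorElement_def]; group, ← h3,
      show a * b * a⁻¹ * x * b⁻¹ * x⁻¹ * (x * y) * y⁻¹ * b * x⁻¹ * b⁻¹ = ⁅a, b⁆ by
        simp only [commutatorElement_def]; group] at h4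

theorem fix_Ax {k : G} (hk : k ∈ normalizer (S.U : Set G)) (ho : Odd (orderOf k))
    (h : ∀ i, ∃ j, MulAut.conj k • Ax A.nd i = Ax A.nd j) (i : κ) :
    k ∈ normalizer (Ax A.nd i : Set G) := by
  choose p hp using h
  have inj : ∀ i j, Ax A.nd i = Ax A.nd j → i = j := fun i j e => by
    by_contra hn
    have := (e.le (A.x_mem_Ax i 1)).2 i hn
    rw [A.nd.scoef_x_self] at this
    exact one_ne_zero this
  have pi : Function.Injective p := fun i j e =>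
    inj i j (MulAction.injective _ ((hp i).trans (e ▸ (hp j).symm)))
  have hU := Coprime.mem_normalizer_iff_conj_smul_eq.1 hk
  have h1 := E.sym (Equiv.ofBijective p (Finite.injective_iff_bijective.1 pi)) fun i j => by
    simp only [Equiv.ofBijective_apply, ← Φ.wt_simple, E.wt_eq]
    by_cases e : i = j
    · rw [e, E.ip_self, E.ip_self]
    have h2 : (0 ≤ ip Φ (Φ.simple (p i)) (Φ.simple (p j))) ↔ 0 ≤ ip Φ (Φ.simple i) (Φ.simple j) := by
      have e1 : ∀ X Y : Subgroup G, ⁅MulAut.conj k • X, MulAut.conj k • Y⁆ =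
          MulAut.conj k • ⁅X, Y⁆ := fun X Y => (map_commutator _ _ _).symm
      rw [← A.adj_iff, ← A.adj_iff, ← hp, ← hp, e1]
      conv_lhs => rw [← hU, e1, e1]
      exact pointwise_smul_le_pointwise_smul_iff
    have := E.ip_simple e
    have := E.ip_simple (pi.ne e)
    omega
  have h2 : k ^ 2 ^ 1 ∈ normalizer (Ax A.nd i : Set G) := by
    refine Coprime.mem_normalizer_iff_conj_smul_eq.2 ?_
    rw [pow_one, pow_two, map_mul, mul_smul, hp, hp]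
    exact congrArg _ (congrArg (fun π : Equiv.Perm κ => π i) h1)
  exact zpowers_le.2 h2 (mem_zpowers_two_pow ho 1)

theorem rn3 (h3 : E.m = 3) {δ : G} (hδ : δ ∈ normalizer (S.U : Set G)) (ho : Odd (orderOf δ)) (i : κ) :
    δ ∈ normalizer (S.UU ({r | Φ.Pos r} \ {Φ.simple i}) : Set G) := by
  have key : ∀ {E : ER Φ}, Amb E S → E.m = 3 →
      MulAut.conj δ • AA E S = AA E S ∨ MulAut.conj δ • AA E S = AA E.flip S := fun {E} A h3 =>
    (A.le_AA_or h3 (Coprime.conj_smul_le_iff.2 fun x hx => conj_mem hδ (A.AA_le_U hx)) fun x hx => by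
      have := A.AA_sq (Coprime.mem_conj_smul_iff.1 hx)
      calc x * x = δ * (δ⁻¹ * x * δ * (δ⁻¹ * x * δ)) * δ⁻¹ := by group
        _ = 1 := by rw [this]; group).imp
      (fun h => Core.eq_of_le_of_card_le h (Coprime.card_conj_smul _ _).ge) fun h =>
        Core.eq_of_le_of_card_le h (by rw [Coprime.card_conj_smul, A.card_AA, A.flip.card_AA]; rfl)
  have e0 : AA E.flip.flip S = AA E S := congrArg S.UU (Set.ext fun r => by
    have := E.bd r
    show E.m - 1 - (E.m - 1 - E.lo r) = 0 ↔ E.lo r = 0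
    omega)
  have k2 : ∀ {X Y : Subgroup G}, (MulAut.conj δ • X = X ∨ MulAut.conj δ • X = Y) →
      (MulAut.conj δ • Y = Y ∨ MulAut.conj δ • Y = X) → δ ∈ normalizer (X : Set G) := fun h1 h2 => by
    rcases h1 with h1 | h1
    · exact Coprime.mem_normalizer_iff_conj_smul_eq.2 h1
    rcases h2 with h2 | h2
    · exact Coprime.mem_normalizer_iff_conj_smul_eq.2
        (h1.trans (MulAction.injective _ (h1.trans h2.symm)).symm)
    · refine zpowers_le.2 (Coprime.mem_normalizer_iff_conj_smul_eq.2 ?_) (mem_zpowers_two_pow ho 1)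
      rw [pow_one, pow_two, map_mul, mul_smul, h1, h2]
  have a1 := key A h3
  have a2 := key A.flip h3
  rw [e0] at a2
  have i1 := E.idx_lt i
  have i2 := E.lo_simple i
  have i3 := E.hi_simple i
  by_cases hi : E.idx i = 0
  · convert k2 a2 a1 using 3
    rw [AA_flip]
    refine congrArg S.UU (Set.ext fun r => ?_)
    have := E.bd r
    simp only [Set.mem_diff, Set.mem_setOf_eq, Set.mem_singleton_iff, E.pos_iff, E.eq_iff]
    omega
  · convert k2 a1 a2 using 3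
    refine congrArg S.UU (Set.ext fun r => ?_)
    have := E.bd r
    simp only [Set.mem_diff, Set.mem_setOf_eq, Set.mem_singleton_iff, E.pos_iff, E.eq_iff]
    omega

/-- the field `rn` of `NUData` -/
theorem rn (hq : 2 < Nat.card F) {GN : Subgroup G} (hG : GN ≤ NL S) {δ : G}
    (hδ : δ ∈ normalizer (S.U : Set G)) (ho : Odd (orderOf δ))
    (ha : ActsLike GN S.U (S.grp ⊓ normalizer (S.U : Set G)) δ) (i : κ) :
    δ ∈ normalizer (S.UU ({r | Φ.Pos r} \ {Φ.simple i}) : Set G) := by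
  rcases E.three.eq_or_lt with hm3 | hm4
  · exact A.rn3 hm3.symm hδ ho i
  have ex : ∀ V : Subgroup G, V ≤ S.U → ¬ V ≤ ⁅S.U, S.U⁆ → ∃ v ∈ V, ∃ j, S.scoef j v ≠ 0 :=
    fun V h1 h2 => by
      by_contra h
      push Not at h
      exact h2 fun v hv => A.mem_comm.2 ⟨h1 hv, h v hv⟩
  have h1 := A.fix_Ax hδ ho (rn_of_axes (Ax A.nd)
    (fun c hc h => norm_inf (hG hc) (le_normalizer h)) inf_le_right
    (fun b hb h => A.mem_U_of_norm hb.1 h hb.2) (fun b hb b' hb' u hu => ?_) A.comm_le_Ax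
    (fun _ _ h => h.1) (fun i h => one_ne_zero
      ((A.nd.scoef_x_self i 1).symm.trans ((A.mem_comm.1 (h (A.x_mem_Ax i 1))).2 i)))
    (fun i => A.B_eq ▸ A.norm_Ax i) (fun i V h1 h2 h3 => ?_) (fun V h1 h2 h3 h4 => ?_)
    (fun k hk ho h _ => A.fix_Ax hk ho h) hδ ha)
  · refine norm_closure ?_
    rintro _ ⟨r, hr, c, rfl⟩
    have h2 := conj_mem hδ (S.x_mem_U hr.1 c)
    refine (A.nd.scoef_eq_zero_iff h2).1 ?_
    by_cases h : ∃ j, r = Φ.simple j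
    · obtain ⟨j, rfl⟩ := h
      exact (conj_mem (h1 j) (A.x_mem_Ax j c)).2 i fun e => hr.2 (by rw [e]; rfl)
    · exact (A.mem_comm.1 (conj_mem (Core.normalizer_inf_le_normalizer_commutator _ _ ⟨hδ, hδ⟩)
        (A.x_mem_comm hr.1 (not_exists.1 h) c))).2 i
  · refine commutator_mem_commutator (show ⁅b, b'⁆ ∈ S.U from ?_) hu
    rw [A.B_eq] at hb hb'
    obtain ⟨v, hv, h, hh, rfl⟩ := S.mem_B_iff.1 hb
    obtain ⟨v', hv', h', hh', rfl⟩ := S.mem_B_iff.1 hb'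
    rw [show ⁅v * h, v' * h'⁆ = v * (h * v' * h⁻¹) * (h * h' * h⁻¹ * v⁻¹ * h'⁻¹) * v'⁻¹ by
      rw [commutatorElement_def]; group, A.r3.comm hh hh', mul_inv_cancel_right]
    exact mul_mem (mul_mem (mul_mem hv (S.H_conj_mem_UU hh hv'))
      (S.H_conj_mem_UU hh' (inv_mem hv))) (inv_mem hv')
  · refine or_iff_not_imp_left.2 fun h4 => ?_
    obtain ⟨v, hv, j, hj⟩ := ex V (fun _ h => (h2 h).1) h4
    obtain rfl : j = i := by
      by_contra e
      exact hj ((h2 hv).2 j e)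
    exact A.Ax_le hm4 hq h1 (fun _ h => (h2 h).1) (A.B_eq ▸ h3) hv hj
  · obtain ⟨v, hv, j, hj⟩ := ex V h2 h4
    exact ⟨j, A.Ax_le hm4 hq h1 h2 (A.B_eq ▸ h3) hv hj⟩

end Amb

end CfsgLib.SLA
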