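import Mathlib
import Cfsg.Agent.Lib.SLA.NK

/-!
# The action of `N(L)` on `U`
-/

set_option autoImplicit false
set_option linter.unusedSectionVars false

namespace CfsgLib.SLA

open CfsgLib.RGD CfsgLib.Stein CfsgLib.UFP Subgroup
open scoped commutatorElement Pointwise

universe u

variable {ι κ : Type} [Fintype κ] [DecidableEq κ] [Finite ι] {Φ : RootSys ι κ} {E : ER Φ}
  {F : Type} [Field F] [Finite F] [CharP F 2] {G : Type u} [Group G] [Finite G]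
  {S : StSys Φ F G}

theorem ER.exists_moved (E : ER Φ) (h : E.γ ≠ 1) : ∃ i, E.γ (Φ.simple i) ≠ Φ.simple i := by
  by_contra hn
  push Not at hn
  refine h (Equiv.ext (E.gen_simple {r | E.γ r = r} ?_ (fun r hr => ?_) fun a ha b hb k hk => ?_))
  · rintro _ ⟨i, rfl⟩; exact hn i
  · exact (E.γn r).trans (congrArg _ hr)
  · have := E.γa a b k hk
    rw [show E.γ a = a from ha, show E.γ b = b from hb] at this
    exact this.unique' hk

namespace Amb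

variable (A : Amb E S)
include A

theorem Z_cent {z u : G} (hz : z ∈ S.X E.θ) (hu : u ∈ S.U) : u * z = z * u :=
  mem_cent.1 (A.center_U.ge hz).2 u hu

theorem mem_W2' {w : G} (hw : w ∈ W2 E S) : ∃ c e e', w = S.x E.θ c * (S.x E.β e * S.x E.β' e') := by
  have co := E.co
  have n1 : E.θ ≠ E.β := fun e => by rw [E.eq_iff] at e; omega
  have n2 : E.θ ≠ E.β' := fun e => by rw [E.eq_iff] at e; omega
  have n3 : E.β ≠ E.β' := fun e => by rw [E.eq_iff] at e; omega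
  rw [A.W2_eq] at hw
  obtain ⟨f, -, e⟩ := S.exists_xprod (E.closed_of_idl (E.idl_ht _)) (fun _ h => h.1)
    (L := [E.θ, E.β, E.β']) (by simp [n1, n2, n3]) (fun r hr => by
      by_contra h
      simp only [List.mem_cons, List.not_mem_nil, or_false, not_or] at h
      exact absurd (E.ht_lt_β h.1 h.2.1 h.2.2) (not_lt.2 hr.2)) hw
  exact ⟨_, _, _, by rw [e, S.xprod_cons, S.xprod_cons, S.xprod_cons, S.xprod_nil, mul_one]⟩

theorem Z_le_of1 {K : Subgroup G} {c e : F} {y : G} (he : e ≠ 0) (hy : y ∈ S.U)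
    (h0 : ∀ a, S.x E.α a * y = y * S.x E.α a) {w : G} (hw : w = S.x E.θ c * (S.x E.β e * y) ∨
      w = S.x E.θ c * (y * S.x E.β e))
    (h : ∀ a, S.x E.α a * w * (S.x E.α a)⁻¹ * w⁻¹ ∈ K) : S.X E.θ ≤ K := by
  refine S.UU_le_iff.2 ?_
  rintro _ rfl a
  have h1 := h (a / e)
  have e1 : S.x E.α (a / e) * S.x E.θ c * (S.x E.α (a / e))⁻¹ = S.x E.θ c := by
    rw [A.Z_cent (S.x_mem_X _ c) (S.x_mem_U (r := E.α) (Φ.pos_simple _) _), mul_inv_cancel_right]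
  have e2 : S.x E.α (a / e) * y * (S.x E.α (a / e))⁻¹ = y := by rw [h0, mul_inv_cancel_right]
  have e3 := A.conj_x E.hβ (a / e) e
  rw [div_mul_cancel₀ _ he] at e3
  have e4 : S.x E.α (a / e) * w * (S.x E.α (a / e))⁻¹ = w * S.x E.θ a := by
    rcases hw with rfl | rfl
    · rw [← conj_mul, ← conj_mul, e1, e2, e3, mul_assoc (S.x E.β e), ← A.Z_cent (S.x_mem_X _ a) hy]
      simp only [mul_assoc]
    · rw [← conj_mul, ← conj_mul, e1, e2, e3]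
      simp only [mul_assoc]
  have wU : w ∈ S.U := by
    rcases hw with rfl | rfl
    · exact mul_mem (S.x_mem_U E.pos_θ _) (mul_mem (S.x_mem_U E.pos_β _) hy)
    · exact mul_mem (S.x_mem_U E.pos_θ _) (mul_mem hy (S.x_mem_U E.pos_β _))
  rwa [e4, A.Z_cent (S.x_mem_X _ a) wU, mul_inv_cancel_right] at h1

theorem Z_le_of {K : Subgroup G} {w : G} (hw : w ∈ W2 E S) (hn : w ∉ S.X E.θ)
    (h : ∀ i a, S.x (Φ.simple i) a * w * (S.x (Φ.simple i) a)⁻¹ * w⁻¹ ∈ K) : S.X E.θ ≤ K := by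
  obtain ⟨c, e, e', rfl⟩ := A.mem_W2' hw
  have co := E.co
  by_cases he : e = 0
  · refine A.flip.Z_le_of1 (c := c) (e := e') (y := S.x E.β e) (fun he' => hn ?_) (S.x_mem_U E.pos_β _)
      (fun a => A.com (a := E.α') (E.nonneg_iff.2 (by omega)) _ _) (Or.inr rfl) (h E.i₁)
    rw [he, he', S.x_zero, S.x_zero, mul_one, mul_one]; exact S.x_mem_X _ c
  · exact A.Z_le_of1 he (S.x_mem_U E.pos_β' _)
      (fun a => A.com (E.nonneg_iff.2 (by omega)) _ _) (Or.inl rfl) (h E.i₀)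

theorem cz {w : G} (h1 : w ∈ NL S) (h2 : w ∈ normalizer (S.U : Set G)) {K : Subgroup G}
    (h : ∀ u ∈ S.U, w * u * w⁻¹ * u⁻¹ ∈ K) : S.X E.θ ≤ K ∨ w ∈ centralizer (S.U : Set G) := by
  have hZ : S.U ≤ normalizer (S.X E.θ : Set G) := fun u hu =>
    centralizer_le_normalizer _ (mem_cent.2 fun z hz => (A.Z_cent hz hu).symm)
  by_cases hN : ∀ u ∈ S.U, w * u * w⁻¹ * u⁻¹ ∈ S.X E.θ
  · obtain ⟨u, hu, h3⟩ := A.cenU E.idl_pos
      (fun T' h => E.gen_simple T' (fun _ ⟨i, e⟩ => h (e ▸ Φ.pos_simple i))) h1 fun r hr c => by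
      by_cases e : r = E.θ
      · obtain ⟨a, ha⟩ : ∃ a, a = S.x E.α c := ⟨_, rfl⟩
        obtain ⟨b, hb⟩ : ∃ b, b = S.x E.β 1 := ⟨_, rfl⟩
        have a1 : a ∈ S.U := ha ▸ S.x_mem_U (Φ.pos_simple _) c
        have b1 : b ∈ S.U := hb ▸ S.x_mem_U E.pos_β 1
        have e1 : S.x r c = a * b * a⁻¹ * b⁻¹ := by
          rw [ha, hb, e, A.rel.cm _ _ _ E.hβ, mul_one]
        have e2 := A.Z_cent (hN a a1) (mul_mem (mul_mem a1 (conj_mem h2 b1)) (inv_mem a1))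
        have e3 := A.Z_cent (hN b b1) a1
        have e4 := A.Z_cent (hN b b1) (mul_mem (mul_mem (mul_mem a1 b1) (inv_mem a1)) (inv_mem b1))
        have : w * S.x r c * w⁻¹ = S.x r c := by
          rw [e1]
          calc _ = w * a * w⁻¹ * a⁻¹ * (a * (w * b * w⁻¹) * a⁻¹) * (w * a * w⁻¹ * a⁻¹)⁻¹ *
                (w * b * w⁻¹)⁻¹ := by group
            _ = a * (w * b * w⁻¹ * b⁻¹) * b * a⁻¹ * b⁻¹ * (w * b * w⁻¹ * b⁻¹)⁻¹ := by
              rw [← e2]; group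
            _ = w * b * w⁻¹ * b⁻¹ * (a * b * a⁻¹ * b⁻¹) * (w * b * w⁻¹ * b⁻¹)⁻¹ := by
              rw [e3]; group
            _ = _ := by rw [← e4]; group
        rw [this, mul_inv_cancel]; exact one_mem _
      · refine S.UU_mono ?_ (hN _ (S.x_mem_U hr c))
        rintro _ rfl
        exact ⟨E.pos_θ, E.ht_lt_θ e⟩
    have h4 : ∀ v ∈ S.U, w * v * w⁻¹ = u⁻¹ * v * u⁻¹⁻¹ := fun v hv => by
      calc _ = u⁻¹ * (u * w * v) * w⁻¹ := by group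
        _ = _ := by rw [← mem_cent.1 h3 v (S.U_le_grp hv)]; group
    have h5 := A.mem_W_of_comm (inv_mem hu) fun i => by
      rw [← h4 _ (S.x_mem_U (Φ.pos_simple i) 1)]; exact hN _ (S.x_mem_U (Φ.pos_simple i) 1)
    by_cases he : u⁻¹ ∈ S.X E.θ
    · refine Or.inr (mem_cent.2 fun v hv => ?_)
      have := h4 v hv
      rw [← A.Z_cent he hv, mul_inv_cancel_right, mul_inv_eq_iff_eq_mul] at this
      exact this.symm
    · refine Or.inl (A.Z_le_of h5 he fun i a => comm_swap ?_)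
      rw [← h4 _ (S.x_mem_U (Φ.pos_simple _) a)]
      exact h _ (S.x_mem_U (Φ.pos_simple _) a)
  · have h3 : closure {g | ∃ u ∈ S.U, g = w * u * w⁻¹ * u⁻¹} ≤ K :=
      (closure_le _).2 fun _ ⟨u, hu, e⟩ => e ▸ h u hu
    have h4 : closure {g | ∃ u ∈ S.U, g = w * u * w⁻¹ * u⁻¹} ≤ S.U :=
      (closure_le _).2 fun _ ⟨u, hu, e⟩ => e ▸ mul_mem (conj_mem h2 hu) (inv_mem hu)
    have h5 : S.U ≤ normalizer ((closure {g | ∃ u ∈ S.U, g = w * u * w⁻¹ * u⁻¹} : Subgroup G) : Set G) :=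
      fun v hv => norm_closure (by
        rintro _ ⟨u, hu, rfl⟩
        rw [show v * (w * u * w⁻¹ * u⁻¹) * v⁻¹ = (w * v * w⁻¹ * v⁻¹)⁻¹ *
          (w * (v * u) * w⁻¹ * (v * u)⁻¹) by group]
        exact mul_mem (inv_mem (subset_closure ⟨v, hv, rfl⟩)) (subset_closure ⟨_, mul_mem hv hu, rfl⟩))
    obtain ⟨x, x1, x2, -, x3⟩ := exists_layer A.pg_U h4 h5 hZ fun hle =>
      hN fun u hu => hle (subset_closure ⟨u, hu, rfl⟩)
    exact Or.inl (A.Z_le_of (A.mem_W_of_comm (h4 x1) fun i =>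
      comm_swap (x3 _ (S.x_mem_U (Φ.pos_simple i) 1))) x2 fun i a =>
      h3 (mul_mem (conj_mem (h5 (S.x_mem_U (Φ.pos_simple _) a)) x1) (inv_mem x1)))

theorem typ_of_cent {w : G} (h1 : w ∈ NL S) (h2 : w ∈ normalizer (S.U : Set G))
    (h3 : w ∈ centralizer (S.X E.θ : Set G)) : w ∈ N0 S ∨ (E.γ ≠ 1 ∧ Typ S w E.γ 1) := by
  obtain ⟨π, σ, hπ, h⟩ := A.aut w h1
  obtain ⟨u, hu, d, -, hd⟩ := A.exists_std h hπ h2
  have e : ∀ c, d E.θ * σ c = c := fun c => A.nd.x_injective E.θ (by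
    have := hd E.θ c
    rw [(E.gp hπ).θ] at this
    rw [← this, mul_assoc u, ← mem_cent.1 h3 _ (S.x_mem_X _ c), ← mul_assoc,
      A.Z_cent (S.x_mem_X _ c) hu]
    group)
  have e1 := e 1
  rw [map_one, mul_one] at e1
  obtain rfl : σ = 1 := RingEquiv.ext fun c => by simpa [e1] using e c
  by_cases h4 : π = 1
  · subst h4; exact Or.inl h
  · obtain rfl := hπ.resolve_left h4
    exact Or.inr ⟨h4, h⟩

theorem split {w : G} (h1 : w ∈ N0 S) (h2 : w ∈ normalizer (S.U : Set G))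
    (hp : IsPGroup 2 (zpowers w)) : ∃ l ∈ S.U, ∃ c ∈ CL S, w = l * c := by
  obtain ⟨l, hl, c, hc, rfl, h3, -⟩ := A.exists_mul_of_N0 h1 hp
  exact ⟨l, A.mem_U_of_norm hl h3 ((Subgroup.mul_mem_cancel_right _
    (centralizer_le_normalizer _ (centralizer_le S.U_le_grp hc))).1 h2), c, hc, rfl⟩

theorem exists_x_mem (hq : 2 < Nat.card F) {J : Subgroup G}
    (hJ : ∀ a ∈ S.U, ∀ b ∈ S.U, a ∉ J → b ∉ J → a * b ∈ J) {r : ι} (hr : Φ.Pos r) :
    ∃ c, c ≠ 0 ∧ S.x r c ∈ J := by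
  obtain ⟨c, c0, c1, -⟩ := exists_ne' hq
  by_cases h1 : S.x r 1 ∈ J
  · exact ⟨1, one_ne_zero, h1⟩
  by_cases h2 : S.x r c ∈ J
  · exact ⟨c, c0, h2⟩
  refine ⟨c + 1, fun e => c1 ?_, S.x_add r c 1 ▸ hJ _ (S.x_mem_U hr c) _ (S.x_mem_U hr 1) h2 h1⟩
  rw [eq_neg_of_add_eq_zero_left e, CharTwo.neg_eq]

theorem comm_le_of_index (hq : 2 < Nat.card F) {J : Subgroup G}
    (hJ : ∀ a ∈ S.U, ∀ b ∈ S.U, a ∉ J → b ∉ J → a * b ∈ J) : ⁅S.U, S.U⁆ ≤ ⁅J, J⁆ := fun u hu => by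
  refine S.UU_le_iff.2 (fun r hr c => ?_) (A.nd.mem_UU_of_scoef Φ.closed_pos (fun _ h => h)
    (A.mem_comm.1 hu).1 (A.mem_comm.1 hu).2)
  obtain ⟨i, a, ha, h⟩ := E.down_pos hr.1 hr.2
  have hb := Φ.pos_simple i
  generalize Φ.simple i = b at *
  by_cases h1 : ∀ u, S.x a u ∈ J
  · obtain ⟨e, e0, he⟩ := A.exists_x_mem hq hJ hb
    rw [← div_mul_cancel₀ c e0, ← A.rel.cm _ _ _ h]
    exact commutator_mem_commutator (h1 _) he
  push Not at h1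
  obtain ⟨v, hv⟩ := h1
  obtain ⟨e, e0, he⟩ := A.exists_x_mem hq hJ ha
  have h2 : ∃ v, S.x a v * S.x b (c / e) ∈ J := by
    by_cases h2 : S.x b (c / e) ∈ J
    · exact ⟨0, by rwa [S.x_zero, one_mul]⟩
    · exact ⟨v, hJ _ (S.x_mem_U ha _) _ (S.x_mem_U hb _) hv h2⟩
  obtain ⟨v, h2⟩ := h2
  have h3 := commutator_mem_commutator h2 he
  rwa [show ⁅S.x a v * S.x b (c / e), S.x a e⁆ = S.x a v * (S.x b (c / e) * S.x a e *
    (S.x b (c / e))⁻¹ * (S.x a e)⁻¹) * (S.x a e * (S.x a v)⁻¹) * (S.x a e)⁻¹ by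
      rw [commutatorElement_def]; group, A.rel.cm _ _ _ h.symm, div_mul_cancel₀ c e0,
    A.com (by have := (E.radd_ip h).2.1; omega), A.x_inv a v, S.x_comm a e v, ← mul_assoc,
    mul_inv_cancel_right, mul_assoc, A.x_sq, mul_one] at h3

theorem exists_gr (hq : 2 < Nat.card F) {J : Subgroup G}
    (hJ : ∀ a ∈ S.U, ∀ b ∈ S.U, a ∉ J → b ∉ J → a * b ∈ J) {w : G} (h1 : E.γ ≠ 1)
    (h2 : Typ S w E.γ 1) (h3 : w ∈ normalizer (S.U : Set G)) :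
    ∃ u ∈ J, w * u * w⁻¹ * u⁻¹ ∉ ⁅S.U, S.U⁆ := by
  obtain ⟨i, hi⟩ := E.exists_moved h1
  obtain ⟨c, c0, hc⟩ := A.exists_x_mem hq hJ (Φ.pos_simple i)
  obtain ⟨u, hu, d, -, hd⟩ := A.exists_std h2 (Or.inr rfl) h3
  refine ⟨_, hc, fun h => c0 ?_⟩
  have h4 := (A.mem_comm.1 h).2 i
  have h5 := (E.γ_pos _).2 (Φ.pos_simple i)
  have h6 := S.x_mem_U (Φ.pos_simple i) c
  rwa [A.nd.scoef_mul i (conj_mem h3 h6) (inv_mem h6), show w * S.x (Φ.simple i) c * w⁻¹ =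
    u⁻¹ * (u * w * S.x (Φ.simple i) c * (u * w)⁻¹) * u⁻¹⁻¹ by group, hd,
    A.nd.scoef_conj_U i (inv_mem hu) (S.x_mem_U h5 _), A.nd.scoef_x_of_ne h5 hi,
    A.nd.scoef_inv i h6, A.nd.scoef_x_self, zero_add, neg_eq_zero] at h4

theorem fpf (hq : 2 < Nat.card F) {K : Subgroup G}
    (h : ∀ b ∈ S.grp ⊓ normalizer (S.U : Set G), ∀ u ∈ S.U, b * u * b⁻¹ * u⁻¹ ∈ K) : S.U ≤ K := by
  obtain ⟨c, c0, -, c2⟩ := exists_ne' hq
  refine S.UU_le_iff.2 fun r hr a => ?_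
  have h1 := h _ (A.B_eq.ge (S.H_le_B (S.h_mem_H r c0))) _ (S.x_mem_U hr (a / (c ^ 2 - 1)))
  rwa [A.h_conj r r c0, ← S.x_sub, E.ip_self, zpow_two, ← sq, ← sub_one_mul,
    mul_div_cancel₀ _ (sub_ne_zero.2 c2)] at h1

theorem cR (i : κ) {w : G} (h1 : w ∈ NL S)
    (h2 : w ∈ centralizer (S.UU ({r | Φ.Pos r} \ {Φ.simple i}) : Set G)) :
    ∃ u ∈ S.UU ({r | Φ.Pos r} \ {Φ.simple i}), u * w ∈ CL S := by
  obtain ⟨u, hu, h3⟩ := A.cenU (E.idl_diff i) (E.gen_diff i) h1 fun r hr c => by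
    rw [← mem_cent_UU.1 h2 r hr c, mul_inv_cancel_right, mul_inv_cancel]; exact one_mem _
  refine ⟨u, A.mem_of_cf hu fun r hr h => ?_, h3⟩
  obtain rfl : r = Φ.simple i := by
    by_contra e
    exact h ⟨hr, e⟩
  obtain ⟨j, k, hk⟩ := E.up_pos hr (E.simple_ne_θ i)
  have hj : Φ.simple j ≠ Φ.simple i := fun e => by
    have := (E.radd_ip hk).1
    rw [e, E.ip_self] at this; omega
  have h4 := (A.cf_comm Φ.ht (fun _ => Φ.ht_pos) (fun _ _ _ => radd_ht) (m := 1)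
    (S.UU_mono (fun r h => by exact ⟨h, Φ.ht_pos h⟩) hu) (Φ.pos_simple j)
    (by rw [radd_ht hk, Φ.ht_simple]) 1).1 _ hk
  have h5 : u * S.x (Φ.simple j) 1 = S.x (Φ.simple j) 1 * u := mul_right_cancel (b := w) (by
    rw [mul_assoc, mem_cent_UU.1 h2 _ (show Φ.simple j ∈ {r | Φ.Pos r} \ {Φ.simple i} from
      ⟨Φ.pos_simple j, hj⟩), ← mul_assoc,
      ← mem_cent.1 h3 _ (S.x_mem_grp _ _), mul_assoc])
  rw [h5, mul_inv_cancel_right, mul_inv_cancel, A.cf_one, one_mul] at h4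
  exact h4.symm

theorem P_norm (i : κ) : S.P {i} ≤ normalizer (S.UU ({r | Φ.Pos r} \ {Φ.simple i}) : Set G) := by
  rw [StSys.pos_diff_simple_eq]; exact S.P_le_normalizer_UJ _

theorem gen {K : Subgroup G} (h : ∀ i, ∀ l ∈ S.grp ⊓
    normalizer (S.UU ({r | Φ.Pos r} \ {Φ.simple i}) : Set G), ∀ u ∈ S.U, l * u * l⁻¹ ∈ K) :
    S.grp ≤ K := by
  have e := S.UU_simple_eq Set.univ
  rw [show {r | Φ.InSub Set.univ r} = Set.univ from Set.eq_univ_of_forall Φ.inSub_univ] at e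
  rw [StSys.grp, ← e]
  refine S.UU_le_iff.2 ?_
  rintro r ⟨i, -, rfl | rfl⟩ c
  · simpa using h i 1 (one_mem _) _ (S.x_mem_U (Φ.pos_simple i) c)
  · rw [← (E.rf_self (Φ.simple i)).1, ← A.exa_n]
    exact h i _ ⟨S.n_mem_grp _ _, A.P_norm i (StSys.NJ_le_P _
      (S.n_simple_mem_NJ (J := {i}) rfl one_ne_zero))⟩ _ (S.x_mem_U (Φ.pos_simple i) c)

end Amb

end CfsgLib.SLA
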