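import Mathlib
import Cfsg.Agent.Lib.SLA.Hat2

/-!
# The coordinate ring of the hats
-/

set_option autoImplicit false
set_option linter.unusedSectionVars false

namespace CfsgLib.SLA

open CfsgLib.RGD CfsgLib.Stein Subgroup
open scoped commutatorElement Pointwise

universe u

variable {ι κ : Type} [Fintype κ] [DecidableEq κ] [Finite ι] {Φ : RootSys ι κ} {E : ER Φ}
  {F : Type} [Field F] [Finite F] [CharP F 2] {G : Type u} [Group G] [Finite G]
  {S : StSys Φ F G}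

omit [Finite ι] [Finite F] [CharP F 2] [Finite G] in
/-- the hats are `x_r(a) m_r(b)`; the coordinate ring is `F[ω] / (ω² + ω + c)` -/
structure RingD (E : ER Φ) (S : StSys Φ F G) (t : G) (Z : ι → Subgroup G) (m : ι → F → G) (c : F) :
    Prop extends Hats2 E S t Z where
  mZ : ∀ r u, m r u ∈ Z r
  add : ∀ r u v, m r (u + v) = m r u * m r v
  tm : ∀ r u, t * m r u * t⁻¹ = m r u * S.x r u
  mx : ∀ a b r, RAdd Φ a b r → ∀ u v, m a u * S.x b v * (m a u)⁻¹ * (S.x b v)⁻¹ = m r (u * v)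
  mm : ∀ a b r, RAdd Φ a b r → ∀ u v,
    m a u * m b v * (m a u)⁻¹ * (m b v)⁻¹ = S.x r (c * (u * v)) * m r (u * v)

theorem rg_exa_comm {n g k : G} : n * (g * k * g⁻¹ * k⁻¹) * n⁻¹ =
    n * g * n⁻¹ * (n * k * n⁻¹) * (n * g * n⁻¹)⁻¹ * (n * k * n⁻¹)⁻¹ := by group

namespace Hats2

variable {t : G} {Z : ι → Subgroup G} (h : Hats2 E S t Z)
include h

theorem cm_left {a b r : ι} (hr : RAdd Φ a b r) {g g' k : G} (hg : g ∈ Z a) (hg' : g' ∈ Z a)
    (hk : k ∈ Z b) :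
    g * g' * k * (g * g')⁻¹ * k⁻¹ = g * k * g⁻¹ * k⁻¹ * (g' * k * g'⁻¹ * k⁻¹) := by
  have h1 := h.cz a b r hr g' hg' k hk
  have h2 := h.cz a b r hr g hg k hk
  rw [h.toHats.com_self h2 h1, ← ht2_conj (h.com a r (by rw [(E.radd_ip hr).2.1]; omega) g hg _ h1)]
  group

theorem cm_right {a b r : ι} (hr : RAdd Φ a b r) {g k k' : G} (hg : g ∈ Z a) (hk : k ∈ Z b)
    (hk' : k' ∈ Z b) :
    g * (k * k') * g⁻¹ * (k * k')⁻¹ = g * k * g⁻¹ * k⁻¹ * (g * k' * g⁻¹ * k'⁻¹) := by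
  have h1 := h.cz a b r hr g hg k' hk'
  rw [← ht2_conj (h.com b r (by rw [(E.radd_ip hr).2.2]; omega) k hk _ h1)]
  group

theorem cm_symm {a b r : ι} (hr : RAdd Φ a b r) {g k : G} (hg : g ∈ Z a) (hk : k ∈ Z b) :
    k * g * k⁻¹ * g⁻¹ = g * k * g⁻¹ * k⁻¹ := by
  rw [← ht2_inv (h.toHats.sq (h.cz a b r hr g hg k hk))]
  group

/-- the Weyl element `n_b(λ)` maps a hat to its commutator with `x_b(λ)` -/
theorem rg_n {a b r : ι} (hr : RAdd Φ a b r) {g : G} (hg : g ∈ Z a) {l : F} (hl : l ≠ 0) :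
    S.n b l * g * (S.n b l)⁻¹ = g * S.x b l * g⁻¹ * (S.x b l)⁻¹ := by
  have H := h.toHats
  have p := E.radd_ip hr
  have j : ∀ {s g} (x : G), g ∈ Z s → x * g * x⁻¹ = g * (g * x * g⁻¹ * x⁻¹) := fun x hg => by
    simp only [← mul_assoc, H.sq hg, one_mul, ht2_inv (H.sq hg)]
  have hn : S.n b l * g * (S.n b l)⁻¹ ∈ Z r := by
    have := h.amb.n_conj b a hl 1
    rw [(E.rf_add hr).1] at this
    exact H.conj_mem (h.toSit.com (S.N_le_grp (S.n_mem_N b hl))) this hg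
  have hk := h.cx a b r hr g hg l
  have hr' : RAdd Φ r (Φ.neg b) a := fun i => by rw [hr i, Φ.rt_neg]; ring
  have hk' := h.cx _ _ _ hr' _ hk (-l⁻¹)
  have j1 := j (S.x b l) hg
  have j2 := j (S.x (Φ.neg b) (-l⁻¹)) hk
  generalize g * S.x b l * g⁻¹ * (S.x b l)⁻¹ = k at hk hk' j1 j2 ⊢
  generalize k * S.x (Φ.neg b) (-l⁻¹) * k⁻¹ * (S.x (Φ.neg b) (-l⁻¹))⁻¹ = k' at hk' j2
  have j3 := ht2_conj (H.com_x (s := Φ.neg b) (by rw [ip_neg_left, ip_comm]; omega) hg (-l⁻¹)).symm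
  have j4 := ht2_conj (H.com_x (s := b) (by omega) hk l).symm
  have hm := mul_mem hg hk'
  have e : S.n b l * g * (S.n b l)⁻¹ =
      g * k' * (g * k' * S.x b l * (g * k')⁻¹ * (S.x b l)⁻¹) * k := by
    rw [← j _ hm, ← j4, conj_mul, mul_assoc g, h.com a r (by omega) _ hk' _ hk, ← j2]
    conv_rhs => rw [← j3, conj_mul, ← j1]
    rw [StSys.n]
    group
  rw [e, mul_mem_cancel_right hk, mul_mem_cancel_right (h.cx a b r hr _ hm l)] at hn
  rw [e, H.eq_one (fun e : a = r => by have := E.ip_self r; rw [e] at p; omega) hm hn]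
  group

theorem exists_m : ∃ m : ι → F → G, (∀ r u, m r u ∈ Z r) ∧ (∀ r u, m r u * t * (m r u)⁻¹ = t * S.x r u) ∧
    (∀ r, m r 0 = 1) ∧
    ∀ n ∈ S.grp, ∀ r u s w, n * S.x r u * n⁻¹ = S.x s w → n * m r u * n⁻¹ = m s w := by
  classical
  obtain ⟨v, hv, e⟩ := h.surj E.θ 1
  choose l hl he _ using fun r c (hc : c ≠ 0) => h.amb.exists_conj_x r hc
  have hl' := fun r c hc => S.N_le_grp (hl r c hc)
  refine ⟨fun r u => if hu : u = 0 then 1 else l r u hu * v * (l r u hu)⁻¹, fun r u => ?_, fun r u => ?_,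
    fun r => dif_pos rfl, fun n hn r u s w e1 => ?_⟩
  all_goals beta_reduce
  · split_ifs with hu
    exacts [one_mem _, h.toHats.conj_mem (h.toSit.com (hl' r u hu)) (he r u hu) hv]
  · split_ifs with hu
    · rw [hu, S.x_zero]; group
    · rw [← he r u hu]
      conv_rhs => rw [← ht2_conj (h.toSit.com (hl' r u hu)), conj_mul, ← e]
      conv_lhs => rw [← ht2_conj (h.toSit.com (hl' r u hu))]
      group
  · by_cases hu : u = 0
    · rw [hu, S.x_zero, mul_one, mul_inv_cancel, eq_comm, h.amb.x_eq_one] at e1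
      rw [dif_pos hu, dif_pos e1]; group
    have hw : w ≠ 0 := fun hw => hu (by
      rwa [hw, S.x_zero, mul_inv_eq_one, mul_eq_left, h.amb.x_eq_one] at e1)
    rw [dif_neg hu, dif_neg hw]
    have := h.toHats.cen_of (mul_mem (inv_mem (hl' s w hw)) (mul_mem hn (hl' r u hu))) (ht2_of_conj (by
      rw [show ∀ a b c x : G, a⁻¹ * (b * c) * x * (a⁻¹ * (b * c))⁻¹ = a⁻¹ * (b * (c * x * c⁻¹) * b⁻¹) * a from
        fun a b c x => by group, he, e1, ← he s w hw]
      group)) hv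
    conv_rhs => rw [← ht2_conj this]
    group

end Hats2

theorem rg_bilin {c : F → F → F} (h1 : ∀ u u' v, c (u + u') v = c u v + c u' v)
    (h2 : ∀ u v v', c u (v + v') = c u v + c u v') (h3 : ∀ l, l ≠ 0 → ∀ u v, c (l * u) (l * v) = l * l * c u v)
    (u v : F) : c u v = c 1 1 * (u * v) := by
  have h4 : ∀ l u v, c (l * u) (l * v) = l * l * c u v := fun l u v => by
    by_cases hl : l = 0
    · have := h1 0 0 0
      rw [add_zero, left_eq_add] at this
      rw [hl, zero_mul, zero_mul, zero_mul, zero_mul, this]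
    · exact h3 l hl u v
  have h5 : ∀ l u v, c u (l * v) = c (l * u) v := fun l u v => by
    have := h4 (1 + l) u v
    rw [add_mul, add_mul, one_mul, one_mul, h1, h2, h2, h4] at this
    have h6 : (2 : F) = 0 := CharTwo.two_eq_zero
    linear_combination this + (l * c u v - c (l * u) v) * h6
  obtain ⟨l, hl⟩ := FiniteField.isSquare_of_char_two (ringChar.eq F 2) (v * u)
  rw [← mul_one v, h5, hl, ← h5, ← mul_one l, mul_assoc, one_mul, h4, mul_one, mul_comm u, hl, mul_comm]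

theorem Hats2.ringD {t : G} {Z : ι → Subgroup G} (h : Hats2 E S t Z) :
    ∃ m c, RingD E S t Z m c := by
  obtain ⟨m, mZ, mt, m0, mn⟩ := h.exists_m
  have A := h.amb
  have xZ := h.toHats.xZ
  have mx : ∀ a b r, RAdd Φ a b r → ∀ u v, m a u * S.x b v * (m a u)⁻¹ * (S.x b v)⁻¹ = m r (u * v) :=
    fun a b r hr u v => by
      by_cases hv : v = 0
      · rw [hv, mul_zero, m0, S.x_zero]; group
      rw [← h.rg_n hr (mZ a u) hv]
      refine mn _ (S.N_le_grp (S.n_mem_N b hv)) _ _ _ _ ?_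
      rw [A.n_conj _ _ hv, (E.rf_add hr).1, ip_comm, (E.radd_ip hr).1, neg_neg, zpow_one, mul_comm]
  have add : ∀ r u v, m r (u + v) = m r u * m r v := fun r u v => by
    obtain ⟨a, b, hr⟩ := E.exists_radd r
    have := h.cm_right hr (mZ a 1) (xZ b u) (xZ b v)
    rwa [← S.x_add, mx _ _ _ hr, mx _ _ _ hr, mx _ _ _ hr, one_mul, one_mul, one_mul] at this
  have tm : ∀ r u, t * m r u * t⁻¹ = m r u * S.x r u := fun r u => by
    have h1 := mt r u
    have h2 := mZ r u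
    generalize m r u = k at h1 h2
    rw [ht2_inv (h.toHats.sq h2)] at h1
    rw [h.toHats.com_self h2 (xZ r u), ht2_inv h.t2]
    calc t * k * t = t * (k * t * k) * k := by
          simp only [mul_assoc, h.toHats.sq h2, mul_one]
      _ = _ := by rw [h1, ← mul_assoc, h.t2, one_mul]
  have xm : ∀ a b r, RAdd Φ a b r → ∀ u v,
      S.x a u * m b v * (S.x a u)⁻¹ * (m b v)⁻¹ = m r (u * v) := fun a b r hr u v => by
    rw [h.cm_symm hr.symm (mZ _ _) (xZ _ _), mx _ _ _ hr.symm, mul_comm]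
  have ex : ∀ a b r, RAdd Φ a b r → ∀ u v, ∃ c,
      m a u * m b v * (m a u)⁻¹ * (m b v)⁻¹ = S.x r c * m r (u * v) := fun a b r hr u v => by
    have h1 := h.cz _ _ _ hr _ (mZ _ u) _ (mZ _ v)
    have e1 : t * (m a u * m b v * (m a u)⁻¹ * (m b v)⁻¹) * t⁻¹ =
        m a u * m b v * (m a u)⁻¹ * (m b v)⁻¹ * S.x r (u * v) := by
      rw [rg_exa_comm, tm, tm, h.cm_left hr (mZ _ _) (xZ _ _) (mul_mem (mZ _ _) (xZ _ _)),
        h.cm_right hr (mZ _ _) (mZ _ _) (xZ _ _), h.cm_right hr (xZ _ _) (mZ _ _) (xZ _ _),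
        mx _ _ _ hr, xm _ _ _ hr, A.rel.cm _ _ _ hr, mul_assoc _ (m r (u * v)),
        ← mul_assoc (m r (u * v)), h.toHats.sq (mZ _ _), one_mul]
    generalize m a u * m b v * (m a u)⁻¹ * (m b v)⁻¹ = k at e1 h1 ⊢
    obtain ⟨c, hc⟩ := S.mem_X_iff.1 (h.ker r _ (mul_mem h1 (inv_mem (mZ _ (u * v)))) (ht2_of_conj (by
      rw [← conj_mul, e1, ← conj_inv, tm]; group)).symm)
    exact ⟨c, by rw [← hc]; group⟩
  obtain ⟨c, hc⟩ := ex _ _ _ E.hβ 1 1
  refine ⟨m, c, { h with mZ := mZ, add := add, tm := tm, mx := mx, mm := fun a b r hr u v => ?_ }⟩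
  choose C hC using ex a b r hr
  have p := E.radd_ip hr
  have cm : ∀ e w, m r w * S.x r e = S.x r e * m r w := fun e w => h.toHats.com_self (mZ _ _) (xZ _ _)
  have inj : ∀ {e e' w}, S.x r e * m r w = S.x r e' * m r w → e = e' := fun k =>
    A.nd.x_injective _ (mul_right_cancel k)
  have t1 : C 1 1 = c := by
    obtain ⟨w, hw, e3, e⟩ := E.ptransR hr
    obtain ⟨n, hn, he⟩ := A.exists_exa hw
    have mn' := fun r u => mn n (S.N_le_grp (A.N1_le hn)) r u _ _ (he r u)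
    have := congrArg (fun y => n * y * n⁻¹) hc
    rw [rg_exa_comm, mn', mn', ← conj_mul (a := S.x _ _), mn', he, e3] at this
    refine inj ((hC 1 1).symm.trans ?_)
    rcases e with ⟨e1, e2⟩ | ⟨e1, e2⟩ <;> rw [e1, e2] at this
    · exact this
    · rwa [← h.cm_symm hr (mZ _ _) (mZ _ _)]
  rw [hC, rg_bilin (c := C) (fun u u' v => inj (w := (u + u') * v) ?_) (fun u v v' => inj (w := u * (v + v')) ?_)
    (fun l hl u v => inj (w := l * l * (u * v)) ?_), t1]
  · rw [← hC, add, h.cm_left hr (mZ _ _) (mZ _ _) (mZ _ _), hC, hC, add_mul, add, S.x_add, mul_assoc,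
      ← mul_assoc (m r _), cm]
    simp only [mul_assoc]
  · rw [← hC, add, h.cm_right hr (mZ _ _) (mZ _ _) (mZ _ _), hC, hC, mul_add, add, S.x_add, mul_assoc,
      ← mul_assoc (m r _), cm]
    simp only [mul_assoc]
  · have mn' := fun s u => mn _ (S.H_le_grp (S.h_mem_H r hl)) s u _ _ (A.h_conj r s hl u)
    have := congrArg (fun y => S.h r l * y * (S.h r l)⁻¹) (hC u v)
    rw [rg_exa_comm, mn', mn', ← conj_mul (a := S.x _ _), mn', A.h_conj _ _ hl, ip_comm r a, ip_comm r b, p.2.1, p.2.2, E.ip_self,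
      zpow_one, zpow_two, hC, mul_mul_mul_comm] at this
    exact this

end CfsgLib.SLA
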